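import Cfsg.Agent.Omega.NO3S.OneQ.TIq.Phi

/-!
# NO-3S, `OneSz` (`q ≥ 4`, `n = 1`), case (N): the pure data without TI and with `D_x` arbitrary (bb OMEGA #20317)

* `Pre F L A I al` : the fields of `TIq.Gen` without `ti`, `fixI`, `cop`, `alpha`;
* `Pre.E` : `Ebar_l`, `Pre.Phi` : the pairing `Ebar_l × M → F`, `[e, al l x] = Phi e x • l`;
* `Pre.phi` : every `a ≠ 1` in `A l` moves some `e ∈ Ebar_l` by `l`.
-/

set_option autoImplicit false
set_option linter.unusedSimpArgs false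
set_option linter.unusedSectionVars false

namespace Cfsg.Agent.Omega.NO3S.OneQ.Sg

open Module TIq

/-- the fields -/
structure Pre (F : Type*) {M H : Type*} [Field F] [AddCommGroup M] [Module F M] [Group H] [DistribMulAction H M]
    (L : Set M) (A : M → Subgroup H) (I : M → Submodule F M) (al : M → M → H) : Prop where
  two : ∀ m : M, m + m = 0
  lin : ∀ (h : H) (c : F) (m : M), h • (c • m) = c • (h • m)
  zero : (0 : M) ∉ L
  gen : Submodule.span F L = ⊤
  smul : ∀ (h : H) {l : M}, l ∈ L → h • l ∈ L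
  fsm : ∀ {c : F} {l : M}, c ≠ 0 → l ∈ L → c • l ∈ L
  A_sm : ∀ {c : F} {l : M}, c ≠ 0 → l ∈ L → A (c • l) = A l
  I_sm : ∀ {c : F} {l : M}, c ≠ 0 → l ∈ L → I (c • l) = I l
  trans : ∀ {l m : M}, l ∈ L → m ∈ L → ∃ (h : H) (c : F), c ≠ 0 ∧ h • l = c • m
  A_conj : ∀ (h : H) {l : M} {a : H}, l ∈ L → a ∈ A l → h * a * h⁻¹ ∈ A (h • l)
  I_conj : ∀ (h : H) {l u : M}, l ∈ L → u ∈ I l → h • u ∈ I (h • l)
  sq : ∀ {l : M} {a : H}, l ∈ L → a ∈ A l → a * a = 1
  ne : ∀ {l : M}, l ∈ L → ∃ a ∈ A l, a ≠ 1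
  self : ∀ {l : M}, l ∈ L → l ∈ I l
  comm : ∀ {l : M} {a : H}, l ∈ L → a ∈ A l → ∀ m : M, a • m + m ∈ I l
  fix : ∀ {l : M} {a : H} {u : M}, l ∈ L → a ∈ A l → u ∈ I l → a • u = u
  /-- planes -/
  plane : ∀ {l m : M}, l ∈ L → m ∈ L → m ∈ I l → ∀ c : F, l + c • m = 0 ∨ l + c • m ∈ L
  al_mem : ∀ {l : M}, l ∈ L → ∀ m, al l m ∈ A l
  al_add : ∀ {l : M}, l ∈ L → ∀ m m', al l (m + m') = al l m * al l m'
  al_surj : ∀ {l : M} {a : H}, l ∈ L → a ∈ A l → ∃ m, al l m = a
  al_conj : ∀ {l : M} {h : H}, l ∈ L → h • l = l → ∀ m, al l (h • m) = h * al l m * h⁻¹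
  al_ker : ∀ {l : M}, l ∈ L → ∀ m, al l m = 1 ↔ ∀ a ∈ A l, ∃ c : F, a • m = m + c • l
  /-- `beta` is symmetric -/
  sy : ∀ {l : M}, l ∈ L → ∀ m m', ∃ c : F, al l m' • m + m + (al l m • m' + m') = c • l
  /-- `phi_e` is `F`-linear -/
  phl : ∀ {l : M}, l ∈ L → ∀ (c : F) (e x : M), al l e = 1 → al l (c • x) • e + e = c • (al l x • e + e)
  /-- `beta` is `F`-linear -/
  bl : ∀ {l : M}, l ∈ L → ∀ (c : F) (m x : M), ∃ d : F, al l (c • x) • m + m = c • (al l x • m + m) + d • l
  /-- the duality `Ebar / Dbar = Hom_F(A, F)` -/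
  dual : ∀ {l : M}, l ∈ L → ∀ f : M →ₗ[F] F, (∀ e, al l e = 1 → f e = 0) →
    ∃ e, al l e = 1 ∧ ∀ x, al l x • e + e = f x • l

namespace Pre

variable {F M H : Type*} [Field F] [AddCommGroup M] [Module F M] [Group H] [DistribMulAction H M] {L : Set M}
    {A : M → Subgroup H} {I : M → Submodule F M} {al : M → M → H}

/-- the missing fields -/
theorem toGen (G : Pre F L A I al) (fixI : ∀ {l u : M}, l ∈ L → (∀ a ∈ A l, a • u = u) → u ∈ I l)
    (ti : ∀ {l m : M} {a : H}, l ∈ L → m ∈ L → a ∈ A l → a ∈ A m → a ≠ 1 → ∃ c : F, m = c • l)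
    (cop : ∀ {l m u : M}, l ∈ L → m ∈ L → m ∈ I l → u ∈ I m → al l u = 1)
    (alpha : ∀ {l m u : M}, l ∈ L → m ∈ L → NP F l m → u ∈ I l → u ∈ I m → u ≠ 0 → al l m • m = m) :
    Gen F L A I al :=
  { G with
    fixI := fixI
    ti := ti
    cop := cop
    alpha := alpha }

section

variable (G : Pre F L A I al)
include G

theorem two_left (x y : M) : x + (x + y) = y := by
  rw [← add_assoc, G.two, zero_add]

theorem eq_of_add {x y : M} (h : x + y = 0) : x = y := by
  calc x = x + y + y := by rw [add_assoc, G.two, add_zero]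
    _ = y := by rw [h, zero_add]

theorem add_eq {x y z : M} (h : x + y = z) : x = y + z := by
  rw [← h, add_comm x y, G.two_left]

theorem neg_eq (x : M) : -x = x := neg_eq_of_add_eq_zero_left (G.two x)

theorem ne_zero {l : M} (hl : l ∈ L) : l ≠ 0 := fun h => G.zero (h ▸ hl)

theorem two_F {l : M} (hl : l ∈ L) (c : F) : c + c = 0 := by
  have h0 := G.ne_zero hl
  have : (c + c) • l = 0 := by rw [add_smul, G.two]
  exact (smul_eq_zero.1 this).resolve_right h0

theorem eq_of_add_F {l : M} (hl : l ∈ L) {c d : F} (h : c + d = 0) : c = d := by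
  calc c = c + d + d := by rw [add_assoc, G.two_F hl, add_zero]
    _ = d := by rw [h, zero_add]

theorem smul_inj {l : M} (hl : l ∈ L) {c d : F} (h : c • l = d • l) : c = d := by
  have h0 := G.ne_zero hl
  have : (c - d) • l = 0 := by rw [sub_smul, h, sub_self]
  exact sub_eq_zero.1 ((smul_eq_zero.1 this).resolve_right h0)

theorem sq_one {c : F} {l : M} (hl : l ∈ L) (h : (c * c) • l = l) : c = 1 := by
  have h0 := G.ne_zero hl
  have h1 : (c * c - 1) • l = 0 := by rw [sub_smul, one_smul, h, sub_self]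
  have h2 : c * c - 1 = 0 := (smul_eq_zero.1 h1).resolve_right h0
  have h3 : (1 : F) + 1 = 0 := G.two_F hl 1
  have h4 : (c - 1) * (c - 1) = 0 := by
    have : (c - 1) * (c - 1) = (c * c - 1) - (1 + 1) * (c - 1) := by ring
    rw [this, h2, h3]; ring
  have h5 := mul_self_eq_zero.1 h4
  exact sub_eq_zero.1 h5

/-- an involution which fixes the point fixes the vector -/
theorem fix_of_inv {h : H} {c : F} {l : M} (hl : l ∈ L) (hh : h * h = 1) (hc : h • l = c • l) : h • l = l := by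
  have h1 : (c * c) • l = l := by
    have : h • (h • l) = l := by rw [← mul_smul, hh, one_smul]
    rw [hc, G.lin, hc, smul_smul] at this
    exact this
  rw [hc, G.sq_one hl h1, one_smul]

theorem np_symm {l m : M} (hl : l ∈ L) (_hm : m ∈ L) (h : NP F l m) : NP F m l := by
  intro c hc
  have hc0 : c ≠ 0 := by
    rintro rfl
    rw [zero_smul] at hc
    exact G.ne_zero hl hc
  exact h c⁻¹ (by rw [hc, smul_smul, inv_mul_cancel₀ hc0, one_smul])

theorem np_smul {l m : M} {c : F} (hc : c ≠ 0) (h : NP F l m) : NP F l (c • m) := by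
  intro d hd
  exact h (c⁻¹ * d) (by rw [mul_smul, ← hd, smul_smul, inv_mul_cancel₀ hc, one_smul])

theorem inv {l : M} {a : H} (hl : l ∈ L) (ha : a ∈ A l) : a⁻¹ = a :=
  inv_eq_of_mul_eq_one_left (G.sq hl ha)

theorem A_comm {l : M} {a b : H} (hl : l ∈ L) (ha : a ∈ A l) (hb : b ∈ A l) : a * b = b * a := by
  have h := G.sq hl (mul_mem ha hb)
  calc a * b = (a * b)⁻¹ := (inv_eq_of_mul_eq_one_left h).symm
    _ = b * a := by rw [mul_inv_rev, G.inv hl ha, G.inv hl hb]

/-- conjugate by an element fixing `l` -/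
theorem A_conj_fix {l : M} {a h : H} (hl : l ∈ L) (ha : a ∈ A l) (hhl : h • l = l) : h * a * h⁻¹ ∈ A l := by
  have := G.A_conj h hl ha
  rwa [hhl] at this

/-- conjugate by an involution fixing `l` -/
theorem A_conj' {l : M} {a h : H} (hl : l ∈ L) (ha : a ∈ A l) (hh : h * h = 1) (hhl : h • l = l) :
    h * a * h ∈ A l := by
  have := G.A_conj h hl ha
  rwa [hhl, inv_eq_of_mul_eq_one_left hh] at this

theorem I_conj' {l u : M} {h : H} (hl : l ∈ L) (hu : u ∈ I l) (hhl : h • l = l) : h • u ∈ I l := by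
  have := G.I_conj h hl hu
  rwa [hhl] at this

theorem A_fix {l : M} {a : H} (hl : l ∈ L) (ha : a ∈ A l) : a • l = l := G.fix hl ha (G.self hl)

theorem al_I_one {l u : M} (hl : l ∈ L) (hu : u ∈ I l) : al l u = 1 :=
  (G.al_ker hl u).2 fun _ ha => ⟨0, by rw [zero_smul, add_zero]; exact G.fix hl ha hu⟩

theorem al_zero {l : M} (hl : l ∈ L) : al l 0 = 1 := by
  have := G.al_add hl 0 0
  rw [add_zero] at this
  exact (mul_eq_left.1 this.symm)

theorem al_sm_one {l e : M} (hl : l ∈ L) (c : F) (he : al l e = 1) : al l (c • e) = 1 := by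
  rw [G.al_ker hl] at he ⊢
  intro a ha
  obtain ⟨d, hd⟩ := he a ha
  exact ⟨c * d, by rw [G.lin, hd, smul_add, smul_smul]⟩

theorem fsm' {l : M} {c : F} (hl : l ∈ L) (h : c • l ≠ 0) : c • l ∈ L :=
  G.fsm (fun h0 => h (by rw [h0, zero_smul])) hl

end

/-- `Ebar_l` -/
def E (G : Pre F L A I al) {l : M} (hl : l ∈ L) : Submodule F M where
  carrier := {e | al l e = 1}
  add_mem' := fun {a b} ha hb => by
    change al l (a + b) = 1
    rw [G.al_add hl]
    rw [show al l a = 1 from ha, show al l b = 1 from hb, one_mul]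
  zero_mem' := G.al_zero hl
  smul_mem' := fun c _ hx => G.al_sm_one hl c hx

theorem mem_E (G : Pre F L A I al) {l e : M} (hl : l ∈ L) : e ∈ G.E hl ↔ al l e = 1 := Iff.rfl

theorem I_le_E (G : Pre F L A I al) {l : M} (hl : l ∈ L) : I l ≤ G.E hl := fun _ hu => G.al_I_one hl hu

/-- a functional which kills `Ebar_l` and not `x` -/
theorem exists_functional (G : Pre F L A I al) {l x : M} (hl : l ∈ L) (hx : al l x ≠ 1) :
    ∃ f : M →ₗ[F] F, (∀ e, al l e = 1 → f e = 0) ∧ f x = 1 := by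
  obtain ⟨f, hf, hf'⟩ := Submodule.exists_le_ker_of_notMem (p := G.E hl) (v := x) hx
  refine ⟨(f x)⁻¹ • f, fun y hy => ?_, by rw [LinearMap.smul_apply, smul_eq_mul, inv_mul_cancel₀ hf]⟩
  have : y ∈ LinearMap.ker f := hf' hy
  rw [LinearMap.mem_ker] at this
  simp [this]

/-- every `a ≠ 1` moves some `e ∈ E_l` by `l` -/
theorem phi (G : Pre F L A I al) {l : M} {a : H} (hl : l ∈ L) (ha : a ∈ A l) (h1 : a ≠ 1) :
    ∃ e, al l e = 1 ∧ a • e = e + l := by
  obtain ⟨x, rfl⟩ := G.al_surj hl ha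
  obtain ⟨f, hf, hfx⟩ := G.exists_functional hl h1
  obtain ⟨e, he, he'⟩ := G.dual hl f hf
  refine ⟨e, he, ?_⟩
  have := he' x
  rw [hfx, one_smul] at this
  exact G.add_eq this

theorem phi_ex (G : Pre F L A I al) {l e : M} (hl : l ∈ L) (he : al l e = 1) (x : M) :
    ∃ c : F, al l x • e + e = c • l := by
  obtain ⟨c, hc⟩ := (G.al_ker hl e).1 he _ (G.al_mem hl x)
  exact ⟨c, by rw [hc, add_comm, ← add_assoc, G.two, zero_add]⟩

/-- the pairing -/
noncomputable def Phi (G : Pre F L A I al) {l : M} (hl : l ∈ L) : G.E hl →ₗ[F] M →ₗ[F] F :=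
  LinearMap.mk₂ F (fun e x => coef F l (al l x • (e : M) + e))
    (fun e e' x => by
      obtain ⟨c, hc⟩ := G.phi_ex hl e.2 x
      obtain ⟨c', hc'⟩ := G.phi_ex hl e'.2 x
      have : al l x • ((e + e' : G.E hl) : M) + ((e + e' : G.E hl) : M) = (c + c') • l := by
        rw [Submodule.coe_add, smul_add, add_smul, ← hc, ← hc']; abel
      rw [this, hc, hc', coef_smul (G.ne_zero hl), coef_smul (G.ne_zero hl), coef_smul (G.ne_zero hl)])
    (fun d e x => by
      obtain ⟨c, hc⟩ := G.phi_ex hl e.2 x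
      have : al l x • ((d • e : G.E hl) : M) + ((d • e : G.E hl) : M) = (d * c) • l := by
        rw [Submodule.coe_smul, G.lin, ← smul_add, hc, smul_smul]
      rw [this, hc, coef_smul (G.ne_zero hl), coef_smul (G.ne_zero hl), smul_eq_mul])
    (fun e x x' => by
      obtain ⟨c, hc⟩ := G.phi_ex hl e.2 x
      obtain ⟨c', hc'⟩ := G.phi_ex hl e.2 x'
      have h1 : al l x' • (e : M) = e + c' • l := by
        rw [← hc', add_comm (al l x' • (e : M)) _, G.two_left]
      have h2 : al l x • (e : M) = e + c • l := by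
        rw [← hc, add_comm (al l x • (e : M)) _, G.two_left]
      have : al l (x + x') • (e : M) + (e : M) = (c + c') • l := by
        rw [G.al_add hl, mul_smul, h1, smul_add, h2, G.lin, G.A_fix hl (G.al_mem hl x), add_smul]
        have := G.two (e : M)
        calc (e : M) + c • l + c' • l + e = (e + e) + (c • l + c' • l) := by abel
          _ = c • l + c' • l := by rw [this, zero_add]
      rw [this, hc, hc', coef_smul (G.ne_zero hl), coef_smul (G.ne_zero hl), coef_smul (G.ne_zero hl)])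
    (fun d e x => by
      obtain ⟨c, hc⟩ := G.phi_ex hl e.2 x
      have : al l (d • x) • (e : M) + (e : M) = (d * c) • l := by
        rw [G.phl hl d _ x e.2, hc, smul_smul]
      rw [this, hc, coef_smul (G.ne_zero hl), coef_smul (G.ne_zero hl), smul_eq_mul])

theorem Phi_spec (G : Pre F L A I al) {l : M} (hl : l ∈ L) (e : G.E hl) (x : M) :
    al l x • (e : M) + e = G.Phi hl e x • l := by
  have := coef_spec (G.phi_ex hl e.2 x)
  exact this

theorem Phi_spec' (G : Pre F L A I al) {l : M} (hl : l ∈ L) (e : G.E hl) (x : M) :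
    al l x • (e : M) = e + G.Phi hl e x • l := by
  rw [← G.Phi_spec hl e x, add_comm (al l x • (e : M)) _, G.two_left]

theorem Phi_eq (G : Pre F L A I al) {l : M} (hl : l ∈ L) (e : G.E hl) (x : M) {c : F}
    (h : al l x • (e : M) = e + c • l) : G.Phi hl e x = c := by
  rw [G.Phi_spec' hl] at h
  exact G.smul_inj hl (add_left_cancel h)

theorem Phi_surj (G : Pre F L A I al) {l : M} (hl : l ∈ L) {f : M →ₗ[F] F} (hf : ∀ e, al l e = 1 → f e = 0) :
    ∃ e : G.E hl, G.Phi hl e = f := by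
  obtain ⟨e, he, h⟩ := G.dual hl f hf
  refine ⟨⟨e, he⟩, ?_⟩
  ext x
  apply G.Phi_eq hl
  have := h x
  change al l x • e = e + f x • l
  rw [← this, add_comm (al l x • e) e, G.two_left]

theorem Phi_E (G : Pre F L A I al) {l : M} (hl : l ∈ L) (e : G.E hl) {x : M} (hx : al l x = 1) :
    G.Phi hl e x = 0 := by
  apply G.Phi_eq hl
  rw [hx, one_smul, zero_smul, add_zero]

/-- the common zeros of the functionals are `Ebar_l` -/
theorem Phi_sep (G : Pre F L A I al) {l x : M} (hl : l ∈ L) (hx : ∀ e : G.E hl, G.Phi hl e x = 0) : al l x = 1 := by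
  by_contra h1
  obtain ⟨f, hf, hfx⟩ := G.exists_functional hl h1
  obtain ⟨e, rfl⟩ := G.Phi_surj hl hf
  rw [hx e] at hfx
  exact zero_ne_one hfx

end Pre

end Cfsg.Agent.Omega.NO3S.OneQ.Sg
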