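import Cfsg.Agent.Omega.NO3S.OneQ.Alf
import Cfsg.Agent.Omega.NO3S.OneQ.PlaneOf
import Cfsg.Agent.Omega.NO3S.OneQ.Star

/-!
# NO-3S, `OneSz` (`q ≥ 4`, `n = 1`), case (N): coplanar lines (bb OMEGA #20317 (G))

`M ≠ V` is a line on `Z` in `I = IV V Z` (`l`, `m` coplanar), `p ≠ Z` a point of `M`.

* `One.cop_cover` : the elements of `X_l` are realised on `V` by elements of `X_l` centralising `p`;
* `One.cop_comm` : `[W_Y, W_p] ≤ W_Y ∩ W_p`, `Y` a point of `V`;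
* `Co.cop_swap` : the swap, centralising `p`; `Co.cop_al` : `al (fm u)` is the operator of `g u g⁻¹ ∈ W_Y ∩ W_p`;
* **`Co.cop_A`** : `[A_l, A_m] ≤ α_l(Ī_m)`; **`Co.cop_M`** : `α_l(Ī_m) ≤ A_m`; **`Co.cop_fix`** : `[Ī_m, α_l(Ī_m)] = 0`;
* **`Co.cop_pt`** : an element of `A_l ∩ A_m` lies in `A_r` for all lines `r` on `Z` in the plane.
-/

set_option autoImplicit false
set_option linter.unusedSectionVars false

namespace Cfsg.Agent.Omega.NO3S.OneQ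

open Subgroup Cfsg.Agent.Omega.NO3S.PT Cfsg.Agent.Omega.NoFF.Basic
open scoped Pointwise

universe u

variable {G : Type u} [Group G]

namespace One

variable [Finite G] {S : Sylow 2 G} {B P V Z : Subgroup G} (h : One S B P V Z)
include h

section

variable {M p : Subgroup G} (hM : IsCj V M) (hZM : Z ≤ M) (hMV : M ≠ V) (hMI : M ≤ IV V Z)
  (hp : IsCj Z p) (hpM : p ≤ M) (hpZ : p ≠ Z)
include hM hZM hMV hMI hp hpM hpZ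

theorem cop_not {u : G} (hu : u ∈ p) (hu1 : u ≠ 1) : u ∉ V := fun e =>
  hpZ (h.pl.pts_eq hp h.pl.isCj_self hu (h.inf_line hM hZM hMV hMI e (hpM hu)) hu1)

/-- an element of `X_l` which commutes with one element of the point `p` centralises `p` -/
theorem cop_cent {x u : G} (hx : x ∈ XV V Z) (hu : u ∈ p) (hu1 : u ≠ 1) (hxu : x * u = u * x) :
    ∀ w ∈ p, x * w = w * x := by
  intro w hw
  have hxn := h.pl.norm_of_comm hp hu hu1 hxu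
  have h1 : x * w * x⁻¹ * w⁻¹ ∈ p := p.mul_mem ((mem_normalizer_iff.1 hxn _).1 hw) (p.inv_mem hw)
  have h2 := h.pl.XV_act hx (hMI (hpM hw))
  by_contra hne
  refine h.cop_not hM hZM hMV hMI hp hpM hpZ h1 (fun e => hne ?_) h2
  rwa [mul_inv_eq_one, mul_inv_eq_iff_eq_mul] at e

/-- the elements of `X_l` are realised on `V` by elements of `X_l` centralising `p` -/
theorem cop_cover {g : G} (hg : g ∈ XV V Z) :
    ∃ x ∈ XV V Z, (∀ w ∈ p, x * w = w * x) ∧ x * g⁻¹ ∈ centralizer (V : Set G) := by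
  obtain ⟨u, hu, hu1⟩ := h.pl.pt_ne_bot hp
  obtain ⟨x, hx, hxu, hxg⟩ := h.pl.F2_cover h.hf h.hO (hMI (hpM hu)) (h.cop_not hM hZM hMV hMI hp hpM hpZ hu hu1) hg
  exact ⟨x, hx, h.cop_cent hM hZM hMV hMI hp hpM hpZ hx hu hu1 hxu, hxg⟩

/-- `Y` and `p` are collinear -/
theorem cop_col {Y : Subgroup G} (hY : Pnt V Z Y) : ∃ N, IsCj V N ∧ N ≤ V ⊔ M ∧ Y ≤ N ∧ p ≤ N := by
  have hpl := h.plg_of hM hZM hMV hMI
  have hne : Y ≠ p := by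
    rintro rfl
    obtain ⟨u, hu, hu1⟩ := h.pl.pt_ne_bot hp
    exact h.cop_not hM hZM hMV hMI hp hpM hpZ hu hu1 (hY.le hu)
  exact hpl.col Y p hY.cj hp (hY.le.trans le_sup_left) (hpM.trans le_sup_right) hne

/-- `[W_Y, W_p] ≤ W_Y ∩ W_p` -/
theorem cop_comm {Y : Subgroup G} (hY : Pnt V Z Y) {a b : G} (ha : a ∈ ws V Y) (hb : b ∈ ws V p) :
    a * b * a⁻¹ * b⁻¹ ∈ ws V Y ⊓ ws V p := by
  obtain ⟨N, hN, -, hYN, hpN⟩ := h.cop_col hM hZM hMV hMI hp hpM hpZ hY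
  have h1 := (mem_normalizer_iff.1 (h.W_norm_line hN hpN hY.cj hYN ha) b).1 hb
  have h2 := (mem_normalizer_iff.1 (h.W_norm_line hN hYN hp hpN hb) a⁻¹).1 (inv_mem ha)
  refine ⟨?_, (ws V p).mul_mem h1 ((ws V p).inv_mem hb)⟩
  have e : a * b * a⁻¹ * b⁻¹ = a * (b * a⁻¹ * b⁻¹) := by group
  rw [e]
  exact mul_mem ha h2

theorem cop_IV : ws V Z ⊓ ws V p = IV M Z := h.IV_line hM h.pl.isCj_self hZM hp hpM hpZ.symm

omit hZM hMV hMI hpZ in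
theorem cop_C : ws V p ≤ centralizer (M : Set G) := h.ws_le_line hM hp hpM

end

end One

namespace Co

variable [Finite G] {F : Type*} [Field F] [CharP F 2] {S : Sylow 2 G} {B P V Z : Subgroup G} (h : Co F S B P V Z)

include h in
theorem W_line_C {M p : Subgroup G} (hM : IsCj V M) (hZM : Z ≤ M) (hp : IsCj Z p) (hpM : p ≤ M) :
    ws V p ≤ centralizer (Z : Set G) := (h.one.ws_le_line hM hp hpM).trans (centralizer_le hZM)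

/-- `W_p ≤ hat` -/
theorem W_line_hat {M p : Subgroup G} (hM : IsCj V M) (hZM : Z ≤ M) (hp : IsCj Z p) (hpM : p ≤ M) :
    ws V p ≤ h.hat := (h.W_line_C hM hZM hp hpM).trans h.C_le_hat

section

variable {M p : Subgroup G} (hM : IsCj V M) (hZM : Z ≤ M) (hMV : M ≠ V) (hMI : M ≤ IV V Z)
  (hp : IsCj Z p) (hpM : p ≤ M) (hpZ : p ≠ Z)
include hM hZM hMV hMI hp hpM hpZ

/-- the swap, centralising `p` -/
theorem cop_swap : ∃ g ∈ XV V Z, (∀ w ∈ p, g * w = w * g) ∧ (∀ x y, g * h.e x y * g⁻¹ = h.e y x) ∧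
    g * h.sw⁻¹ ∈ yl V Z := by
  obtain ⟨g, hg, hgp, hgV⟩ := h.one.cop_cover hM hZM hMV hMI hp hpM hpZ h.sw_XV
  refine ⟨g, hg, hgp, fun x y => ?_, ?_⟩
  · have e : g * h.e x y * g⁻¹ = (g * h.sw⁻¹) * (h.sw * h.e x y * h.sw⁻¹) * (g * h.sw⁻¹)⁻¹ := by group
    rw [e, h.sw_act, h.comm_e hgV]
  · rw [← h.XV_cent]
    exact ⟨(XV V Z).mul_mem hg ((XV V Z).inv_mem h.sw_XV), hgV⟩

/-- `al (fm u)` is the operator of `g u g⁻¹` -/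
theorem cop_al (hN : NTr V Z) : ∃ g ∈ XV V Z, (∀ w ∈ p, g * w = w * g) ∧ PT.cj g Z = h.Yp ∧
    ∀ u (hu : u ∈ ws V Z), ∃ hg' : g * u * g⁻¹ ∈ ws V h.Yp,
      h.al (h.fm ⟨u, hu⟩) = h.rp ⟨g * u * g⁻¹, h.W_hat h.pY hg'⟩ := by
  obtain ⟨g, hg, hgp, hga, hgy⟩ := h.cop_swap hM hZM hMV hMI hp hpM hpZ
  have hgZ := h.cj_swap hga
  refine ⟨g, hg, hgp, hgZ, fun u hu => ?_⟩
  have hg' : g * u * g⁻¹ ∈ ws V h.Yp := by
    rw [← hgZ, ws_cj]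
    exact conj_mem_cj hu
  refine ⟨hg', ?_⟩
  rw [h.al_fm hN, ag]
  have ha := h.sw_W hu
  have h1 := h.yl_A hgy ha
  have h2 := h.hat_mul_inv (h.C_le_hat (h.yl_C hgy))
  have e1 : (⟨g * u * g⁻¹, h.W_hat h.pY hg'⟩ : h.hat) =
      ⟨g * h.sw⁻¹, h.C_le_hat (h.yl_C hgy)⟩ * ⟨h.sw * u * h.sw⁻¹, h.W_hat h.pY ha⟩ *
        ⟨(g * h.sw⁻¹)⁻¹, inv_mem (h.C_le_hat (h.yl_C hgy))⟩ := Subtype.ext (by
    show g * u * g⁻¹ = g * h.sw⁻¹ * (h.sw * u * h.sw⁻¹) * (g * h.sw⁻¹)⁻¹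
    group)
  have e2 : h.rp ⟨g * u * g⁻¹, h.W_hat h.pY hg'⟩ = h.rp ⟨h.sw * u * h.sw⁻¹, h.W_hat h.pY ha⟩ := by
    rw [e1, map_mul, map_mul, h1, mul_assoc, h2, mul_one]
  exact e2.symm

/-- **`α_l(Ī_m) ≤ A_m`** -/
theorem cop_M (hN : NTr V Z) {u : G} (hu : u ∈ IV M Z) (huZ : u ∈ ws V Z) :
    ∃ a, ∃ ha : a ∈ ws V h.Yp, ∃ ha' : a ∈ ws V p,
      h.al (h.fm ⟨u, huZ⟩) = h.rp ⟨a, h.W_hat h.pY ha⟩ ∧
        h.al (h.fm ⟨u, huZ⟩) = h.rp ⟨a, h.W_line_hat hM hZM hp hpM ha'⟩ := by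
  obtain ⟨g, hg, hgp, hgZ, hal⟩ := h.cop_al hM hZM hMV hMI hp hpM hpZ hN
  obtain ⟨hg', e⟩ := hal u huZ
  have hup : u ∈ ws V p := by
    rw [← h.one.cop_IV hM hZM hMV hMI hp hpM hpZ] at hu
    exact hu.2
  have hgc : PT.cj g p = p := cj_eq_iff.2 (centralizer_le_normalizer _ (mem_centralizer_iff.2 fun w hw => (hgp w hw).symm))
  have h2 : g * u * g⁻¹ ∈ ws V p := by
    have := conj_mem_cj (g := g) hup
    rwa [← ws_cj, hgc] at this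
  exact ⟨_, hg', h2, e, e⟩

/-- `W_Y ∩ W_p` gives `α_l(Ī_m)` -/
theorem cop_M' (hN : NTr V Z) {a : G} (ha : a ∈ ws V h.Yp) (ha' : a ∈ ws V p) :
    ∃ u ∈ IV M Z, ∃ huZ : u ∈ ws V Z, h.al (h.fm ⟨u, huZ⟩) = h.rp ⟨a, h.W_hat h.pY ha⟩ := by
  obtain ⟨g, hg, hgp, hgZ, hal⟩ := h.cop_al hM hZM hMV hMI hp hpM hpZ hN
  have hgc : PT.cj g p = p := cj_eq_iff.2 (centralizer_le_normalizer _ (mem_centralizer_iff.2 fun w hw => (hgp w hw).symm))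
  have h1 : g⁻¹ * a * g ∈ ws V Z := by
    rw [← hgZ, ws_cj, mem_cj] at ha
    exact ha
  have h2 : g⁻¹ * a * g ∈ ws V p := by
    rw [← hgc, ws_cj, mem_cj] at ha'
    exact ha'
  refine ⟨_, ?_, h1, ?_⟩
  · rw [← h.one.cop_IV hM hZM hMV hMI hp hpM hpZ]
    exact ⟨h1, h2⟩
  · obtain ⟨hg', e⟩ := hal _ h1
    rw [e]
    congr 1
    apply Subtype.ext
    show g * (g⁻¹ * a * g) * g⁻¹ = a
    group

/-- **`[A_l, A_m] ≤ α_l(Ī_m)`** -/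
theorem cop_A (hN : NTr V Z) {a b : G} (ha : a ∈ ws V h.Yp) (hb : b ∈ ws V p) :
    ∃ u ∈ IV M Z, ∃ huZ : u ∈ ws V Z, ∃ hab : a * b * a⁻¹ * b⁻¹ ∈ ws V h.Yp,
      h.al (h.fm ⟨u, huZ⟩) = h.rp ⟨a * b * a⁻¹ * b⁻¹, h.W_hat h.pY hab⟩ := by
  have h1 := h.one.cop_comm hM hZM hMV hMI hp hpM hpZ h.pY ha hb
  obtain ⟨u, hu, huZ, e⟩ := h.cop_M' hM hZM hMV hMI hp hpM hpZ hN h1.1 h1.2
  exact ⟨u, hu, huZ, h1.1, e⟩

/-- **`[Ī_m, α_l(Ī_m)] = 0`** -/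
theorem cop_fix (hN : NTr V Z) {u u' : G} (hu : u ∈ IV M Z) (huZ : u ∈ ws V Z) (hu' : u' ∈ IV M Z)
    (huZ' : u' ∈ ws V Z) : h.al (h.fm ⟨u, huZ⟩) (h.fm ⟨u', huZ'⟩) = h.fm ⟨u', huZ'⟩ := by
  obtain ⟨a, ha, ha', -, e⟩ := h.cop_M hM hZM hMV hMI hp hpM hpZ hN hu huZ
  rw [e]
  have hup : u' ∈ ws V p := by
    rw [← h.one.cop_IV hM hZM hMV hMI hp hpM hpZ] at hu'
    exact hu'.2
  have e2 : h.rp ⟨a, h.W_line_hat hM hZM hp hpM ha'⟩ (h.fm ⟨u', huZ'⟩) = _ :=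
    h.rp_fm' (h.W_line_hat hM hZM hp hpM ha') huZ'
  rw [e2]
  congr 1
  apply Subtype.ext
  show a * u' * a⁻¹ = u'
  rw [h.one.comm_W hp ha' hup, mul_inv_cancel_right]

/-- **an element of `A_l ∩ A_m` lies in `A_r` for all lines `r` on `Z` in the plane** -/
theorem cop_pt {a b : G} (ha : a ∈ ws V h.Yp) (hb : b ∈ ws V p)
    (hab : h.rp ⟨a, h.W_hat h.pY ha⟩ = h.rp ⟨b, h.W_line_hat hM hZM hp hpM hb⟩) {R r : Subgroup G} (hR : IsCj V R)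
    (hZR : Z ≤ R) (hRQ : R ≤ V ⊔ M) (hr : IsCj Z r) (hrR : r ≤ R) (hrZ : r ≠ Z) :
    ∃ c, ∃ hc : c ∈ ws V r, h.rp ⟨c, h.W_line_hat hR hZR hr hrR hc⟩ = h.rp ⟨a, h.W_hat h.pY ha⟩ := by
  by_cases hRV : R = V
  · subst hRV
    obtain ⟨k, hk, rfl⟩ := h.one.move h.one.self h.pY ⟨hr, hrR⟩ h.Yp_ne hrZ
    have hc : k * a * k⁻¹ ∈ ws R (PT.cj k h.Yp) := by rw [ws_cj]; exact conj_mem_cj ha
    refine ⟨_, hc, ?_⟩
    have hkh : k ∈ h.hat := h.C_le_hat (kx_le_cent hk)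
    have h1 := h.rp_one_of hk hkh
    have h2 := h.hat_mul_inv hkh
    have e1 : (⟨k * a * k⁻¹, h.W_line_hat hR hZR hr hrR hc⟩ : h.hat) =
        ⟨k, hkh⟩ * ⟨a, h.W_hat h.pY ha⟩ * ⟨k⁻¹, inv_mem hkh⟩ := rfl
    rw [h1, one_mul] at h2
    rw [e1, map_mul, map_mul, h1, h2, one_mul, mul_one]
  have hRI : R ≤ IV V Z := hRQ.trans (h.one.Q_le_I hM hZM hMV hMI)
  obtain ⟨u, hu, hu1⟩ := h.one.pl.pt_ne_bot hr
  have huV := h.one.cop_not hR hZR hRV hRI hr hrR hrZ hu hu1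
  obtain ⟨k, hk, hkV, huk⟩ := h.one.cover hM hZM hMV hMI h.pY h.Yp_ne (hRQ (hrR hu)) huV
  have hkZ : PT.cj k Z = Z := cj_eq_iff.2 (centralizer_le_normalizer _ (centralizer_le h.one.pl.ZV hkV))
  have hrk : r ≤ PT.cj k M := Pla.pt_le h.one (hM.cj k) hr hu hu1 huk
  have hr' : PT.cj k⁻¹ r ≤ M := by rw [cj_le_iff, inv_inv]; exact hrk
  have hrZ' : PT.cj k⁻¹ r ≠ Z := fun e => hrZ (by rw [← hkZ, ← e, cj_cj, mul_inv_cancel, cj_one])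
  obtain ⟨j, hj, hje⟩ := h.one.move_line hM h.one.pl.isCj_self hZM hp hpM (hr.cj k⁻¹) hr' hpZ hrZ'
  have hjh : j ∈ h.hat := h.C_le_hat (kx_le_cent hj)
  have hkh : k ∈ h.hat := h.C_le_hat (centralizer_le h.one.pl.ZV hkV)
  have hb' : j * b * j⁻¹ ∈ ws V (PT.cj k⁻¹ r) := by
    rw [← hje, ws_cj]
    exact conj_mem_cj hb
  have hc : k * (j * b * j⁻¹) * k⁻¹ ∈ ws V r := by
    have := conj_mem_cj (g := k) hb'
    rwa [← ws_cj, cj_cj, mul_inv_cancel, cj_one] at this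
  refine ⟨_, hc, ?_⟩
  have hky : k ∈ yl V Z := mem_yl_of h.pY hk hkV
  have h1 := h.rp_one_of hj hjh
  have h1' := h.hat_mul_inv hjh
  rw [h1, one_mul] at h1'
  have h2 := h.yl_A hky ha
  have h3 := h.hat_mul_inv hkh
  have e1 : (⟨k * (j * b * j⁻¹) * k⁻¹, h.W_line_hat hR hZR hr hrR hc⟩ : h.hat) =
      ⟨k, hkh⟩ * (⟨j, hjh⟩ * ⟨b, h.W_line_hat hM hZM hp hpM hb⟩ * ⟨j⁻¹, inv_mem hjh⟩) * ⟨k⁻¹, inv_mem hkh⟩ := rfl
  rw [e1, map_mul, map_mul, map_mul, map_mul, h1, h1', one_mul, mul_one, ← hab, h2, mul_assoc, h3, mul_one]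

end

end Co

end Cfsg.Agent.Omega.NO3S.OneQ
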