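import Cfsg.Agent.Omega.NO3S.OneQ.TIq.Base

/-!
# NO-3S, `OneSz` (`q ≥ 4`, `n = 1`), case (N): `A_l ∩ A_m = 1` (bb OMEGA #20317 (H)), pure form

`F` a finite field of characteristic 2, `M` an `F`-module, `H` a group acting `F`-linearly on `M`;
`L` = the vectors `≠ 0` of the points `λ_l`; `A l`, `I l`, `al l` (`l ∈ L`) the data of the line `l`.
Every `D_x`, planes allowed.

* `Pre` : the record (the fields of `TIq.Gen` without `ti`, `fixI`, `cop`, `alpha`, `gen`)
* `Hyp` : a hyperbolic pair `(l, w)` : `[λ_w, A_l] = λ_l`, `[λ_l, A_w] = λ_w`, with the facts (E)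
* `Cop` : the facts (G) on coplanar points
* **`Pre.ti`** : `1 ≠ a ∈ A_l ∩ A_m` ⟹ `λ_l = λ_m`
-/

set_option autoImplicit false
set_option linter.unusedSimpArgs false
set_option linter.unusedSectionVars false

namespace Cfsg.Agent.Omega.NO3S.OneQ.Sg.T

open TIq (NP)

/-- the fields -/
structure Pre (F : Type*) {M H : Type*} [Field F] [AddCommGroup M] [Module F M] [Group H] [DistribMulAction H M]
    (L : Set M) (A : M → Subgroup H) (I : M → Submodule F M) (al : M → M → H) : Prop where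
  two : ∀ m : M, m + m = 0
  lin : ∀ (h : H) (c : F) (m : M), h • (c • m) = c • (h • m)
  zero : (0 : M) ∉ L
  smul : ∀ (h : H) {l : M}, l ∈ L → h • l ∈ L
  fsm : ∀ {c : F} {l : M}, c ≠ 0 → l ∈ L → c • l ∈ L
  A_sm : ∀ {c : F} {l : M}, c ≠ 0 → l ∈ L → A (c • l) = A l
  I_sm : ∀ {c : F} {l : M}, c ≠ 0 → l ∈ L → I (c • l) = I l
  trans : ∀ {l m : M}, l ∈ L → m ∈ L → ∃ (h : H) (c : F), c ≠ 0 ∧ h • l = c • m
  A_conj : ∀ (h : H) {l : M} {a : H}, l ∈ L → a ∈ A l → h * a * h⁻¹ ∈ A (h • l)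
  I_conj : ∀ (h : H) {l u : M}, l ∈ L → u ∈ I l → h • u ∈ I (h • l)
  sq : ∀ {l : M} {a : H}, l ∈ L → a ∈ A l → a * a = 1
  self : ∀ {l : M}, l ∈ L → l ∈ I l
  comm : ∀ {l : M} {a : H}, l ∈ L → a ∈ A l → ∀ m : M, a • m + m ∈ I l
  fix : ∀ {l : M} {a : H} {u : M}, l ∈ L → a ∈ A l → u ∈ I l → a • u = u
  /-- planes -/
  plane : ∀ {l m : M}, l ∈ L → m ∈ L → m ∈ I l → ∀ c : F, l + c • m = 0 ∨ l + c • m ∈ L
  al_mem : ∀ {l : M}, l ∈ L → ∀ m, al l m ∈ A l
  al_add : ∀ {l : M}, l ∈ L → ∀ m m', al l (m + m') = al l m * al l m'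
  al_surj : ∀ {l : M} {a : H}, l ∈ L → a ∈ A l → ∃ m, al l m = a
  al_conj : ∀ {l : M} {h : H}, l ∈ L → h • l = l → ∀ m, al l (h • m) = h * al l m * h⁻¹
  al_ker : ∀ {l : M}, l ∈ L → ∀ m, al l m = 1 ↔ ∀ a ∈ A l, ∃ c : F, a • m = m + c • l
  /-- `beta` is symmetric -/
  sy : ∀ {l : M}, l ∈ L → ∀ m m', ∃ c : F, al l m' • m + m + (al l m • m' + m') = c • l
  /-- `beta` is `F`-linear -/
  bl : ∀ {l : M}, l ∈ L → ∀ (c : F) (m x : M), ∃ d : F, al l (c • x) • m + m = c • (al l x • m + m) + d • l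
  /-- the duality `Ebar / Dbar = Hom_F(A, F)` -/
  dual : ∀ {l : M}, l ∈ L → ∀ f : M →ₗ[F] F, (∀ e, al l e = 1 → f e = 0) →
    ∃ e, al l e = 1 ∧ ∀ x, al l x • e + e = f x • l

/-- a hyperbolic pair (the points `l`, `w` span an `SL₂`-plane of `⟨A l, A w⟩`), with the facts (E) -/
structure Hyp {M H : Type*} (F : Type*) [Field F] [AddCommGroup M] [Module F M] [Group H] [DistribMulAction H M]
    (L : Set M) (A : M → Subgroup H) (l w : M) : Prop where
  mem : w ∈ L
  /-- `[λ_l, A_w] ≤ λ_w` -/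
  back : ∀ a' ∈ A w, ∃ c : F, a' • l = l + c • w
  move : ∃ a' ∈ A w, a' • l ≠ l
  /-- `B'` contains all transvections of `A_l` with axis `B` -/
  tv : ∀ a ∈ A l, a • w ≠ w → ∀ b ∈ A l, b • w = w → ∃ c' ∈ A w, c' • l = l ∧ c' * a * c'⁻¹ = a * b
  /-- `[B, B'] = 1` -/
  cent : ∀ b ∈ A l, b • w = w → ∀ c' ∈ A w, c' • l = l → b * c' = c' * b
  /-- `C_B(a') = 1` -/
  inj : ∀ b ∈ A l, b • w = w → b ≠ 1 → ∀ a' ∈ A w, a' • l ≠ l → b * a' ≠ a' * b
  /-- `C_B'(a) = 1` -/
  inj' : ∀ b' ∈ A w, b' • l = l → b' ≠ 1 → ∀ a ∈ A l, a • w ≠ w → b' * a ≠ a * b'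

/-- the facts (G) on coplanar points `l`, `m` -/
structure Cop (F : Type*) {M H : Type*} [Field F] [AddCommGroup M] [Module F M] [Group H] [DistribMulAction H M]
    (L : Set M) (A : M → Subgroup H) (I : M → Submodule F M) (al : M → M → H) : Prop where
  copA : ∀ {l m : M}, l ∈ L → m ∈ L → m ∈ I l → ∀ {a b : H}, a ∈ A l → b ∈ A m →
    ∃ u ∈ I m, a * b * a⁻¹ * b⁻¹ = al l u
  copF : ∀ {l m : M}, l ∈ L → m ∈ L → m ∈ I l → ∀ {u u' : M}, u ∈ I m → u' ∈ I m → al l u • u' = u'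
  copL : ∀ {l m : M}, l ∈ L → m ∈ L → m ∈ I l → ∀ {c : H} (d : F), c ∈ A l → c ∈ A m → l + d • m ∈ L →
    c ∈ A (l + d • m)

namespace Pre

variable {F M H : Type*} [Field F] [AddCommGroup M] [Module F M] [Group H] [DistribMulAction H M] {L : Set M}
    {A : M → Subgroup H} {I : M → Submodule F M} {al : M → M → H}

section

variable (G : Pre F L A I al)
include G

theorem two_left (x y : M) : x + (x + y) = y := by
  rw [← add_assoc, G.two, zero_add]

theorem eq_of_add {x y : M} (h : x + y = 0) : x = y := by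
  calc x = x + y + y := by rw [add_assoc, G.two, add_zero]
    _ = y := by rw [h, zero_add]

theorem ne_zero {l : M} (hl : l ∈ L) : l ≠ 0 := fun h => G.zero (h ▸ hl)

theorem np_symm {l m : M} (hl : l ∈ L) (h : NP F l m) : NP F m l := by
  intro c hc
  have hc0 : c ≠ 0 := by
    rintro rfl
    rw [zero_smul] at hc
    exact G.ne_zero hl hc
  exact h c⁻¹ (by rw [hc, smul_smul, inv_mul_cancel₀ hc0, one_smul])

theorem inv {l : M} {a : H} (hl : l ∈ L) (ha : a ∈ A l) : a⁻¹ = a :=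
  inv_eq_of_mul_eq_one_left (G.sq hl ha)

theorem A_comm {l : M} {a b : H} (hl : l ∈ L) (ha : a ∈ A l) (hb : b ∈ A l) : a * b = b * a := by
  have h := G.sq hl (mul_mem ha hb)
  calc a * b = (a * b)⁻¹ := (inv_eq_of_mul_eq_one_left h).symm
    _ = b * a := by rw [mul_inv_rev, G.inv hl ha, G.inv hl hb]

theorem A_conj' {l : M} {a h : H} (hl : l ∈ L) (ha : a ∈ A l) (hh : h * h = 1) (hhl : h • l = l) :
    h * a * h ∈ A l := by
  have := G.A_conj h hl ha
  rwa [hhl, inv_eq_of_mul_eq_one_left hh] at this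

theorem I_conj' {l u : M} {h : H} (hl : l ∈ L) (hu : u ∈ I l) (hhl : h • l = l) : h • u ∈ I l := by
  have := G.I_conj h hl hu
  rwa [hhl] at this

theorem A_fix {l : M} {a : H} (hl : l ∈ L) (ha : a ∈ A l) : a • l = l := G.fix hl ha (G.self hl)

theorem al_I_one {l u : M} (hl : l ∈ L) (hu : u ∈ I l) : al l u = 1 :=
  (G.al_ker hl u).2 fun _ ha => ⟨0, by rw [zero_smul, add_zero]; exact G.fix hl ha hu⟩

theorem al_zero {l : M} (hl : l ∈ L) : al l 0 = 1 := by
  have := G.al_add hl 0 0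
  rw [add_zero] at this
  exact (mul_eq_left.1 this.symm)

theorem al_sm_one {l e : M} (hl : l ∈ L) (c : F) (he : al l e = 1) : al l (c • e) = 1 := by
  rw [G.al_ker hl] at he ⊢
  intro a ha
  obtain ⟨d, hd⟩ := he a ha
  exact ⟨c * d, by rw [G.lin, hd, smul_add, smul_smul]⟩

/-- `Ebar_l` -/
def E {l : M} (hl : l ∈ L) : Submodule F M where
  carrier := {e | al l e = 1}
  add_mem' := fun {a b} ha hb => by
    change al l (a + b) = 1
    rw [G.al_add hl, show al l a = 1 from ha, show al l b = 1 from hb, one_mul]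
  zero_mem' := G.al_zero hl
  smul_mem' := fun c x hx => G.al_sm_one hl c hx

theorem mem_E {l : M} (hl : l ∈ L) {e : M} : e ∈ G.E hl ↔ al l e = 1 := Iff.rfl

/-- every `a ≠ 1` moves some `e ∈ E_l` by `l` -/
theorem phi {l : M} {a : H} (hl : l ∈ L) (ha : a ∈ A l) (h1 : a ≠ 1) : ∃ e, al l e = 1 ∧ a • e = e + l := by
  obtain ⟨x, rfl⟩ := G.al_surj hl ha
  have hx : x ∉ G.E hl := h1
  obtain ⟨f, hf, hf'⟩ := Submodule.exists_le_ker_of_notMem hx
  obtain ⟨e, he, he'⟩ := G.dual hl ((f x)⁻¹ • f) (fun y hy => by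
    have : y ∈ LinearMap.ker f := hf' hy
    rw [LinearMap.mem_ker] at this
    simp [this])
  refine ⟨e, he, ?_⟩
  have := he' x
  rw [LinearMap.smul_apply, smul_eq_mul, inv_mul_cancel₀ hf, one_smul] at this
  calc al l x • e = e + (al l x • e + e) := by rw [add_comm (al l x • e) e, G.two_left]
    _ = e + l := by rw [this]

/-- congruence: `al l x = al l y` iff `al l (x + y) = 1` -/
theorem al_eq {l : M} (hl : l ∈ L) {x y : M} : al l (x + y) = 1 ↔ al l x = al l y := by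
  rw [G.al_add hl]
  constructor
  · intro h
    have := eq_inv_of_mul_eq_one_left h
    rwa [G.inv hl (G.al_mem hl y)] at this
  · intro h
    rw [h, G.sq hl (G.al_mem hl y)]

/-- `beta (e, x) = 0` mod `λ_l` for `e ∈ Ebar_l` -/
theorem ker' {l : M} (hl : l ∈ L) {e : M} (he : al l e = 1) {a : H} (ha : a ∈ A l) : ∃ c : F, a • e + e = c • l := by
  obtain ⟨c, hc⟩ := (G.al_ker hl e).1 he a ha
  exact ⟨c, by rw [hc]; rw [add_assoc, add_comm (c • l) e, G.two_left]⟩

/-- the point of `Ebar_m` -/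
theorem cop_of {l m : M} {c : H} (hl : l ∈ L) (hm : m ∈ L) (hc : c ∈ A l) (hcm : c ∈ A m) (hc1 : c ≠ 1) :
    m ∈ I l := by
  obtain ⟨e, -, he⟩ := G.phi hm hcm hc1
  have := G.comm hl hc e
  rwa [he, add_assoc, add_comm m e, G.two_left] at this

/-- `F`-independence of `α_l(x)`, `α_l(y)` -/
def Ind (F : Type*) {M H : Type*} [Field F] [AddCommGroup M] [Module F M] [Group H] (al : M → M → H) (l x y : M) :
    Prop := ∀ f g : F, al l (f • x + g • y) = 1 → f = 0 ∧ g = 0

/-- the points of `λ_l + λ_m` -/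
theorem copL' (C : Cop F L A I al) {l m : M} (hl : l ∈ L) (hm : m ∈ L) (hml : m ∈ I l) {c : H} {t : F}
    (hc : c ∈ A l) (hcm : c ∈ A m) (ht : m + t • l ∈ L) : c ∈ A (m + t • l) := by
  by_cases h0 : t = 0
  · rwa [h0, zero_smul, add_zero]
  · have e : m + t • l = t • (l + t⁻¹ • m) := by
      rw [smul_add, smul_smul, mul_inv_cancel₀ h0, one_smul, add_comm]
    have e' : l + t⁻¹ • m = t⁻¹ • (m + t • l) := by
      rw [smul_add, smul_smul, inv_mul_cancel₀ h0, one_smul, add_comm]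
    have h1 : l + t⁻¹ • m ∈ L := by rw [e']; exact G.fsm (inv_ne_zero h0) ht
    rw [e, G.A_sm h0 h1]
    exact C.copL hl hm hml _ hc hcm h1

theorem pt_mem {l m : M} (hl : l ∈ L) (hm : m ∈ L) (hml : m ∈ I l) (hn : NP F l m) (t : F) : m + t • l ∈ L := by
  by_cases h0 : t = 0
  · rwa [h0, zero_smul, add_zero]
  · have e : m + t • l = t • (l + t⁻¹ • m) := by
      rw [smul_add, smul_smul, mul_inv_cancel₀ h0, one_smul, add_comm]
    rw [e]
    rcases G.plane hl hm hml t⁻¹ with h | h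
    · exfalso
      have h1 := G.eq_of_add h
      refine hn t ?_
      rw [h1, smul_smul, mul_inv_cancel₀ h0, one_smul]
    · exact G.fsm h0 h

variable (C : Cop F L A I al) (alt : ∀ {l : M}, l ∈ L → ∀ x : M, ∃ c : F, al l x • x + x = c • l)
    (ind : ∀ {l : M}, l ∈ L → ∀ i j : M, Ind F al l i j → ∀ d : F, al l j • i + i ≠ d • l)
    (hyp : ∀ {l : M}, l ∈ L → ∀ θ : M →ₗ[F] F, θ ≠ 0 → (∀ e, al l e = 1 → θ e = 0) →
      ∃ w, Hyp F L A l w ∧ ∀ y, al l y • w = w ↔ θ y = 0)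
include C alt hyp

/-- one transvection step: `c = α_l(x) ∈ A_l ∩ A_m`, `b = α_l(e)`, `[e, c] = v_m` -/
theorem step {l m e x : M} (hl : l ∈ L) (hm : m ∈ L) (hml : m ∈ I l) (hc : al l x ∈ A m)
    (he : al l x • e + e = m) (hi : Ind F al l e x) (f : F) : al l (f • e) ∈ A m := by
  have two := G.two
  have tl := G.two_left
  obtain ⟨θ, hθ, hθ'⟩ := Submodule.exists_le_ker_of_notMem (p := G.E hl ⊔ Submodule.span F {e}) (v := x) (by
    intro hx
    obtain ⟨y, hy, z, hz, hyz⟩ := Submodule.mem_sup.1 hx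
    obtain ⟨c, rfl⟩ := Submodule.mem_span_singleton.1 hz
    have h1 : al l (c • e + (1 : F) • x) = 1 := by
      rw [one_smul, ← hyz]
      have : c • e + (y + c • e) = y := by rw [add_comm y, tl]
      rw [this]; exact hy
    exact one_ne_zero (hi _ _ h1).2)
  have hθE : ∀ y, al l y = 1 → θ y = 0 := fun y hy => hθ' (Submodule.mem_sup_left hy)
  have hθe : θ e = 0 := hθ' (Submodule.mem_sup_right (Submodule.mem_span_singleton_self e))
  obtain ⟨w, hw, hwθ⟩ := hyp hl θ (fun h0 => hθ (by rw [h0]; rfl)) hθE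
  have hxw : al l x • w ≠ w := fun h => hθ ((hwθ x).1 h)
  have hfw : al l (f • e) • w = w := (hwθ _).2 (by rw [map_smul, hθe, smul_zero])
  have hew : al l e • w = w := (hwθ _).2 hθe
  obtain ⟨g, hg, hgl, hgx⟩ := hw.tv _ (G.al_mem hl x) hxw _ (G.al_mem hl (f • e)) hfw
  have hge : g * al l e * g⁻¹ = al l e := by
    rw [← hw.cent _ (G.al_mem hl e) hew g hg hgl, mul_assoc, mul_inv_cancel, mul_one]
  -- `g • e = e + e₁`
  have h1 : al l (g • e + e) = 1 := by
    rw [G.al_eq hl, G.al_conj hl hgl, hge]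
  obtain ⟨e₁, he₁⟩ : ∃ e₁, e₁ = g • e + e := ⟨_, rfl⟩
  have hge' : g • e = e + e₁ := by rw [he₁, add_comm (g • e) e, tl]
  have h1' : al l e₁ = 1 := he₁ ▸ h1
  -- `g • m = m + t • l`
  obtain ⟨d, hd⟩ := G.bl hl f e e
  obtain ⟨d', hd'⟩ := alt hl e
  have h2 : al l (f • e) • e = e + (f * d' + d) • l := by
    have : al l (f • e) • e = e + (al l (f • e) • e + e) := by rw [add_comm (al l (f • e) • e) e, tl]
    rw [this, hd, hd', smul_smul, ← add_smul]
  have hbm : al l x * al l (f • e) ∈ A l := mul_mem (G.al_mem hl _) (G.al_mem hl _)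
  obtain ⟨d₁, hd₁⟩ := G.ker' hl h1' hbm
  have h3 : g • m = m + (f * d' + d + d₁) • l := by
    have e1 : g • m = (al l x * al l (f • e)) • (e + e₁) + (e + e₁) := by
      rw [← he, smul_add, ← hge', ← hgx]
      congr 1
      rw [← mul_smul, ← mul_smul]
      congr 1
      group
    rw [e1, smul_add]
    have e2 : (al l x * al l (f • e)) • e = e + m + (f * d' + d) • l := by
      rw [mul_smul, h2, smul_add, G.lin, G.A_fix hl (G.al_mem hl x), ← he]
      congr 1
      rw [add_comm (al l x • e) e, tl]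
    have e3 : (al l x * al l (f • e)) • e₁ = e₁ + d₁ • l := by
      rw [← hd₁, add_comm ((al l x * al l (f • e)) • e₁) e₁, tl]
    rw [e2, e3]
    have : e + m + (f * d' + d) • l + (e₁ + d₁ • l) + (e + e₁) =
        (e + e) + (e₁ + e₁) + m + ((f * d' + d) • l + d₁ • l) := by abel
    rw [this, two, two, zero_add, zero_add, ← add_smul]
  have h4 : al l x * al l (f • e) ∈ A (m + (f * d' + d + d₁) • l) := by
    rw [← h3, ← hgx]; exact G.A_conj g hm hc
  have h5 : m + (f * d' + d + d₁) • l ∈ L := by rw [← h3]; exact G.smul g hm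
  have h6 : al l x * al l (f • e) ∈ A m := by
    have h7 := G.copL' C hl h5 (add_mem hml ((I l).smul_mem _ (G.self hl))) (t := f * d' + d + d₁) hbm h4
      (by rwa [add_assoc, two, add_zero])
    rwa [add_assoc, two, add_zero] at h7
  have h8 := mul_mem hc h6
  rwa [← mul_assoc, G.sq hl (G.al_mem hl x), one_mul] at h8

/-- `F₀ = F b + F c ≤ A_m` -/
theorem F0 {l m e x : M} (hl : l ∈ L) (hm : m ∈ L) (hml : m ∈ I l) (hn : NP F l m) (hc : al l x ∈ A m)
    (he : al l x • e + e = m) (hi : Ind F al l e x) (f g : F) : al l (f • e + g • x) ∈ A m := by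
  have hb : ∀ f : F, al l (f • e) ∈ A m := G.step C alt hyp hl hm hml hc he hi
  rw [G.al_add hl]
  refine mul_mem (hb f) ?_
  -- swap
  obtain ⟨d, hd⟩ := G.sy hl x e
  have h1 : al l e • x + x = m + d • l := by
    rw [← hd, he, add_comm (al l e • x + x) m, G.two_left]
  have h2 : m + d • l ∈ L := G.pt_mem hl hm hml hn d
  have h3 : m + d • l ∈ I l := add_mem hml ((I l).smul_mem _ (G.self hl))
  have h4 : al l e ∈ A m := by
    have := hb 1
    rwa [one_smul] at this
  have h5 : al l e ∈ A (m + d • l) := G.copL' C hl hm hml (G.al_mem hl e) h4 h2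
  have hi' : Ind F al l x e := fun f g h => by
    rw [add_comm] at h
    exact (hi _ _ h).symm
  have h6 := G.step C alt hyp hl h2 h3 h5 h1 hi' g
  have h7 := G.copL' C hl h2 h3 (t := d) (G.al_mem hl (g • x)) h6 (by rwa [add_assoc, G.two, add_zero])
  rwa [add_assoc, G.two, add_zero] at h7

omit C alt hyp in
theorem ind_of (alt : ∀ {l : M}, l ∈ L → ∀ x : M, ∃ c : F, al l x • x + x = c • l) {l m e x : M} (hl : l ∈ L)
    (hn : NP F l m) (he : al l x • e + e = m) (hx : al l x ≠ 1) : Ind F al l e x := by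
  have two := G.two
  have tl := G.two_left
  intro f g h
  by_cases h0 : f = 0
  · refine ⟨h0, ?_⟩
    by_contra hg
    rw [h0, zero_smul, zero_add] at h
    apply hx
    have := G.al_sm_one hl g⁻¹ h
    rwa [smul_smul, inv_mul_cancel₀ hg, one_smul] at this
  · exfalso
    obtain ⟨d, hd⟩ := G.ker' hl h (G.al_mem hl x)
    obtain ⟨d', hd'⟩ := alt hl x
    have h1 : f • m = (d + g * d') • l := by
      have e1 : al l x • (f • e + g • x) + (f • e + g • x) = f • (al l x • e + e) + g • (al l x • x + x) := by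
        rw [smul_add, G.lin, G.lin, smul_add, smul_add]; abel
      rw [e1, he, hd', smul_smul] at hd
      calc f • m = (f • m + (g * d') • l) + (g * d') • l := by rw [add_assoc, two, add_zero]
        _ = (d + g * d') • l := by rw [hd, add_smul]
    refine hn (f⁻¹ * (d + g * d')) ?_
    rw [mul_smul, ← h1, smul_smul, inv_mul_cancel₀ h0, one_smul]

omit C hyp in
/-- `k = 2` : `M = Ebar_l + Ebar_m` -/
theorem sum_of {l m e x : M} (hl : l ∈ L) (hm : m ∈ L) (hn : NP F l m) (hA : ∀ a ∈ A l, a ∈ A m)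
    (hx : al l x ≠ 1) (hspan : G.E hl ⊔ Submodule.span F {e, x} = ⊤) (y : M) :
    ∃ u v, al l u = 1 ∧ al m v = 1 ∧ y = u + v := by
  have key : ∀ a ∈ A l, a ≠ 1 → ∃ v, al m v = 1 ∧ a • v + v = m := by
    intro a ha ha1
    obtain ⟨v, hv, hv'⟩ := G.phi hm (hA a ha) ha1
    exact ⟨v, hv, by rw [hv', add_comm v m, add_assoc, G.two, add_zero]⟩
  obtain ⟨v₁, hv₁, h₁⟩ := key _ (G.al_mem hl x) hx
  have hi₁ : Ind F al l v₁ x := G.ind_of alt hl hn h₁ hx
  have hv₁1 : al l v₁ ≠ 1 := fun h => by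
    have := (hi₁ 1 0 (by rw [one_smul, zero_smul, add_zero]; exact h)).1
    exact one_ne_zero this
  obtain ⟨v₂, hv₂, h₂⟩ := key _ (G.al_mem hl v₁) hv₁1
  have hi₂ : Ind F al l v₂ v₁ := G.ind_of alt hl hn h₂ hv₁1
  -- `v₁, v₂` span modulo `E`
  have hsp : Submodule.span F {(G.E hl).mkQ e, (G.E hl).mkQ x} = ⊤ := by
    have h1 := congrArg (Submodule.map (G.E hl).mkQ) hspan
    rw [Submodule.map_sup, Submodule.map_span, Submodule.mkQ_map_self, bot_sup_eq, Submodule.map_top,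
      Submodule.range_mkQ, Set.image_pair] at h1
    exact h1
  have hfin : Module.Finite F (M ⧸ G.E hl) := ⟨by rw [← hsp]; exact Submodule.fg_span (Set.toFinite _)⟩
  have hrank : Module.finrank F (M ⧸ G.E hl) ≤ 2 := by
    classical
    have h1 := finrank_span_finset_le_card (R := F) ({(G.E hl).mkQ e, (G.E hl).mkQ x} : Finset (M ⧸ G.E hl))
    have h2 : ((({(G.E hl).mkQ e, (G.E hl).mkQ x} : Finset (M ⧸ G.E hl)) : Set (M ⧸ G.E hl))) =
        {(G.E hl).mkQ e, (G.E hl).mkQ x} := by simp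
    rw [h2, Set.finrank, hsp, finrank_top] at h1
    exact h1.trans Finset.card_le_two
  have hli : LinearIndependent F ![(G.E hl).mkQ v₂, (G.E hl).mkQ v₁] := by
    rw [LinearIndependent.pair_iff]
    intro s t hst
    rw [← map_smul, ← map_smul, ← map_add] at hst
    exact hi₂ s t ((Submodule.Quotient.mk_eq_zero _).1 hst)
  have htop : Submodule.span F (Set.range ![(G.E hl).mkQ v₂, (G.E hl).mkQ v₁]) = ⊤ := by
    refine hli.span_eq_top_of_card_eq_finrank' ?_
    have := hli.fintype_card_le_finrank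
    simp only [Fintype.card_fin] at this ⊢
    omega
  have hy : (G.E hl).mkQ y ∈ Submodule.span F (Set.range ![(G.E hl).mkQ v₂, (G.E hl).mkQ v₁]) := by
    rw [htop]; trivial
  rw [Matrix.range_cons, Matrix.range_cons, Matrix.range_empty, Set.union_empty, Set.singleton_union,
    Submodule.mem_span_pair] at hy
  obtain ⟨s, t, hst⟩ := hy
  rw [← map_smul, ← map_smul, ← map_add] at hst
  have h3 : (G.E hl).mkQ (y - (s • v₂ + t • v₁)) = 0 := by rw [map_sub, hst, sub_self]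
  have h4 : y - (s • v₂ + t • v₁) ∈ G.E hl := (Submodule.Quotient.mk_eq_zero _).1 h3
  refine ⟨y - (s • v₂ + t • v₁), s • v₂ + t • v₁, h4, ?_, by abel⟩
  exact (G.E hm).add_mem ((G.E hm).smul_mem _ hv₂) ((G.E hm).smul_mem _ hv₁)

omit C alt hyp in
/-- `x ↦ [x, a']` is injective -/
theorem br_inj₁ {l w : M} {a' x x' : H} (hl : l ∈ L) (hw : Hyp F L A l w) (ha' : a' ∈ A w) (hal : a' • l ≠ l)
    (hx : x ∈ A l) (hxw : x • w = w) (hx' : x' ∈ A l) (hxw' : x' • w = w)
    (h : x * (a' * x * a') = x' * (a' * x' * a')) : x = x' := by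
  have hxx := G.sq hl hx
  have hxx' := G.sq hl hx'
  have hcomm := G.A_comm hl hx hx'
  by_contra hne
  have h1 : x' * x ≠ 1 := fun h1 => hne (by
    have := eq_inv_of_mul_eq_one_right h1
    rwa [G.inv hl hx'] at this)
  refine hw.inj _ (mul_mem hx' hx) (by rw [mul_smul, hxw, hxw']) h1 a' ha' hal ?_
  have h2 : x * a' * x = x' * a' * x' := by
    have h3 : x * a' * x * a' = x' * a' * x' * a' := by simpa only [mul_assoc] using h
    exact mul_right_cancel h3
  calc x' * x * a' = x' * (x * a' * x) * x := by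
        rw [show x' * (x * a' * x) * x = x' * x * a' * (x * x) by group, hxx, mul_one]
    _ = x' * (x' * a' * x') * x := by rw [h2]
    _ = a' * (x' * x) := by rw [show x' * (x' * a' * x') * x = x' * x' * a' * (x' * x) by group, hxx', one_mul]

omit C alt hyp in
theorem br_inj₂ {l w : M} {a y y' : H} (hw : Hyp F L A l w) (ha : a ∈ A l) (haw : a • w ≠ w)
    (hy : y ∈ A w) (hyl : y • l = l) (hy' : y' ∈ A w) (hyl' : y' • l = l)
    (h : a * y * a⁻¹ * y⁻¹ = a * y' * a⁻¹ * y'⁻¹) : y = y' := by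
  by_contra hne
  have h1 : y'⁻¹ * y ≠ 1 := fun h1 => hne (by
    have := eq_inv_of_mul_eq_one_right h1
    rwa [inv_inv] at this)
  have hyl'' : y'⁻¹ • l = l := by
    conv_lhs => rw [← hyl', ← mul_smul, inv_mul_cancel, one_smul]
  refine hw.inj' _ (mul_mem (inv_mem hy') hy) (by rw [mul_smul, hyl, hyl'']) h1 a ha haw ?_
  have h2 : y * a⁻¹ * y⁻¹ = y' * a⁻¹ * y'⁻¹ := by
    have h3 : a * (y * a⁻¹ * y⁻¹) = a * (y' * a⁻¹ * y'⁻¹) := by simpa only [mul_assoc] using h
    exact mul_left_cancel h3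
  have h4 : y * a * y⁻¹ = y' * a * y'⁻¹ := by
    have := congrArg (·⁻¹) h2
    simpa only [mul_inv_rev, inv_inv, mul_assoc] using this
  calc y'⁻¹ * y * a = y'⁻¹ * (y * a * y⁻¹) * y := by group
    _ = y'⁻¹ * (y' * a * y'⁻¹) * y := by rw [h4]
    _ = a * (y'⁻¹ * y) := by group

include ind in
/-- **`A_l ∩ A_m = 1`** (bb OMEGA #20317 (H)) -/
theorem ti [Finite F]
    (fold : ∀ {l m : M}, l ∈ L → m ∈ L → m ∈ I l → NP F l m → (∀ a ∈ A m, a ∈ A l) →
      (∀ y, ∃ u v, al l u = 1 ∧ al m v = 1 ∧ y = u + v) → False)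
    {l m : M} {c : H} (hl : l ∈ L) (hm : m ∈ L) (hc : c ∈ A l) (hcm : c ∈ A m) (hc1 : c ≠ 1) :
    ∃ t : F, m = t • l := by
  by_contra hn'
  have hn : NP F l m := fun t ht => hn' ⟨t, ht⟩
  have two := G.two
  have tl := G.two_left
  have hml : m ∈ I l := G.cop_of hl hm hc hcm hc1
  have hlm : l ∈ I m := G.cop_of hm hl hcm hc hc1
  obtain ⟨x, rfl⟩ := G.al_surj hl hc
  obtain ⟨e, -, he⟩ : ∃ e, al m e = 1 ∧ al l x • e = e + m := G.phi hm hcm hc1
  have he' : al l x • e + e = m := by rw [he, add_comm e m, add_assoc, two, add_zero]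
  have hi : Ind F al l e x := G.ind_of alt hl hn he' hc1
  have hF0 := G.F0 C alt hyp hl hm hml hn hcm he' hi
  by_cases hT : G.E hl ⊔ Submodule.span F {e, x} = ⊤
  · -- `k = 2`
    have hA : ∀ a ∈ A l, a ∈ A m := by
      intro a ha
      obtain ⟨y, rfl⟩ := G.al_surj hl ha
      have hy : y ∈ G.E hl ⊔ Submodule.span F {e, x} := by rw [hT]; trivial
      obtain ⟨y₀, hy₀, z, hz, rfl⟩ := Submodule.mem_sup.1 hy
      obtain ⟨f, g, rfl⟩ := Submodule.mem_span_pair.1 hz
      rw [G.al_add hl, show al l y₀ = 1 from hy₀, one_mul]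
      exact hF0 f g
    refine fold hm hl hlm (G.np_symm hl hn) hA fun y => ?_
    obtain ⟨u, v, hu, hv, e1⟩ := G.sum_of alt hl hm hn hA hc1 hT y
    exact ⟨v, u, hv, hu, by rw [e1, add_comm]⟩
  · -- `k ≥ 3`
    obtain ⟨θ, hθ, hθ'⟩ := Submodule.exists_le_ker_of_lt_top _ (lt_top_iff_ne_top.2 hT)
    obtain ⟨w, hw, hwθ⟩ := hyp hl θ hθ (fun y hy => hθ' (Submodule.mem_sup_left hy))
    have hθs : ∀ f g : F, θ (f • e + g • x) = 0 := fun f g =>
      hθ' (Submodule.mem_sup_right (Submodule.mem_span_pair.2 ⟨f, g, rfl⟩))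
    have hθe : θ e = 0 := by simpa using hθs 1 0
    have hθx : θ x = 0 := by simpa using hθs 0 1
    have hfix : ∀ f g : F, al l (f • e + g • x) • w = w := fun f g => (hwθ _).2 (hθs f g)
    have hew : al l e • w = w := (hwθ _).2 hθe
    have hxw : al l x • w = w := (hwθ _).2 hθx
    obtain ⟨y₀, hy₀⟩ : ∃ y₀, θ y₀ ≠ 0 := by
      by_contra hcon
      push Not at hcon
      exact hθ (LinearMap.ext hcon)
    have ha := G.al_mem hl y₀
    have haw : al l y₀ • w ≠ w := fun h => hy₀ ((hwθ _).1 h)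
    obtain ⟨c', hc', hcl', hca⟩ := hw.tv _ ha haw _ hc hxw
    obtain ⟨v, hv⟩ : ∃ v, v = c' • y₀ + y₀ := ⟨_, rfl⟩
    have hvw : v ∈ I w := hv ▸ G.comm hw.mem hc' y₀
    have hav : al l v = al l x := by
      rw [hv, G.al_add hl, G.al_conj hl hcl', hca, mul_assoc, ← G.A_comm hl ha hc, ← mul_assoc, G.sq hl ha, one_mul]
    obtain ⟨u, hu⟩ : ∃ u, u = al l e • v + v := ⟨_, rfl⟩
    have huw : u ∈ I w := hu ▸ add_mem (G.I_conj' hw.mem hvw hew) hvw
    have hul : u ∈ I l := hu ▸ G.comm hl (G.al_mem hl e) v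
    obtain ⟨d, hd⟩ := G.sy hl v e
    have hum : u = m + d • l := by
      rw [hav, he'] at hd
      rw [hu, ← hd, add_comm (al l e • v + v) m, tl]
    have huL : u ∈ L := hum ▸ G.pt_mem hl hm hml hn d
    have hnu : NP F l u := by
      intro t ht
      refine hn (t + d) ?_
      rw [add_smul, ← ht, hum, add_assoc, two, add_zero]
    have hF0u : ∀ f g : F, al l (f • e + g • x) ∈ A u := fun f g => by
      rw [hum]
      exact G.copL' C hl hm hml (G.al_mem hl _) (hF0 f g) (by rw [← hum]; exact huL)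
    obtain ⟨a', ha', hal'⟩ := hw.move
    have haa' := G.sq hw.mem ha'
    have hau' : a' • u = u := G.fix hw.mem ha' huw
    -- `y₁`
    have hy₁ : ∀ x₀ ∈ A l, x₀ • w = w → x₀ * (a' * x₀ * a') ∈ A w := by
      intro x₀ hx₀ hxw₀
      have := mul_mem (G.A_conj' hw.mem ha' (G.sq hl hx₀) hxw₀) ha'
      simpa only [mul_assoc] using this
    have hy₁l : ∀ x₀ ∈ A l, x₀ • w = w → (x₀ * (a' * x₀ * a')) • l = l := by
      intro x₀ hx₀ hxw₀
      obtain ⟨t, ht⟩ := hw.back a' ha'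
      have hxl := G.A_fix hl hx₀
      have haw' : a' • w = w := G.A_fix hw.mem ha'
      have h1 : x₀ • (a' • l) = a' • l := by rw [ht, smul_add, G.lin, hxl, hxw₀]
      have h2 : a' • (a' • l) = l := by rw [← mul_smul, haa', one_smul]
      rw [mul_smul, mul_smul, mul_smul, h1, h2, hxl]
    have hy₁u : ∀ x₀ ∈ A u, x₀ * (a' * x₀ * a') ∈ A u := fun x₀ hx₀ =>
      mul_mem hx₀ (G.A_conj' huL hx₀ haa' hau')
    let X : F × F → H := fun p => al l (p.1 • e + p.2 • x)
    have hX : ∀ p, X p ∈ A l := fun p => G.al_mem hl _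
    have hXw : ∀ p, X p • w = w := fun p => hfix p.1 p.2
    have hXu : ∀ p, X p ∈ A u := fun p => hF0u p.1 p.2
    have hXinj : Function.Injective X := by
      rintro ⟨f, g⟩ ⟨f', g'⟩ h
      have h1 : al l ((f • e + g • x) + (f' • e + g' • x)) = 1 := (G.al_eq hl).2 h
      have h2 : (f • e + g • x) + (f' • e + g' • x) = (f + f') • e + (g + g') • x := by
        rw [add_smul, add_smul]; abel
      rw [h2] at h1
      obtain ⟨h3, h4⟩ := hi _ _ h1
      have h5 : (1 : F) + 1 = 0 := by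
        have : ((1 : F) + 1) • l = 0 := by rw [add_smul, one_smul, two]
        exact (smul_eq_zero.1 this).resolve_right (G.ne_zero hl)
      have h6 : ∀ s t : F, s + t = 0 → s = t := fun s t hst => by
        have : t + t = 0 := by rw [show t + t = (1 + 1) * t by ring, h5, zero_mul]
        calc s = s + (t + t) := by rw [this, add_zero]
          _ = (s + t) + t := by ring
          _ = t := by rw [hst, zero_add]
      rw [Prod.mk.injEq]
      exact ⟨h6 _ _ h3, h6 _ _ h4⟩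
    let Y : F × F → H := fun p => X p * (a' * X p * a')
    have hYinj : Function.Injective Y := fun p p' h =>
      hXinj (G.br_inj₁ hl hw ha' hal' (hX p) (hXw p) (hX p') (hXw p') h)
    let Zf : F × F → H := fun p => al l y₀ * Y p * (al l y₀)⁻¹ * (Y p)⁻¹
    have hZinj : Function.Injective Zf := fun p p' h =>
      hYinj (G.br_inj₂ hw ha haw (hy₁ _ (hX p) (hXw p)) (hy₁l _ (hX p) (hXw p)) (hy₁ _ (hX p') (hXw p'))
        (hy₁l _ (hX p') (hXw p')) h)
    have hZ : ∀ p, ∃ j ∈ I u, Zf p = al l j := fun p => C.copA hl huL hul ha (hy₁u _ (hXu p))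
    choose J hJ hJ' using hZ
    have hX0 : X (0, 0) = 1 := by
      change al l ((0 : F) • e + (0 : F) • x) = 1
      rw [zero_smul, zero_smul, add_zero, G.al_zero hl]
    have hZ0 : Zf (0, 0) = 1 := by
      change al l y₀ * (X (0, 0) * (a' * X (0, 0) * a')) * (al l y₀)⁻¹ * (X (0, 0) * (a' * X (0, 0) * a'))⁻¹ = 1
      rw [hX0, one_mul, mul_one, haa', mul_one, mul_inv_cancel, one_mul, inv_one]
    have hJ0 : al l (J (1, 0)) ≠ 1 := by
      intro h
      rw [← hJ', ← hZ0] at h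
      have := hZinj h
      rw [Prod.mk.injEq] at this
      exact one_ne_zero this.1
    have hτ : ∀ p, ∃ t : F, Zf p = al l (t • J (1, 0)) := by
      intro p
      have h1 : ¬ Ind F al l (J (1, 0)) (J p) := fun h1 =>
        ind hl _ _ h1 0 (by rw [C.copF hl huL hul (hJ p) (hJ (1, 0)), two, zero_smul])
      unfold Ind at h1
      push Not at h1
      obtain ⟨f, g, h2, h3⟩ := h1
      have hg : g ≠ 0 := by
        intro hg
        rw [hg, zero_smul, add_zero] at h2
        by_cases hf : f = 0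
        · exact h3 hf hg
        · apply hJ0
          have := G.al_sm_one hl f⁻¹ h2
          rwa [smul_smul, inv_mul_cancel₀ hf, one_smul] at this
      refine ⟨g⁻¹ * f, ?_⟩
      have h4 := G.al_sm_one hl g⁻¹ h2
      rw [smul_add, smul_smul, smul_smul, inv_mul_cancel₀ hg, one_smul] at h4
      rw [hJ']
      exact ((G.al_eq hl).1 h4).symm
    choose τ hτ' using hτ
    have hτinj : Function.Injective τ := fun p p' h => hZinj (by rw [hτ', hτ', h])
    have h1 := Nat.card_le_card_of_injective τ hτinj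
    rw [Nat.card_prod] at h1
    have h2 : 1 < Nat.card F := Finite.one_lt_card
    nlinarith

end

end Pre

end Cfsg.Agent.Omega.NO3S.OneQ.Sg.T
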