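import Cfsg.Agent.Omega.NO3S.OneQ.Rad
import Cfsg.Agent.Omega.NO3S.OneQ.InstLoc
import Cfsg.Agent.Omega.NO3S.OneQ.Sg.Cop
import Cfsg.Agent.Omega.NO3S.OneQ.Sg.TI

/-!
# NO-3S, `OneSz` (`q ≥ 4`, `n = 1`), case (N), `D_Z` arbitrary: coplanar points in `MF`

* `Co.rad_line_eq` : lines on `Z` with a common element outside `Z` modulo `rd` are equal;
* **`Co.line_le_I_of_Ib`** : `c v0 ∈ Ī` implies `V^c ≤ I_V`;
* `Co.copA0`, `Co.copF0`, `Co.copL0` : the fields of `Sg.T.Cop` at `v0`;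
* `Loc.toCop` : `Sg.T.Cop` from its form at `v0`; **`Co.cop`**.
-/

set_option autoImplicit false
set_option linter.unusedSectionVars false

namespace Cfsg.Agent.Omega.NO3S.OneQ

open Subgroup Cfsg Cfsg.Agent.Omega.NO3S.PT Cfsg.Agent.Omega.NoFF.Basic
open scoped Pointwise

universe u

namespace Co

variable {G : Type u} [Group G] [Finite G] {F : Type*} [Field F] [CharP F 2] {S : Sylow 2 G} {B P V Z : Subgroup G}
  (h : Co F S B P V Z)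

/-- the vector of an element of a line -/
theorem fm_line {c : G} (hc : c ∈ centralizer (Z : Set G)) (x y : F) (hW : c * h.e x y * c⁻¹ ∈ ws V Z) :
    h.fm ⟨c * h.e x y * c⁻¹, hW⟩ = y • h.rp ⟨c, h.C_le_hat hc⟩ h.v0 := by
  have e : h.rp ⟨c, h.C_le_hat hc⟩ (h.fm ⟨h.e x y, h.W_V x y⟩) = _ := h.rp_fm' (h.C_le_hat hc) (h.W_V x y)
  rw [← map_smul, ← h.fm_e x y, e]

theorem rp_inv_apply {c : G} (hc : c ∈ h.hat) (m : h.MF) : h.rp ⟨c⁻¹, inv_mem hc⟩ (h.rp ⟨c, hc⟩ m) = m := by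
  rw [← Module.End.mul_apply, ← map_mul]
  have e : (⟨c⁻¹, inv_mem hc⟩ : h.hat) * ⟨c, hc⟩ = 1 := Subtype.ext (inv_mul_cancel c)
  rw [e, map_one]; rfl

theorem rp_mul_apply {c d : G} (hc : c ∈ h.hat) (hd : d ∈ h.hat) (m : h.MF) :
    h.rp ⟨c * d, mul_mem hc hd⟩ m = h.rp ⟨c, hc⟩ (h.rp ⟨d, hd⟩ m) := by
  rw [← Module.End.mul_apply, ← map_mul]; rfl

include h in
/-- two lines on `Z` with the same point of `MF` -/
theorem rad_line_eq [Finite F] (hN : NTr V Z) {L M : Subgroup G} (hL : IsCj V L) (hZL : Z ≤ L) (hM : IsCj V M)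
    (hZM : Z ≤ M) {l m : G} (hl : l ∈ L) (hlZ : l ∉ Z) (hm : m ∈ M) (hlm : l * m⁻¹ ∈ rd V Z) : L = M := by
  obtain ⟨c, hc, rfl⟩ := h.line_eq hL hZL
  obtain ⟨d, hd, rfl⟩ := h.line_eq hM hZM
  have hlW := h.one.line_le_ws hL hZL hl
  have hmW := h.one.line_le_ws hM hZM hm
  obtain ⟨x, y, e1⟩ := (h.mem_V _).1 (mem_cj.1 hl)
  obtain ⟨x', y', e2⟩ := (h.mem_V _).1 (mem_cj.1 hm)
  have e1' : l = c * h.e x y * c⁻¹ := by rw [e1]; group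
  have e2' : m = d * h.e x' y' * d⁻¹ := by rw [e2]; group
  have hy : y ≠ 0 := by
    rintro rfl
    apply hlZ
    rw [e1', (mem_centralizer_iff.1 hc _ (h.e_memZ x)).symm, mul_inv_cancel_right]
    exact h.e_memZ x
  subst e1'
  subst e2'
  have h1 := (h.fm_eq hlW hmW).2 hlm
  rw [h.fm_line hc, h.fm_line hd] at h1
  have hy' : y' ≠ 0 := by
    rintro rfl
    rw [zero_smul] at h1
    rcases smul_eq_zero.1 h1 with e | e
    · exact hy e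
    · have h2 := h.rp_inv_apply (h.C_le_hat hc) h.v0
      rw [e, map_zero] at h2
      exact h.v0_ne h2.symm
  have h2 : h.rp ⟨c⁻¹ * d, h.C_le_hat (mul_mem (inv_mem hc) hd)⟩ h.v0 = (y'⁻¹ * y) • h.v0 := by
    have h3 := h.rp_mul_apply (inv_mem (h.C_le_hat hc)) (h.C_le_hat hd) h.v0
    have h4 : h.rp ⟨d, h.C_le_hat hd⟩ h.v0 = (y'⁻¹ * y) • h.rp ⟨c, h.C_le_hat hc⟩ h.v0 := by
      rw [mul_smul, h1, smul_smul, inv_mul_cancel₀ hy', one_smul]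
    rw [h4, map_smul, h.rp_inv_apply] at h3
    exact h3
  have h3 := cj_eq_iff.2 (h.norm_of_smul_N hN (mul_mem (inv_mem hc) hd) h2)
  calc PT.cj c V = PT.cj c (PT.cj (c⁻¹ * d) V) := by rw [h3]
    _ = PT.cj d V := by rw [cj_cj, mul_inv_cancel_left]

include h in
/-- `[Y_l, D_Z] ≤ I` -/
theorem yl_I_dd [Finite F] (hN : NTr V Z) {k d : G} (hk : k ∈ yl V Z) (hd : d ∈ dd V Z Z) :
    k * d * k⁻¹ * d⁻¹ ∈ IV V Z := by
  let E : Subgroup G :=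
    { carrier := {g | g ∈ centralizer (V : Set G) ∧ ∀ w ∈ dd V Z Z, g * w * g⁻¹ * w⁻¹ ∈ IV V Z}
      one_mem' := ⟨one_mem _, fun c _ => by
        have : (1 : G) * c * 1⁻¹ * c⁻¹ = 1 := by group
        rw [this]; exact one_mem _⟩
      mul_mem' := by
        rintro a b ⟨ha, ha'⟩ ⟨hb, hb'⟩
        refine ⟨mul_mem ha hb, fun c hc => ?_⟩
        have e : a * b * c * (a * b)⁻¹ * c⁻¹ = a * (b * c * b⁻¹ * c⁻¹) * a⁻¹ * (a * c * a⁻¹ * c⁻¹) := by group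
        rw [e]
        exact (IV V Z).mul_mem
          ((mem_normalizer_iff.1 (normalizer_le_IV V Z (centralizer_le_normalizer _ ha)) _).1 (hb' c hc)) (ha' c hc)
      inv_mem' := by
        rintro a ⟨ha, ha'⟩
        refine ⟨inv_mem ha, fun c hc => ?_⟩
        have e : a⁻¹ * c * a⁻¹⁻¹ * c⁻¹ = a⁻¹ * (a * c * a⁻¹ * c⁻¹)⁻¹ * a⁻¹⁻¹ := by group
        rw [e]
        exact (mem_normalizer_iff.1 (normalizer_le_IV V Z (centralizer_le_normalizer _ (inv_mem ha))) _).1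
          ((IV V Z).inv_mem (ha' c hc)) }
  have key : yl V Z ≤ E := by
    refine sSup_le ?_
    rintro _ ⟨Y, hY, rfl⟩
    rintro k ⟨hk, hkV⟩
    exact ⟨hkV, fun w hw => h.one.hJ (h.w1_le_ee hN) Y hY k hk hkV w (dd_le_DL h.one.self hw)⟩
  exact (key hk).2 d hd

include h in
/-- **`c v0 ∈ Ī` implies `V^c ≤ I_V`** -/
theorem line_le_I_of_Ib [Finite F] (hN : NTr V Z) {ζ : F} (hζ0 : ζ ≠ 0) (hζ : ζ ≠ 1) {c : G}
    (hc : c ∈ centralizer (Z : Set G)) (hI : h.rp ⟨c, h.C_le_hat hc⟩ h.v0 ∈ h.Ib) : PT.cj c V ≤ IV V Z := by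
  have hZ := h.one.self.cj
  have hcZ : PT.cj c Z = Z := cj_eq_iff.2 (centralizer_le_normalizer _ hc)
  have hZM : Z ≤ PT.cj c V := by
    nth_rewrite 1 [← hcZ]
    exact cj_le_cj.2 h.one.pl.ZV
  have hM : IsCj V (PT.cj c V) := ⟨c, rfl⟩
  obtain ⟨u, hu, hue⟩ := hI
  have huW := h.one.I_le_W' hu
  set m := c * h.e 0 1 * c⁻¹ with hm
  have hmM : m ∈ PT.cj c V := conj_mem_cj (h.e_memV 0 1)
  have hmW : m ∈ ws V Z := h.one.line_le_ws hM hZM hmM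
  have hmZ : m ∉ Z := by
    intro e
    have h1 : h.e 0 1 ∈ Z := by
      have h2 : c⁻¹ * m * c = h.e 0 1 := by rw [hm]; group
      rw [← h2, ← mem_cj, hcZ]; exact e
    rw [h.e_memZ_iff] at h1
    exact one_ne_zero h1
  have h1 : h.fm ⟨m, hmW⟩ = h.fm ⟨u, huW⟩ := by
    rw [hue]
    have := h.fm_line hc 0 1 hmW
    rw [one_smul] at this
    exact this
  have hr : m * u⁻¹ ∈ rd V Z := (h.fm_eq hmW huW).1 h1
  have hMI : PT.cj c V ≤ IV (PT.cj c V) Z := by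
    obtain ⟨S', C', R, h'⟩ := h.one.flag hM hZ hZM
    exact h'.pl.V_le_IV
  have hV : IsCj V V := ⟨1, (cj_one V).symm⟩
  by_cases huV : u ∈ V
  · have h2 := h.rad_line_eq hN hM hZM hV h.one.pl.ZV hmM hmZ huV hr
    rw [h2]; exact h.one.pl.V_le_IV
  obtain ⟨τ, hτ⟩ := h.exists_tor hζ0
  obtain ⟨x, hxX, hxu, hxτ⟩ := h.one.pl.F2_cover h.one.hf h.one.hO hu huV hτ.mem
  obtain ⟨r, hrdef⟩ : ∃ r, r = m * u⁻¹ := ⟨_, rfl⟩
  rw [← hrdef] at hr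
  have hmr : m = r * u := by rw [hrdef]; group
  have hτZ : τ ∈ normalizer (Z : Set G) := hτ.norm_Z hζ0
  have hxN : x ∈ normalizer (Z : Set G) := by
    have e : x = x * τ⁻¹ * τ := by group
    rw [e]
    exact mul_mem (centralizer_le_normalizer _ (centralizer_le h.one.pl.ZV hxτ)) hτZ
  have hxZ : PT.cj x Z = Z := cj_eq_iff.2 hxN
  -- `x m x⁻¹ = r' m`
  have hr' : x * r * x⁻¹ * r⁻¹ ∈ rd V Z :=
    (rd V Z).mul_mem ((mem_normalizer_iff.1 (norm_rd V Z hxN) r).1 hr) ((rd V Z).inv_mem hr)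
  have e1 : x * m * x⁻¹ = x * r * x⁻¹ * r⁻¹ * m := by
    have e2 : x * u * x⁻¹ = u := by rw [hxu]; group
    calc x * m * x⁻¹ = x * r * x⁻¹ * (x * u * x⁻¹) := by rw [hmr]; group
      _ = x * r * x⁻¹ * u := by rw [e2]
      _ = x * r * x⁻¹ * r⁻¹ * m := by rw [hmr]; group
  have hxm : x * m * x⁻¹ ∈ PT.cj x (PT.cj c V) := conj_mem_cj hmM
  have h2 : PT.cj c V = PT.cj x (PT.cj c V) := by
    refine h.rad_line_eq hN hM hZM (hM.cj x) ?_ hmM hmZ hxm ?_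
    · nth_rewrite 1 [← hxZ]
      exact cj_le_cj.2 hZM
    · have e2 : m * (x * m * x⁻¹)⁻¹ = (x * r * x⁻¹ * r⁻¹)⁻¹ := by rw [e1]; group
      rw [e2]; exact (rd V Z).inv_mem hr'
  rw [← h2] at hxm
  have h3 : x * r * x⁻¹ * r⁻¹ ∈ Z := by
    refine h.rd_flag hM hZ hZM ⟨hr', hMI ?_⟩
    have e2 : x * r * x⁻¹ * r⁻¹ = x * m * x⁻¹ * m⁻¹ := by rw [e1]; group
    rw [e2]
    exact (PT.cj c V).mul_mem hxm ((PT.cj c V).inv_mem hmM)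
  have hs : x * τ⁻¹ ∈ yl V Z := by
    rw [← h.XV_cent]
    exact ⟨(XV V Z).mul_mem hxX ((XV V Z).inv_mem hτ.mem), hxτ⟩
  have hrD : r ∈ dd V Z Z := h.rd_le_dd hN hr
  have h4 : τ * r * τ⁻¹ * r⁻¹ ∈ IV V Z := by
    have h5 := h.yl_I_dd hN ((yl V Z).inv_mem hs) hrD
    have h6 : (x * τ⁻¹)⁻¹ * (x * r * x⁻¹ * r⁻¹) * (x * τ⁻¹) = x * r * x⁻¹ * r⁻¹ := by
      have h7 := mem_centralizer_iff.1 hxτ _ (h.one.pl.ZV h3)
      rw [mul_assoc, h7, inv_mul_cancel_left]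
    have e2 : τ * r * τ⁻¹ * r⁻¹ = (x * τ⁻¹)⁻¹ * (x * r * x⁻¹ * r⁻¹) * (x * τ⁻¹) *
        ((x * τ⁻¹)⁻¹ * r * (x * τ⁻¹)⁻¹⁻¹ * r⁻¹) := by group
    rw [e2, h6]
    exact (IV V Z).mul_mem (h.one.pl.V_le_IV (h.one.pl.ZV h3)) h5
  have h5 : r ∈ IV V Z := h.semi (h.w1_le_ee hN) (h.nn_N hN) hτ hζ0 hζ le_rfl (fun τ ζ hτ' _ => h.Tor_norm_I hτ') hrD h4
  have hmI : m ∈ IV V Z := by rw [hmr]; exact (IV V Z).mul_mem h5 hu
  by_cases hmV : m ∈ V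
  · rw [h.line_eq_of_mem hM hV hZM h.one.pl.ZV hmM hmV hmZ]
    exact h.one.pl.V_le_IV
  · exact h.one.line_le_I hM hZM hmI hmV hmM

/-! ### the fields at `v0` -/

/-- `A0` is normalised by the stabiliser of the point -/
theorem sA0_cop [Finite F] (hN : NTr V Z) {x a : h.HH} {c : F} (hx : x • h.v0 = c • h.v0) (ha : a ∈ h.A0) :
    x * a * x⁻¹ ∈ h.A0 := by
  obtain ⟨g, hg, rfl⟩ := h.exists_rH x
  obtain ⟨b, hb, rfl⟩ := h.mem_A0.1 ha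
  have hgN := h.norm_of_smul_N hN hg hx
  have hbC := h.one.W_le_C h.pY hb
  have hY' : Pnt V Z (PT.cj g h.Yp) := h.pY.conj hgN
  have hgZ : PT.cj g Z = Z := cj_eq_iff.2 (centralizer_le_normalizer _ hg)
  have hne : PT.cj g h.Yp ≠ Z := fun e => h.Yp_ne (cj_inj.1 (e.trans hgZ.symm))
  obtain ⟨k, hk, hkY⟩ := h.one.move h.one.self hY' h.pY hne h.Yp_ne
  have h1 : k * (g * b * g⁻¹) * k⁻¹ ∈ ws V h.Yp := by
    have h2 := conj_mem_cj (g := g) hb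
    rw [← ws_cj] at h2
    have h3 := conj_mem_cj (g := k) h2
    rwa [← ws_cj, hkY] at h3
  refine h.mem_A0.2 ⟨_, h1, ?_⟩
  have hkC := kx_le_cent hk
  have e1 := h.rH_mul (mul_mem hkC (mul_mem (mul_mem hg hbC) (inv_mem hg))) (inv_mem hkC)
  have e2 := h.rH_mul hkC (mul_mem (mul_mem hg hbC) (inv_mem hg))
  have e3 := h.rH_mul (mul_mem hg hbC) (inv_mem hg)
  have e4 := h.rH_mul hg hbC
  have e5 : h.rH (k * (g * b * g⁻¹) * k⁻¹) (h.one.W_le_C h.pY h1) = h.rH g hg * h.rH b hbC * (h.rH g hg)⁻¹ := by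
    rw [e1, e2, e3, e4, h.rH_inv hg, h.rH_inv hkC, h.rH_K hk, one_mul, inv_one, mul_one]
  exact e5.symm

theorem A0_comm {a b : h.HH} (ha : a ∈ h.A0) (hb : b ∈ h.A0) : a * b = b * a := by
  obtain ⟨a', ha', rfl⟩ := h.mem_A0.1 ha
  obtain ⟨b', hb', rfl⟩ := h.mem_A0.1 hb
  have h1 := h.rH_mul (h.one.W_le_C h.pY ha') (h.one.W_le_C h.pY hb')
  have h2 := h.rH_mul (h.one.W_le_C h.pY hb') (h.one.W_le_C h.pY ha')
  rw [← h1, ← h2]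
  exact h.rH_congr _ (h.one.comm_W h.pY.cj ha' hb')

theorem lam_of_smul {x : h.HH} {t : F} (hx : x • h.v0 = t • h.v0) : x⁻¹ • h.v0 = t⁻¹ • h.v0 := by
  have ht : t ≠ 0 := by
    rintro rfl
    rw [zero_smul] at hx
    exact h.v0_ne ((smul_eq_zero_iff_eq x).1 hx)
  have h1 : h.v0 = t • x⁻¹ • h.v0 := by
    calc h.v0 = x⁻¹ • x • h.v0 := (inv_smul_smul x _).symm
      _ = t • x⁻¹ • h.v0 := by rw [hx, smul_comm]
  calc x⁻¹ • h.v0 = t⁻¹ • t • x⁻¹ • h.v0 := by rw [smul_smul t⁻¹, inv_mul_cancel₀ ht, one_smul]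
    _ = t⁻¹ • h.v0 := by rw [← h1]

/-- `Ī` is invariant under the stabiliser of the point -/
theorem sIb_cop [Finite F] (hN : NTr V Z) {x : h.HH} {c : F} {u : h.MF} (hx : x • h.v0 = c • h.v0) (hu : u ∈ h.Ib) :
    x • u ∈ h.Ib := by
  obtain ⟨g, hg, rfl⟩ := h.exists_rH x
  have hgN := h.norm_of_smul_N hN hg hx
  obtain ⟨u, hu, rfl⟩ := hu
  have h1 : g * u * g⁻¹ ∈ IV V Z := (mem_normalizer_iff.1 (normalizer_le_IV V Z hgN) _).1 hu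
  refine ⟨_, h1, ?_⟩
  rw [h.rH_smul]
  exact (h.rp_fm' (h.C_le_hat hg) (h.one.I_le_W' hu)).symm

section

variable [Finite F] (hN : NTr V Z) {ζ : F} (hζ0 : ζ ≠ 0) (hζ : ζ ≠ 1)
include hN hζ0 hζ

/-- the group data of `x v0 ∈ Ī`, `x v0 ∉ F v0` -/
theorem line_data {c : G} (hc : c ∈ centralizer (Z : Set G)) (hx : h.rH c hc • h.v0 ∈ h.Ib)
    (hne : ∀ t : F, h.rH c hc • h.v0 ≠ t • h.v0) : IsCj V (PT.cj c V) ∧ Z ≤ PT.cj c V ∧ PT.cj c V ≠ V ∧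
      PT.cj c V ≤ IV V Z ∧ IsCj Z (PT.cj c h.Yp) ∧ PT.cj c h.Yp ≤ PT.cj c V ∧ PT.cj c h.Yp ≠ Z ∧
        IV (PT.cj c V) Z = PT.cj c (IV V Z) := by
  have hcZ : PT.cj c Z = Z := cj_eq_iff.2 (centralizer_le_normalizer _ hc)
  refine ⟨⟨c, rfl⟩, ?_, ?_, h.line_le_I_of_Ib hN hζ0 hζ hc hx, h.pY.cj.cj c, cj_le_cj.2 h.pY.le, ?_, ?_⟩
  · nth_rewrite 1 [← hcZ]
    exact cj_le_cj.2 h.one.pl.ZV
  · intro e
    have h1 : h.rH c hc • h.v0 ∈ h.lam := by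
      have h2 : c * h.e 0 1 * c⁻¹ ∈ V := (mem_normalizer_iff.1 (cj_eq_iff.1 e) _).1 (h.e_memV 0 1)
      have h3 := h.fm_line hc 0 1 (h.one.V_le_W h.one.self h2)
      rw [one_smul] at h3
      rw [h.rH_smul, ← h3, h.fm_mem_lam]
      exact mem_sup_left h2
    obtain ⟨t, ht⟩ := Submodule.mem_span_singleton.1 h1
    exact hne t ht.symm
  · exact fun e1 => h.Yp_ne (cj_inj.1 (e1.trans hcZ.symm))
  · rw [← PB.Geom.IV_conj h.one.pl h.one.hf, hcZ]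

/-- `copA` at `v0` -/
theorem copA0 {x a b : h.HH} (hx : x • h.v0 ∈ h.Ib) (ha : a ∈ h.A0) (hb : x⁻¹ * b * x ∈ h.A0) :
    ∃ u, x⁻¹ • u ∈ h.Ib ∧ a * b * a⁻¹ * b⁻¹ = h.al0 u := by
  by_cases hlam : ∃ t : F, x • h.v0 = t • h.v0
  · obtain ⟨t, ht⟩ := hlam
    have h1 := h.sA0_cop hN ht hb
    have e : x * (x⁻¹ * b * x) * x⁻¹ = b := by group
    rw [e] at h1
    refine ⟨0, ?_, ?_⟩
    · rw [smul_zero]; exact zero_mem _
    · rw [h.A0_comm ha h1, mul_inv_cancel_right, mul_inv_cancel]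
      exact ((h.al0_one hN).2 (zero_mem _)).symm
  push Not at hlam
  obtain ⟨c, hc, rfl⟩ := h.exists_rH x
  obtain ⟨hM, hZM, hMV, hMI, hp, hpM, hpZ, hIc⟩ := h.line_data hN hζ0 hζ hc hx hlam
  obtain ⟨a', ha', rfl⟩ := h.mem_A0.1 ha
  obtain ⟨b', hb', e1⟩ := h.mem_A0.1 hb
  have hbW : c * b' * c⁻¹ ∈ ws V (PT.cj c h.Yp) := by rw [ws_cj]; exact conj_mem_cj hb'
  obtain ⟨u, hu, huZ, hab, e2⟩ := h.cop_A hM hZM hMV hMI hp hpM hpZ hN ha' hbW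
  have haC := h.one.W_le_C h.pY ha'
  have hb'C := h.one.W_le_C h.pY hb'
  have hbC : c * b' * c⁻¹ ∈ centralizer (Z : Set G) := mul_mem (mul_mem hc hb'C) (inv_mem hc)
  have e3 : b = h.rH (c * b' * c⁻¹) hbC := by
    rw [h.rH_mul (mul_mem hc hb'C) (inv_mem hc), h.rH_mul hc hb'C, h.rH_inv hc, ← e1]
    group
  refine ⟨h.fm ⟨u, huZ⟩, ?_, ?_⟩
  · rw [hIc, mem_cj] at hu
    refine ⟨_, hu, ?_⟩
    have h1 : (h.rH c hc)⁻¹ • h.fm ⟨u, huZ⟩ = h.rp ⟨c⁻¹, h.C_le_hat (inv_mem hc)⟩ (h.fm ⟨u, huZ⟩) := by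
      rw [← h.rH_inv hc]; rfl
    rw [h1]
    refine Eq.trans ?_ (h.rp_fm' (h.C_le_hat (inv_mem hc)) huZ).symm
    congr 1
    apply Subtype.ext
    show c⁻¹ * u * c = c⁻¹ * u * c⁻¹⁻¹
    rw [inv_inv]
  · refine h.HH_ext fun m => ?_
    rw [h.al0_smul, e2, e3, ← h.rH_mul haC hbC, ← h.rH_inv haC, ← h.rH_inv hbC, ← h.rH_mul (mul_mem haC hbC) (inv_mem haC),
      ← h.rH_mul (mul_mem (mul_mem haC hbC) (inv_mem haC)) (inv_mem hbC)]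
    rfl

/-- `copF` at `v0` -/
theorem copF0 {x : h.HH} {u u' : h.MF} (hx : x • h.v0 ∈ h.Ib) (hu : x⁻¹ • u ∈ h.Ib) (hu' : x⁻¹ • u' ∈ h.Ib) :
    h.al0 u • u' = u' := by
  by_cases hlam : ∃ t : F, x • h.v0 = t • h.v0
  · obtain ⟨t, ht⟩ := hlam
    have h1 := h.sIb_cop hN ht hu'
    rw [smul_inv_smul] at h1
    rw [h.al0_smul]
    exact h.al_Ib hN u h1
  push Not at hlam
  obtain ⟨c, hc, rfl⟩ := h.exists_rH x
  obtain ⟨hM, hZM, hMV, hMI, hp, hpM, hpZ, hIc⟩ := h.line_data hN hζ0 hζ hc hx hlam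
  have key : ∀ {u : h.MF}, (h.rH c hc)⁻¹ • u ∈ h.Ib → ∃ w, ∃ hw : w ∈ ws V Z, w ∈ IV (PT.cj c V) Z ∧ u = h.fm ⟨w, hw⟩ := by
    rintro u ⟨i, hi, hie⟩
    have hiW := h.one.I_le_W' hi
    refine ⟨c * i * c⁻¹, h.W_conj (centralizer_le_normalizer _ hc) hiW, ?_, ?_⟩
    · rw [hIc]; exact conj_mem_cj hi
    · have h1 : u = h.rH c hc • h.fm ⟨i, hiW⟩ := by rw [hie, smul_inv_smul]
      rw [h1]
      exact h.rp_fm' (h.C_le_hat hc) hiW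
  obtain ⟨w, hw, hwI, rfl⟩ := key hu
  obtain ⟨w', hw', hwI', rfl⟩ := key hu'
  rw [h.al0_smul]
  exact h.cop_fix hM hZM hMV hMI hp hpM hpZ hN hwI hw hwI' hw'

/-- `copL` at `v0` -/
theorem copL0 {x y c₀ : h.HH} {d e : F} (hx : x • h.v0 ∈ h.Ib) (hc₀ : c₀ ∈ h.A0) (hcx : x⁻¹ * c₀ * x ∈ h.A0)
    (he : e ≠ 0) (hy : h.v0 + d • x • h.v0 = e • y • h.v0) : y⁻¹ * c₀ * y ∈ h.A0 := by
  by_cases hlam : ∃ t : F, x • h.v0 = t • h.v0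
  · obtain ⟨t, ht⟩ := hlam
    have h1 : y • h.v0 = (e⁻¹ * (1 + d * t)) • h.v0 := by
      have h2 : h.v0 + d • x • h.v0 = (1 + d * t) • h.v0 := by rw [ht, smul_smul, add_smul, one_smul]
      rw [h2] at hy
      rw [mul_smul, hy, smul_smul, inv_mul_cancel₀ he, one_smul]
    have h2 := h.sA0_cop hN (h.lam_of_smul h1) hc₀
    rwa [inv_inv] at h2
  push Not at hlam
  obtain ⟨c, hc, rfl⟩ := h.exists_rH x
  obtain ⟨hM, hZM, hMV, hMI, hp, hpM, hpZ, hIc⟩ := h.line_data hN hζ0 hζ hc hx hlam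
  obtain ⟨a, ha, rfl⟩ := h.mem_A0.1 hc₀
  obtain ⟨b', hb', e1⟩ := h.mem_A0.1 hcx
  obtain ⟨r₀, hr₀, rfl⟩ := h.exists_rH y
  have haC := h.one.W_le_C h.pY ha
  have hb'C := h.one.W_le_C h.pY hb'
  have hbW : c * b' * c⁻¹ ∈ ws V (PT.cj c h.Yp) := by rw [ws_cj]; exact conj_mem_cj hb'
  have hbC : c * b' * c⁻¹ ∈ centralizer (Z : Set G) := mul_mem (mul_mem hc hb'C) (inv_mem hc)
  have e3 : h.rH a haC = h.rH (c * b' * c⁻¹) hbC := by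
    rw [h.rH_mul (mul_mem hc hb'C) (inv_mem hc), h.rH_mul hc hb'C, h.rH_inv hc, ← e1]
    group
  have hab : h.rp ⟨a, h.W_hat h.pY ha⟩ = h.rp ⟨c * b' * c⁻¹, h.W_line_hat hM hZM hp hpM hbW⟩ := by
    refine LinearMap.ext fun m => ?_
    have h1 : h.rH a haC • m = h.rH (c * b' * c⁻¹) hbC • m := by rw [e3]
    exact h1
  -- the line of `y v0`
  have hr₀Z : PT.cj r₀ Z = Z := cj_eq_iff.2 (centralizer_le_normalizer _ hr₀)
  have hR : IsCj V (PT.cj r₀ V) := ⟨r₀, rfl⟩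
  have hZR : Z ≤ PT.cj r₀ V := by
    nth_rewrite 1 [← hr₀Z]
    exact cj_le_cj.2 h.one.pl.ZV
  set n := h.e 0 1 * (c * h.e 0 d * c⁻¹) with hn
  have hcd : c * h.e 0 d * c⁻¹ ∈ PT.cj c V := conj_mem_cj (h.e_memV 0 d)
  have hcdW : c * h.e 0 d * c⁻¹ ∈ ws V Z := h.one.line_le_ws hM hZM hcd
  have hnW : n ∈ ws V Z := (ws V Z).mul_mem (h.W_V 0 1) hcdW
  have hnQ : n ∈ V ⊔ PT.cj c V := mul_mem (mem_sup_left (h.e_memV 0 1)) (mem_sup_right hcd)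
  have hr1 : r₀ * h.e 0 e * r₀⁻¹ ∈ PT.cj r₀ V := conj_mem_cj (h.e_memV 0 e)
  have hr1W : r₀ * h.e 0 e * r₀⁻¹ ∈ ws V Z := h.one.line_le_ws hR hZR hr1
  have hr1Z : r₀ * h.e 0 e * r₀⁻¹ ∉ Z := by
    intro h1
    have h1' : r₀ * h.e 0 e * r₀⁻¹ ∈ PT.cj r₀ Z := hr₀Z.symm ▸ h1
    have h2 := mem_cj.1 h1'
    have e4 : r₀⁻¹ * (r₀ * h.e 0 e * r₀⁻¹) * r₀ = h.e 0 e := by group
    rw [e4, h.e_memZ_iff] at h2
    exact he h2
  have hfm : h.fm ⟨r₀ * h.e 0 e * r₀⁻¹, hr1W⟩ = h.fm ⟨n, hnW⟩ := by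
    rw [h.fm_line hr₀]
    have h1 : h.fm ⟨n, hnW⟩ = h.fm ⟨h.e 0 1, h.W_V 0 1⟩ + h.fm ⟨c * h.e 0 d * c⁻¹, hcdW⟩ := by
      rw [← h.fm_mul]; rfl
    rw [h1, h.fm_e, one_smul, h.fm_line hc]
    exact hy.symm
  have hrd := (h.fm_eq hr1W hnW).1 hfm
  have hV : IsCj V V := ⟨1, (cj_one V).symm⟩
  have hRQ : PT.cj r₀ V ≤ V ⊔ PT.cj c V := by
    by_cases hnV : n ∈ V
    · rw [h.rad_line_eq hN hR hZR hV h.one.pl.ZV hr1 hr1Z hnV hrd]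
      exact le_sup_left
    · obtain ⟨k, hk, hkV, hnk⟩ := h.one.cover hM hZM hMV hMI h.pY h.Yp_ne hnQ hnV
      have hkZ : PT.cj k Z = Z := cj_eq_iff.2 (centralizer_le_normalizer _ (centralizer_le h.one.pl.ZV hkV))
      have hZk : Z ≤ PT.cj k (PT.cj c V) := by
        nth_rewrite 1 [← hkZ]
        exact cj_le_cj.2 hZM
      have hkR : PT.cj r₀ V = PT.cj k (PT.cj c V) := h.rad_line_eq hN hR hZR (hM.cj k) hZk hr1 hr1Z hnk hrd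
      rw [hkR]
      intro w hw
      have hw' := mem_cj.1 hw
      have h1 := h.one.XV_I (yl_le_XV V Z (mem_yl_of h.pY hk hkV)) (hMI hw')
      have e4 : w = k * (k⁻¹ * w * k) * k⁻¹ * (k⁻¹ * w * k)⁻¹ * (k⁻¹ * w * k) := by group
      rw [e4]
      exact mul_mem (mem_sup_left h1) (mem_sup_right hw')
  have hrr : IsCj Z (PT.cj r₀ h.Yp) := h.pY.cj.cj r₀
  have hrrZ : PT.cj r₀ h.Yp ≠ Z := fun e1 => h.Yp_ne (cj_inj.1 (e1.trans hr₀Z.symm))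
  obtain ⟨c₁, hc₁, e4⟩ := h.cop_pt hM hZM hMV hMI hp hpM hpZ ha hbW hab hR hZR hRQ hrr (cj_le_cj.2 h.pY.le) hrrZ
  have hc₁C : c₁ ∈ centralizer (Z : Set G) := h.W_line_C hR hZR hrr (cj_le_cj.2 h.pY.le) hc₁
  have e5 : h.rH a haC = h.rH c₁ hc₁C := by
    refine h.HH_ext fun m => ?_
    rw [h.rH_smul, h.rH_smul]
    exact (LinearMap.congr_fun e4 m).symm
  have hc₁' : r₀⁻¹ * c₁ * r₀ ∈ ws V h.Yp := by rw [ws_cj] at hc₁; exact mem_cj.1 hc₁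
  refine h.mem_A0.2 ⟨_, hc₁', ?_⟩
  rw [e5, h.rH_mul (mul_mem (inv_mem hr₀) hc₁C) hr₀, h.rH_mul (inv_mem hr₀) hc₁C, h.rH_inv hr₀]

end

end Co

/-! ### the transport -/

namespace TIq.Loc

variable {F M H : Type*} [Field F] [AddCommGroup M] [Module F M] [Group H] [DistribMulAction H M]
  [SMulCommClass H F M] {v0 : M} {A0 : Subgroup H} {I0 : Submodule F M} {al0 : M → H}
  (D : Loc F v0 A0 I0 al0)
include D

/-- **the record `Sg.T.Cop`** -/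
theorem toCop
    (hA : ∀ {x a b : H}, x • v0 ∈ I0 → a ∈ A0 → x⁻¹ * b * x ∈ A0 → ∃ u, x⁻¹ • u ∈ I0 ∧ a * b * a⁻¹ * b⁻¹ = al0 u)
    (hF : ∀ {x : H} {u u' : M}, x • v0 ∈ I0 → x⁻¹ • u ∈ I0 → x⁻¹ • u' ∈ I0 → al0 u • u' = u')
    (hL : ∀ {x y c : H} {d e : F}, x • v0 ∈ I0 → c ∈ A0 → x⁻¹ * c * x ∈ A0 → e ≠ 0 →
      v0 + d • x • v0 = e • y • v0 → y⁻¹ * c * y ∈ A0) :
    Sg.T.Cop F (LL F H v0) (AA F v0 A0) (II F (H := H) v0 I0) (AL F v0 al0) where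
  copA := by
    intro l m hl hm hml a b ha hb
    obtain ⟨x, c, hc, h1, h2⟩ := D.exists_rep (l := l) hm
    obtain ⟨t, ht, hg⟩ := rr_spec F H hl
    rw [D.mem_II ht hg, h1] at hml
    have hx : x • v0 ∈ I0 := by
      have := I0.smul_mem c⁻¹ hml
      rwa [smul_smul, inv_mul_cancel₀ hc, one_smul] at this
    rw [D.mem_AA_rr hl] at ha
    rw [D.mem_AA hc h2] at hb
    obtain ⟨g, hgd⟩ : ∃ g, g = rr F H v0 l := ⟨_, rfl⟩
    rw [← hgd] at ha hb h1 h2 hg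
    have hb' : x⁻¹ * (g⁻¹ * b * g) * x ∈ A0 := by
      have e : (g * x)⁻¹ * b * (g * x) = x⁻¹ * (g⁻¹ * b * g) * x := by group
      rwa [e] at hb
    obtain ⟨u, hu, hue⟩ := hA hx ha hb'
    refine ⟨g • u, ?_, ?_⟩
    · rw [D.mem_II hc h2]
      have e : (g * x)⁻¹ • g • u = x⁻¹ • u := by
        rw [smul_smul]
        congr 1
        group
      rw [e]; exact hu
    · rw [AL, ← hgd, inv_smul_smul, ← hue]
      group
  copF := by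
    intro l m hl hm hml u u' hu hu'
    obtain ⟨x, c, hc, h1, h2⟩ := D.exists_rep (l := l) hm
    obtain ⟨t, ht, hg⟩ := rr_spec F H hl
    rw [D.mem_II ht hg, h1] at hml
    have hx : x • v0 ∈ I0 := by
      have := I0.smul_mem c⁻¹ hml
      rwa [smul_smul, inv_mul_cancel₀ hc, one_smul] at this
    rw [D.mem_II hc h2] at hu hu'
    have e : ∀ u : M, (rr F H v0 l * x)⁻¹ • u = x⁻¹ • (rr F H v0 l)⁻¹ • u := fun u => by
      rw [smul_smul]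
      congr 1
      group
    rw [e] at hu hu'
    rw [D.act_AL, hF hx hu hu', smul_inv_smul]
  copL := by
    intro l m hl hm hml c₀ d hc₀ hcm hr
    obtain ⟨x, c, hc, h1, h2⟩ := D.exists_rep (l := l) hm
    obtain ⟨t, ht, hg⟩ := rr_spec F H hl
    rw [D.mem_II ht hg, h1] at hml
    have hx : x • v0 ∈ I0 := by
      have := I0.smul_mem c⁻¹ hml
      rwa [smul_smul, inv_mul_cancel₀ hc, one_smul] at this
    rw [D.mem_AA_rr hl] at hc₀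
    rw [D.mem_AA hc h2] at hcm
    obtain ⟨y, e, he, hy⟩ := hr
    rw [D.mem_AA he hy]
    obtain ⟨g, hgd⟩ : ∃ g, g = rr F H v0 l := ⟨_, rfl⟩
    rw [← hgd] at hc₀ hcm h1 h2 hg
    have hcm' : x⁻¹ * (g⁻¹ * c₀ * g) * x ∈ A0 := by
      have e : (g * x)⁻¹ * c₀ * (g * x) = x⁻¹ * (g⁻¹ * c₀ * g) * x := by group
      rwa [e] at hcm
    have h3 : v0 + (t⁻¹ * d * c) • x • v0 = (t⁻¹ * e) • (g⁻¹ * y) • v0 := by
      have h4 : g⁻¹ • (l + d • m) = g⁻¹ • (e • y • v0) := by rw [hy]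
      have h5 : g⁻¹ • l = t • v0 := by
        calc g⁻¹ • l = g⁻¹ • (t • g • v0) := by rw [← hg]
          _ = t • v0 := by rw [lin, inv_smul_smul]
      rw [smul_add, lin, h1, h5, lin, smul_smul d c] at h4
      have h6 : t⁻¹ • (t • v0 + (d * c) • x • v0) = t⁻¹ • (e • g⁻¹ • y • v0) := by rw [h4]
      rw [smul_add, smul_smul t⁻¹ t, inv_mul_cancel₀ ht, one_smul, smul_smul t⁻¹ (d * c), smul_smul t⁻¹ e,
        smul_smul g⁻¹ y, ← mul_assoc] at h6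
      exact h6
    have h7 := hL hx hc₀ hcm' (mul_ne_zero (inv_ne_zero ht) he) h3
    have e6 : (g⁻¹ * y)⁻¹ * (g⁻¹ * c₀ * g) * (g⁻¹ * y) = y⁻¹ * c₀ * y := by group
    rwa [e6] at h7

end TIq.Loc

/-- **the record `Sg.T.Cop` on `MF`**, `D_Z` arbitrary -/
theorem Co.cop {G : Type u} [Group G] [Finite G] {F : Type*} [Field F] [CharP F 2] {S : Sylow 2 G}
    {B P V Z : Subgroup G} (h : Co F S B P V Z) [Finite F] (hN : NTr V Z) {ζ : F} (hζ0 : ζ ≠ 0) (hζ : ζ ≠ 1)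
    {I0 : Submodule F h.MF} (hI : ∀ m, m ∈ I0 ↔ m ∈ h.Ib) (D : TIq.Loc F h.v0 h.A0 I0 h.al0) :
    Sg.T.Cop F (TIq.LL F h.HH h.v0) (TIq.AA F h.v0 h.A0) (TIq.II F (H := h.HH) h.v0 I0) (TIq.AL F h.v0 h.al0) := by
  refine D.toCop ?_ ?_ ?_
  · intro x a b hx ha hb
    obtain ⟨u, hu, e⟩ := h.copA0 hN hζ0 hζ ((hI _).1 hx) ha hb
    exact ⟨u, (hI _).2 hu, e⟩
  · intro x u u' hx hu hu'
    exact h.copF0 hN hζ0 hζ ((hI _).1 hx) ((hI _).1 hu) ((hI _).1 hu')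
  · intro x y c d e hx hc hcx he hy
    exact h.copL0 hN hζ0 hζ ((hI _).1 hx) hc hcx he hy

end Cfsg.Agent.Omega.NO3S.OneQ
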