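import Cfsg.Agent.Omega.NO3S.OneQ.Sg.Jay
import Cfsg.Agent.Omega.NO3S.OneQ.InstLoc
import Cfsg.Agent.Omega.NO3S.OneQ.LemKDual
import Cfsg.Agent.Involutions.BaerSuzuki

/-!
# NO-3S, `OneSz` (`q ≥ 4`, `n = 1`), case (N), `k ≥ 2`: J, (S2) and Baer-Suzuki at `v0` (bb OMEGA #20317 (C), (E))

`D_Z`, `rd` arbitrary, helper982's `HH`, `A0`, `al0`.

* **`Co.J0`** : the field `J` of `Sg.SgJ` at `l = v0`;
* **`Co.S20`** : for an S-pair `v0`, `x v0` the group `C_A(x v0)` has `F`-dimension at most 1;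
* **`Co.bs0`** : every `a ≠ 1` in `A0` inverts some `o ≠ 1` of odd order.
-/

set_option autoImplicit false
set_option linter.unusedSectionVars false

namespace Cfsg.Agent.Omega.NO3S.OneQ.Co

open Subgroup Cfsg.Agent.Omega.NO3S.PT Cfsg.Agent.Omega.NoFF.Basic
open scoped Pointwise

universe u

variable {G : Type u} [Group G] [Finite G] {F : Type*} [Field F] [CharP F 2] {S : Sylow 2 G} {B P V Z : Subgroup G}
  (h : Co F S B P V Z)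
include h

/-- `rep c v0` as a line vector -/
theorem rc_v0 {c : G} (hc : c ∈ centralizer (Z : Set G)) :
    h.rp ⟨c, h.C_le_hat hc⟩ h.v0 = h.fm ⟨c * h.e 0 1 * c⁻¹, h.W_conj (centralizer_le_normalizer _ hc) (h.W_V 0 1)⟩ :=
  h.rp_fm' (h.C_le_hat hc) (h.W_V 0 1)

theorem rc_inv_mem {c : G} (hc : c ∈ centralizer (Z : Set G)) (m : h.MF) :
    h.rp ⟨c⁻¹, h.C_le_hat (inv_mem hc)⟩ m ∈ h.Eb ↔ m ∈ (h.Eb).map (h.rp ⟨c, h.C_le_hat hc⟩) := by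
  rw [Submodule.mem_map]
  constructor
  · intro h1
    refine ⟨_, h1, ?_⟩
    exact LinearMap.congr_fun (h.hat_mul_inv (h.C_le_hat hc)) m
  · rintro ⟨n, hn, rfl⟩
    have h1 : h.rp ⟨c⁻¹, h.C_le_hat (inv_mem hc)⟩ (h.rp ⟨c, h.C_le_hat hc⟩ n) = n :=
      LinearMap.congr_fun (h.hat_inv_mul (h.C_le_hat hc)) n
    rw [h1]
    exact hn

/-- the S-pair of the lines `V` and `V^c` -/
theorem sp_of (hT : NTr V Z) {c : G} (hc : c ∈ centralizer (Z : Set G))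
    (h1 : h.rp ⟨c, h.C_le_hat hc⟩ h.v0 ∉ h.Eb) (h2 : h.rp ⟨c⁻¹, h.C_le_hat (inv_mem hc)⟩ h.v0 ∉ h.Eb) :
    SP V Z V (PT.cj c V) Z h.Yp (PT.cj c h.Yp) := by
  have hcN := centralizer_le_normalizer _ hc
  have hcZ : PT.cj c Z = Z := cj_eq_iff.2 hcN
  refine ⟨⟨1, (cj_one V).symm⟩, ⟨c, rfl⟩, h.one.pl.isCj_self, h.one.pl.ZV, ?_, h.pY.cj, h.pY.le, h.Yp_ne, h.pY.cj.cj c,
    cj_le_cj.2 h.pY.le, ?_, ?_, ?_⟩
  · have := cj_le_cj (g := c) |>.2 h.one.pl.ZV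
    rwa [hcZ] at this
  · exact fun e => h.Yp_ne (cj_inj.1 (e.trans hcZ.symm))
  · refine ⟨c * h.e 0 1 * c⁻¹, conj_mem_cj (h.e_memY 1), fun hE => h1 ?_⟩
    rw [h.rc_v0 hc]
    exact (h.fm_Eb_iff hT).2 hE
  · refine ⟨h.e 0 1, h.e_memY 1, fun hE => h2 ?_⟩
    rw [h.rc_inv_mem hc]
    exact (h.fm_Ec_iff hT hc (h.W_V 0 1)).2 hE

/-- `[w, x]` in `MF` -/
theorem rp_comm {w x : G} (hw : w ∈ ws V h.Yp) (hx : x ∈ ws V Z) :
    ∃ hwx : w * x * w⁻¹ * x⁻¹ ∈ ws V Z,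
      h.rp ⟨w, h.W_hat h.pY hw⟩ (h.fm ⟨x, hx⟩) + h.fm ⟨x, hx⟩ = h.fm ⟨w * x * w⁻¹ * x⁻¹, hwx⟩ := by
  have hwN := h.hat_norm (h.W_hat h.pY hw)
  have h1 := h.W_conj hwN hx
  refine ⟨mul_mem h1 (inv_mem hx), ?_⟩
  rw [h.rp_fm' (h.W_hat h.pY hw) hx]
  have h2 := h.fm_mul ⟨w * x * w⁻¹, h1⟩ ⟨x⁻¹, inv_mem hx⟩
  have h3 : h.fm ⟨x⁻¹, inv_mem hx⟩ = h.fm ⟨x, hx⟩ := h.fm_inv ⟨x, hx⟩
  rw [h3] at h2
  exact h2.symm

/-- **J at `v0`** -/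
theorem J0 [Finite F] (hT : NTr V Z) (hk : ∀ m : h.MF, ∃ x : h.MF, ∀ c : F, x + c • m ∉ h.Eb) {x a : h.HH}
    (h1 : h.al0 (x • h.v0) ≠ 1) (h2 : h.al0 (x⁻¹ • h.v0) ≠ 1) (ha : a ∈ h.A0)
    (h3 : h.al0 (x⁻¹ • (a • x • h.v0 + x • h.v0)) ≠ 1) :
    ∃ j : h.MF, x⁻¹ • j ∈ h.Ib ∧ h.al0 j = 1 ∧ a • j = j ∧ ∃ b ∈ h.A0, b • j ≠ j := by
  obtain ⟨c, hc, rfl⟩ := h.exists_rH x
  obtain ⟨w, hw, rfl⟩ := h.mem_A0.1 ha
  rw [← h.rH_inv hc] at h2 h3 ⊢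
  rw [Ne, h.al0_one hT] at h1 h2 h3
  have hcN := centralizer_le_normalizer _ hc
  have hcZ : PT.cj c Z = Z := cj_eq_iff.2 hcN
  have s := h.sp_of hT hc h1 h2
  obtain ⟨v, hv⟩ : ∃ v, v = c * h.e 0 1 * c⁻¹ := ⟨_, rfl⟩
  have hvW : v ∈ ws V Z := by rw [hv]; exact h.W_conj hcN (h.W_V 0 1)
  have hvQ : v ∈ PT.cj c h.Yp := by rw [hv]; exact conj_mem_cj (h.e_memY 1)
  have hfv : h.fm ⟨v, hvW⟩ = h.rp ⟨c, h.C_le_hat hc⟩ h.v0 := by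
    rw [h.rc_v0 hc]
    exact congrArg h.fm (Subtype.ext hv)
  obtain ⟨hwx, hcomm⟩ := h.rp_comm hw hvW
  have hvm : w * v * w⁻¹ * v⁻¹ ∉ ee (PT.cj c V) Z Z := by
    intro hE
    apply h3
    change h.rp ⟨c⁻¹, h.C_le_hat (inv_mem hc)⟩ (h.rp ⟨w, h.W_hat h.pY hw⟩ (h.rp ⟨c, h.C_le_hat hc⟩ h.v0) +
      h.rp ⟨c, h.C_le_hat hc⟩ h.v0) ∈ h.Eb
    rw [h.rc_inv_mem hc, ← hfv, hcomm]
    exact (h.fm_Ec_iff hT hc hwx).2 hE
  obtain ⟨j, hjM, hjE, hwj, b, hb, hbj⟩ := h.jay hT s hw hvQ hvm hk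
  have hjW : j ∈ ws V Z := hjE.1
  refine ⟨h.fm ⟨j, hjW⟩, ?_, ?_, ?_, ?_⟩
  · have hIc : IV (PT.cj c V) Z = PT.cj c (IV V Z) := by
      have h5 := PB.Geom.IV_conj h.one.pl h.one.hf c
      rwa [hcZ] at h5
    rw [hIc, mem_cj] at hjM
    refine ⟨_, hjM, ?_⟩
    have h4 := h.rp_fm' (h.C_le_hat (inv_mem hc)) hjW
    have h5 : (⟨c⁻¹ * j * c⁻¹⁻¹, h.W_conj (h.hat_norm (h.C_le_hat (inv_mem hc))) hjW⟩ : ws V Z) =
        ⟨c⁻¹ * j * c, h.one.I_le_W' hjM⟩ := Subtype.ext (by show c⁻¹ * j * c⁻¹⁻¹ = c⁻¹ * j * c; rw [inv_inv])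
    rw [h5] at h4
    exact h4.symm
  · rw [h.al0_one hT]
    exact (h.fm_Eb_iff hT).2 hjE
  · change h.rp ⟨w, h.W_hat h.pY hw⟩ (h.fm ⟨j, hjW⟩) = h.fm ⟨j, hjW⟩
    rw [h.rp_fm' (h.W_hat h.pY hw) hjW]
    congr 1
    apply Subtype.ext
    show w * j * w⁻¹ = j
    rw [hwj, mul_inv_cancel_right]
  · by_contra hcon
    push Not at hcon
    have h4 : j ∈ dd V Z Z := by
      rw [h.cent_N h.pY h.Yp_ne (hT _ h.pY h.Yp_ne) ⟨j, hjW⟩]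
      exact fun u hu => hcon _ (h.mem_A0.2 ⟨u, hu, rfl⟩)
    exact hbj (h.one.dd_comm h.pY h.Yp_ne h4 hb).symm

/-- **Baer-Suzuki in `HH`** -/
theorem bs0 {a : h.HH} (ha : a ∈ h.A0) (ha1 : a ≠ 1) : ∃ o : h.HH, o ≠ 1 ∧ Odd (orderOf o) ∧ a * o * a⁻¹ = o⁻¹ := by
  have : Finite h.HH := Set.finite_range h.ru
  obtain ⟨w, hw, rfl⟩ := h.mem_A0.1 ha
  have hwC := h.one.W_le_C h.pY hw
  have ht : h.rH w hwC * h.rH w hwC = 1 := by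
    rw [← h.rH_mul hwC hwC]
    apply h.HH_ext
    intro m
    have hww : w * w = 1 := PB.Geom.ws_sq_pt h.one.pl h.pY.cj w hw
    have e := h.rH_congr (mul_mem hwC hwC) hww
    rw [e]
    have e2 : h.rH 1 (one_mem _) = 1 := by
      apply Subtype.ext
      exact map_one h.ru
    rw [e2]
  refine Involutions.BaerSuzuki.exists_odd_inverted _ ht fun hp => ha1 ?_
  have : (normalClosure {h.rH w hwC} : Subgroup h.HH).Normal := normalClosure_normal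
  obtain ⟨T, hT⟩ : ∃ T : Subgroup h.HH, T = (B.subgroupOf (centralizer (Z : Set G))).map h.ru.rangeRestrict := ⟨_, rfl⟩
  have h1 : IsPGroup 2 T := by
    rw [hT]
    refine IsPGroup.map ?_ _
    exact h.one.isP_B.comap_of_injective (centralizer (Z : Set G)).subtype (Subgroup.subtype_injective _)
  have h2 : ¬ 2 ∣ T.index := by
    rw [hT]
    intro h3
    refine h.one.B_index (h3.trans ?_)
    exact Subgroup.index_map_dvd _ (MonoidHom.rangeRestrict_surjective h.ru)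
  have : Fact (Nat.Prime 2) := ⟨Nat.prime_two⟩
  have h3 : (normalClosure {h.rH w hwC} : Subgroup h.HH) ≤ T :=
    IsPGroup.le_sylow_of_normal hp (h1.toSylow h2)
  have h4 : ∀ x ∈ (normalClosure {h.rH w hwC} : Subgroup h.HH), x • h.v0 = h.v0 := by
    intro x hx
    have h5 := h3 hx
    rw [hT] at h5
    obtain ⟨b, hb, rfl⟩ := mem_map.1 h5
    exact h.rp_B (mem_subgroupOf.1 hb)
  -- the fixed points of `N`
  apply h.HH_ext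
  intro m
  rw [one_smul]
  have h5 : m ∈ Submodule.span F (Set.range fun x : h.HH => x • h.v0) := by
    rw [h.span_v0]; exact Submodule.mem_top
  induction h5 using Submodule.span_induction with
  | mem a ha =>
    obtain ⟨y, rfl⟩ := ha
    have h6 : y⁻¹ * h.rH w hwC * y ∈ (normalClosure {h.rH w hwC} : Subgroup h.HH) := by
      have := Subgroup.Normal.conj_mem (inferInstanceAs ((normalClosure {h.rH w hwC} : Subgroup h.HH).Normal)) _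
        (subset_normalClosure rfl : h.rH w hwC ∈ (normalClosure {h.rH w hwC} : Subgroup h.HH)) y⁻¹
      rwa [inv_inv] at this
    have h7 := h4 _ h6
    show h.rH w hwC • y • h.v0 = y • h.v0
    rw [mul_smul, mul_smul, inv_smul_eq_iff] at h7
    exact h7
  | zero => rw [smul_zero]
  | add a b _ _ ha hb => rw [smul_add, ha, hb]
  | smul c a _ ha => rw [smul_comm, ha]

theorem e_mem_Z {x y : F} (hx : h.e x y ∈ Z) : y = 0 := by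
  obtain ⟨a, ha⟩ := (h.mem_Z _).1 hx
  exact (h.e_inj ha).2.symm

/-- elements of `X_l ∩ N(Z)` act `F`-linearly -/
theorem XV_hat {n : G} (hn : n ∈ XV V Z) (hnZ : PT.cj n Z = Z) : n ∈ h.hat := by
  obtain ⟨a, b, c, d, hdet, hact⟩ := h.XV_mat hn
  have h1 : h.e (a * 1 + b * 0) (c * 1 + d * 0) ∈ Z := by
    rw [← hact 1 0]
    have := conj_mem_cj (g := n) (h.e_memZ 1)
    rwa [hnZ] at this
  rw [mul_one, mul_one, mul_zero, mul_zero, add_zero, add_zero] at h1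
  have hc0 : c = 0 := h.e_mem_Z h1
  subst hc0
  have ha : a ≠ 0 := by
    rintro rfl
    rw [zero_mul, mul_zero, add_zero] at hdet
    exact zero_ne_one hdet
  refine ⟨cj_eq_iff.1 hnZ, Units.mk0 a ha, fun x => ?_⟩
  rw [hact x 0]
  congr 1 <;> simp

/-- **(S2)**, group level -/
theorem s2_core [Finite F] (hT : NTr V Z) {c : G} (hc : c ∈ centralizer (Z : Set G))
    (s : SP V Z V (PT.cj c V) Z h.Yp (PT.cj c h.Yp)) :
    ∃ n ∈ XV V Z, PT.cj n h.Yp = Z ∧ ∀ w (hw : w ∈ ws V h.Yp),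
      h.rp ⟨w, h.W_hat h.pY hw⟩ (h.rp ⟨c, h.C_le_hat hc⟩ h.v0) = h.rp ⟨c, h.C_le_hat hc⟩ h.v0 →
        ∀ hnw : n * w * n⁻¹ ∈ ws V Z,
          h.fm ⟨n * w * n⁻¹, hnw⟩ ∈ h.Eb ⊔ Submodule.span F {h.rp ⟨c, h.C_le_hat hc⟩ h.v0} := by
  have hN := h.w1_le_ee_ntr hT
  have hZ := h.one.self
  have hcN := centralizer_le_normalizer _ hc
  obtain ⟨Y, hYeq⟩ : ∃ Y, Y = h.Yp := ⟨_, rfl⟩
  have hY : Pnt V Z Y := hYeq ▸ h.pY
  have hYZ : Y ≠ Z := hYeq ▸ h.Yp_ne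
  obtain ⟨M, hMeq⟩ : ∃ M, M = PT.cj c V := ⟨_, rfl⟩
  obtain ⟨Q, hQeq⟩ : ∃ Q, Q = PT.cj c h.Yp := ⟨_, rfl⟩
  rw [← hMeq, ← hQeq, ← hYeq] at s
  obtain ⟨v, hv⟩ : ∃ v, v = c * h.e 0 1 * c⁻¹ := ⟨_, rfl⟩
  have hvW : v ∈ ws V Z := by rw [hv]; exact h.W_conj hcN (h.W_V 0 1)
  have hvQ : v ∈ Q := by rw [hv, hQeq]; exact conj_mem_cj (h.e_memY 1)
  have hfv : h.fm ⟨v, hvW⟩ = h.rp ⟨c, h.C_le_hat hc⟩ h.v0 := by
    rw [h.rc_v0 hc]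
    exact congrArg h.fm (Subtype.ext hv)
  have hv1 : v ≠ 1 := by
    rintro hv1
    have h1 : h.e 0 1 = 1 := by
      rw [hv1] at hv
      have : h.e 0 1 = c⁻¹ * (c * h.e 0 1 * c⁻¹) * c := by group
      rw [this, ← hv]; group
    have h2 : h.e 0 1 ∈ Z := by rw [h1]; exact one_mem _
    exact one_ne_zero (h.e_mem_Z h2)
  obtain ⟨y, hy, hyE⟩ := s.s2
  have hyW : y ∈ ws V Z := h.one.line_le_ws s.hL s.hXL (s.hYL hy)
  obtain ⟨e, heE, heW, heZ, hey⟩ := h.one.exists_mov hN s.hM s.hX s.hXM s.hQ s.hQM s.hQX hyW hyE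
  have heY : PT.cj e Y ≠ Y := h.one.cj_ne s.hL s.hX s.hXL s.hY s.hYL s.hYX heZ hy hey
  have hei : e⁻¹ = e := h.one.W_inv s.hQ heW
  have heN : e ∈ normalizer (V : Set G) := h.one.K_norm hZ heZ
  obtain ⟨q, hq, hqE⟩ := s.s1
  obtain ⟨g, hg, -, hgZ, hgq⟩ := h.one.exists_mov hN s.hL s.hX s.hXL s.hY s.hYL s.hYX
    (h.one.line_le_ws s.hM s.hXM (s.hQM hq)) hqE
  have hgQ : PT.cj g Q ≠ Q := h.one.cj_ne s.hM s.hX s.hXM s.hQ s.hQM s.hQX hgZ hq hgq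
  have hYe : PT.cj e⁻¹ Y ≤ V := by
    have := cj_le_cj (g := e⁻¹) |>.2 hY.le
    rwa [cj_eq_iff.2 (inv_mem heN)] at this
  have hYe' : PT.cj e⁻¹ Y ≠ Y := by rw [hei]; exact heY
  obtain ⟨k, hk1, hk2⟩ := h.one.move hY (⟨hY.cj.cj e⁻¹, hYe⟩ : Pnt V Z (PT.cj e⁻¹ Y)) hZ hYe' (Ne.symm hYZ)
  have hn1 : k * e⁻¹ ∈ XV V Z := mul_mem (le_XV hY.cj hY.le hk1) (inv_mem (le_XV hZ.cj hZ.le heZ))
  refine ⟨k * e⁻¹, hn1, by rw [← cj_cj, ← hYeq, hk2], ?_⟩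
  intro w hw hfix hnw
  rw [← hYeq] at hw
  -- `w` centralises `M / Z`
  have hwC : w ∈ centralizer (Z : Set G) := h.one.W_le_C hY hw
  have hwM : w ∈ normalizer (M : Set G) := by
    have key : ∀ u ∈ M, w * u * w⁻¹ * u⁻¹ ∈ Z := by
      intro u hu
      rw [hMeq, mem_cj] at hu
      obtain ⟨x, t, hxt⟩ := (h.mem_V _).1 hu
      have hu' : u = c * h.e x t * c⁻¹ := by rw [hxt]; group
      have huW : u ∈ ws V Z := by rw [hu']; exact h.W_conj hcN (h.W_V x t)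
      have huf : h.fm ⟨u, huW⟩ = t • h.rp ⟨c, h.C_le_hat hc⟩ h.v0 := by
        have e1 : h.rp ⟨c, h.C_le_hat hc⟩ (h.fm ⟨h.e x t, h.W_V x t⟩) = _ := h.rp_fm' (h.C_le_hat hc) (h.W_V x t)
        rw [h.fm_e, map_smul] at e1
        rw [e1]
        exact congrArg h.fm (Subtype.ext hu')
      obtain ⟨hwx, hcomm⟩ := h.rp_comm (hYeq ▸ hw) huW
      have h1 : h.fm ⟨w * u * w⁻¹ * u⁻¹, hwx⟩ = 0 := by
        rw [← hcomm, huf, map_smul, hfix]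
        exact h.add_self _
      have h2 : w * u * w⁻¹ * u⁻¹ ∈ rd V Z := (h.fm_eq_zero _).1 h1
      exact h.rd_inf_I ⟨h2, h.one.comm_mem hY hZ hYZ hw huW⟩
    rw [← cj_eq_iff]
    refine eq_of_le_of_card_ge (fun u hu => ?_) (by rw [card_cj])
    rw [mem_cj] at hu
    have h1 := s.hXM (key _ hu)
    have h2 : u = w * (w⁻¹ * u * w) * w⁻¹ * (w⁻¹ * u * w)⁻¹ * (w⁻¹ * u * w) := by group
    rw [h2]
    exact mul_mem h1 hu
  have hwIM : w ∈ normalizer ((IV M Z : Subgroup G) : Set G) := by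
    have h1 := PB.Geom.IV_conj h.one.pl h.one.hf (w * c)
    have h2 := PB.Geom.IV_conj h.one.pl h.one.hf c
    have hcZ : PT.cj c Z = Z := cj_eq_iff.2 hcN
    have hwZ : PT.cj w Z = Z := cj_eq_iff.2 (centralizer_le_normalizer _ hwC)
    rw [← cj_cj, ← cj_cj, ← cj_cj, hcZ, hwZ, ← hMeq, cj_eq_iff.2 hwM] at h1
    rw [hcZ, ← hMeq] at h2
    rw [← cj_eq_iff]
    nth_rw 1 [h2]
    exact h1.symm
  -- all functionals which kill `E` and `v`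
  by_contra hcon
  obtain ⟨f, hf, hf'⟩ := Submodule.exists_le_ker_of_notMem hcon
  have hfE : ∀ x ∈ h.Eb, f x = 0 := fun x hx => LinearMap.mem_ker.1 (hf' (Submodule.mem_sup_left hx))
  have hfv0 : f (h.fm ⟨v, hvW⟩) = 0 := by
    rw [hfv]
    exact LinearMap.mem_ker.1 (hf' (Submodule.mem_sup_right (Submodule.mem_span_singleton_self _)))
  obtain ⟨ey, hey, hfe⟩ := h.dual_N hY hYZ (hT Y hY hYZ) f fun x hx => hfE _ (h.fm_Eb (w := ⟨x, ee_le hx⟩) hx)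
  have heyZ : ey ∈ kx V Z := h.ee_le_kx hYZ hey
  have hfv1 : h.fn v ey = 0 := by rw [← hfe ⟨v, hvW⟩, hfv0]
  have hg1v : ey * v = v * ey := (h.fn_eq_zero hvW heyZ).1 hfv1
  have hg1M := h.one.lin_fix s.hM s.hX s.hXM s.hQ s.hQM (Ne.symm s.hQX) (kx_le_cent heyZ) hvQ hv1 hg1v
  obtain ⟨j, hjI, hjZ, hj⟩ := h.one.jay_core s.hM s.hXM hY hYZ s.hQ s.hQM s.hQX (one_mem _) heW heZ heY hey hg hgQ hgZ
    fun q hq => by
      have h1 := (mem_centralizer_iff.1 hg1M q (s.hQM hq)).symm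
      have h2 : (1 : G) * e * (1 : G)⁻¹ * e⁻¹ * ey = ey := by group
      rw [h2]; exact h1
  have heYP : Pnt V Z (PT.cj e Y) := ⟨hY.cj.cj e, by
    have := cj_le_cj (g := e) |>.2 hY.le
    rwa [cj_eq_iff.2 heN] at this⟩
  have hEE : e * ey * e⁻¹ ∈ ee V Z (PT.cj e Y) := by
    rw [← cj_ee heN]
    exact conj_mem_cj hey
  -- `[j, w] = 1`
  have hjw : j * w * j⁻¹ * w⁻¹ = 1 := by
    have h1 : j * w * j⁻¹ * w⁻¹ ∈ Y := by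
      rw [hj w hw]
      exact h.one.ee_act hY (Ne.symm heY) hEE hw
    have h2 : j * w * j⁻¹ * w⁻¹ ∈ IV M Z := by
      have h3 := (mem_normalizer_iff.1 hwIM _).1 (inv_mem hjI)
      have h4 : j * w * j⁻¹ * w⁻¹ = j * (w * j⁻¹ * w⁻¹) := by group
      rw [h4]
      exact mul_mem hjI h3
    by_contra h3
    have h4 : j * w * j⁻¹ * w⁻¹ ∈ ee M Z Z :=
      h.one.dd_le_ee_line s.hM s.hX s.hXM (h.one.I_le_dd_line s.hM s.hX s.hXM h2)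
    exact hyE (h.one.le_ee_of hN s.hM s.hL s.hX s.hXM s.hXL s.hQ s.hQM s.hQX s.hY s.hYL s.hYX h1 h3 h4 (s.hYL hy))
  -- hence `f` kills `w`
  apply hf
  have hy0 : k * ey * k⁻¹ * ey⁻¹ ∈ Y := (mem_kx.1 hk1).2 ey hey.1
  have h1 := hj w hw
  rw [hjw] at h1
  have h2 : (e * ey * e⁻¹) * w = w * (e * ey * e⁻¹) := by
    have h3 := h1.symm
    rwa [mul_inv_eq_one, mul_inv_eq_iff_eq_mul] at h3
  have h3 : (k * ey * k⁻¹) * (k * e⁻¹ * w * (k * e⁻¹)⁻¹) = (k * e⁻¹ * w * (k * e⁻¹)⁻¹) * (k * ey * k⁻¹) := by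
    calc (k * ey * k⁻¹) * (k * e⁻¹ * w * (k * e⁻¹)⁻¹) = k * e⁻¹ * ((e * ey * e⁻¹) * w) * e * k⁻¹ := by group
      _ = k * e⁻¹ * (w * (e * ey * e⁻¹)) * e * k⁻¹ := by rw [h2]
      _ = _ := by group
  have h4 : (k * ey * k⁻¹ * ey⁻¹) * (k * e⁻¹ * w * (k * e⁻¹)⁻¹) = (k * e⁻¹ * w * (k * e⁻¹)⁻¹) * (k * ey * k⁻¹ * ey⁻¹) :=
    (h.one.cent_V (h.one.W_le_cent hZ hnw) (hY.le hy0)).symm
  have h5 : ey * (k * e⁻¹ * w * (k * e⁻¹)⁻¹) = (k * e⁻¹ * w * (k * e⁻¹)⁻¹) * ey := by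
    have h6 : ey = (k * ey * k⁻¹ * ey⁻¹)⁻¹ * (k * ey * k⁻¹) := by group
    have h7 : (k * ey * k⁻¹ * ey⁻¹)⁻¹ * (k * e⁻¹ * w * (k * e⁻¹)⁻¹) =
        (k * e⁻¹ * w * (k * e⁻¹)⁻¹) * (k * ey * k⁻¹ * ey⁻¹)⁻¹ := by
      rw [inv_mul_eq_iff_eq_mul, ← mul_assoc, h4, mul_inv_cancel_right]
    rw [h6, mul_assoc, h3, ← mul_assoc, h7, mul_assoc]
  rw [hfe ⟨_, hnw⟩, h.fn_eq_zero hnw heyZ]
  exact h5

/-- **(S2)**: `C_A(x v0)` has `F`-dimension at most 1 -/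
theorem S20 [Finite F] (hT : NTr V Z) {x : h.HH} (h1 : h.al0 (x • h.v0) ≠ 1) (h2 : h.al0 (x⁻¹ • h.v0) ≠ 1)
    {y y' : h.MF} (hy : h.al0 y • x • h.v0 = x • h.v0) (hy' : h.al0 y' • x • h.v0 = x • h.v0) :
    ∃ f g : F, ¬ (f = 0 ∧ g = 0) ∧ h.al0 (f • y + g • y') = 1 := by
  obtain ⟨c, hc, rfl⟩ := h.exists_rH x
  rw [← h.rH_inv hc] at h2
  rw [Ne, h.al0_one hT] at h1 h2
  have s := h.sp_of hT hc h1 h2
  obtain ⟨n, hn, hnY, hfix⟩ := h.s2_core hT hc s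
  have hm : n * h.sw ∈ XV V Z := mul_mem hn h.sw_XV
  have hmZ : PT.cj (n * h.sw) Z = Z := by rw [← cj_cj, h.cj_sw, hnY]
  have hhat : n * h.sw ∈ h.hat := h.XV_hat hm hmZ
  have hmN : n * h.sw ∈ normalizer (V : Set G) := h.one.pl.XV_le_N hm
  have key : ∀ y : h.MF, h.al0 y • h.rH c hc • h.v0 = h.rH c hc • h.v0 →
      ∃ t : F, h.rp ⟨n * h.sw, hhat⟩ y + t • h.rp ⟨c, h.C_le_hat hc⟩ h.v0 ∈ h.Eb := by
    intro y hy
    obtain ⟨w, rfl⟩ := h.fm_surj y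
    rw [h.al0_smul, h.al_fm hT] at hy
    have hw := h.sw_W w.2
    have hnw : n * (h.sw * w * h.sw⁻¹) * n⁻¹ ∈ ws V Z := by
      have h8 : n * (h.sw * w * h.sw⁻¹) * n⁻¹ ∈ ws V (PT.cj n h.Yp) := by
        rw [ws_cj]
        exact conj_mem_cj hw
      exact (congrArg (ws V) hnY).le h8
    have h3 := hfix _ hw hy hnw
    obtain ⟨E, hE, b, hb, heb⟩ := Submodule.mem_sup.1 h3
    obtain ⟨t, rfl⟩ := Submodule.mem_span_singleton.1 hb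
    refine ⟨t, ?_⟩
    have h4 : h.rp ⟨n * h.sw, hhat⟩ (h.fm w) = h.fm ⟨n * (h.sw * w * h.sw⁻¹) * n⁻¹, hnw⟩ := by
      have h5 : h.rp ⟨n * h.sw, hhat⟩ (h.fm w) = _ := h.rp_fm' hhat w.2
      rw [h5]
      exact congrArg h.fm (Subtype.ext (by
        show n * h.sw * w * (n * h.sw)⁻¹ = n * (h.sw * w * h.sw⁻¹) * n⁻¹
        group))
    rw [h4, ← heb, add_assoc, h.add_self, add_zero]
    exact hE
  -- `rp` preserves `E`
  have hEb : ∀ m : h.MF, h.rp ⟨n * h.sw, hhat⟩ m ∈ h.Eb → m ∈ h.Eb := by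
    intro m hm1
    obtain ⟨w, rfl⟩ := h.fm_surj m
    have h5 : h.rp ⟨n * h.sw, hhat⟩ (h.fm w) = _ := h.rp_fm' hhat w.2
    rw [h5, h.fm_Eb_iff hT] at hm1
    rw [h.fm_Eb_iff hT]
    have h6 := cj_ee (X := Z) (Z := Z) hmN
    rw [hmZ] at h6
    rw [← h6, mem_cj] at hm1
    have h7 : (n * h.sw)⁻¹ * (n * h.sw * w * (n * h.sw)⁻¹) * (n * h.sw) = w := by group
    rwa [h7] at hm1
  obtain ⟨t, ht⟩ := key y hy
  obtain ⟨t', ht'⟩ := key y' hy'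
  obtain ⟨f, g, hfg, hft⟩ : ∃ f g : F, ¬ (f = 0 ∧ g = 0) ∧ f * t + g * t' = 0 := by
    by_cases h0 : t = 0
    · exact ⟨1, 0, fun e => one_ne_zero e.1, by rw [h0]; ring⟩
    · exact ⟨t', t, fun e => h0 e.2, by rw [mul_comm t t']; exact CharTwo.add_self_eq_zero _⟩
  refine ⟨f, g, hfg, ?_⟩
  rw [h.al0_one hT]
  apply hEb
  have h3 := h.Eb.add_mem (h.Eb.smul_mem f ht) (h.Eb.smul_mem g ht')
  rw [smul_add, smul_add, smul_smul, smul_smul, add_add_add_comm, ← add_smul, hft, zero_smul, add_zero, ← map_smul,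
    ← map_smul, ← map_add] at h3
  exact h3

end Cfsg.Agent.Omega.NO3S.OneQ.Co
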