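import Cfsg.Agent.Omega.NO3S.OneQ.KOneDx
import Cfsg.Agent.Omega.NO3S.OneQ.AlphaDual

/-!
# NO-3S, `OneSz` (`q ≥ 4`, `n = 1`), case (N): KAPPA in the module `MF` (bb OMEGA #20317 (F))

`m = c v₀`, `c ∈ C_G(Z)`, a line vector; `dual` : exact duality.

* `Co.K_one_act` : the action of `k ∈ K_Z` with `fn (e 0 1) k = 1`;
* **`Co.kapM`** : `f` kills `Ē_m`, `f v₀ = 1`, `f (α(y) m) = 0` ==> some `u ∈ I ∩ I_m` is `α(y) y - y` modulo `λ`;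
* `Co.kap_alpha` : if moreover `D_Z ≤ I` and `α(y) y - y ∉ λ`, then `α(a m) m = m` (ALPHA);
* **`Co.kap`** : the same for every `D_Z` (LEMMA K if `D_Z ≰ I`);
* **`Co.exists_SPM`** : S-pairs exist: `v₀ ∉ c Ē`, `c v₀ ∉ Ē` for some `c ∈ C_G(Z)`.
-/

set_option autoImplicit false
set_option linter.unusedSectionVars false

namespace Cfsg.Agent.Omega.NO3S.OneQ.Co

open Subgroup Cfsg Cfsg.Agent.Omega.NO3S.PT Cfsg.Agent.Omega.NoFF.Basic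
open scoped Pointwise

universe u

variable {G : Type u} [Group G] [Finite G] {F : Type*} [Field F] [CharP F 2] {S : Sylow 2 G} {B P V Z : Subgroup G}
  (h : Co F S B P V Z)

/-- the action of `k ∈ K_Z` with `fn (e 0 1) k = 1` -/
theorem K_one_act {k : G} (hk : k ∈ kx V Z) (h1 : h.fn (h.e 0 1) k = 1) (x y : F) :
    k * h.e x y * k⁻¹ = h.e (x + y) y := by
  obtain ⟨t, ht⟩ := h.K_tv hk
  have h2 := h.e_fn (h.W_V 0 1) hk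
  rw [h1, ht, h.e_inv, ← h.e_add] at h2
  have h3 := (h.e_inj h2).1
  rw [zero_add, mul_one, add_zero] at h3
  rw [ht, ← h3, one_mul]

/-- **KAPPA** -/
theorem kapM (hN : NTr V Z) (dual : h.Dual) {c : G} (hc : c ∈ centralizer (Z : Set G)) (f : h.MF →ₗ[F] F)
    (hf : ∀ m ∈ h.Eb, f (h.rp ⟨c, h.C_le_hat hc⟩ m) = 0) (hf1 : f h.v0 = 1) (y : h.MF)
    (hy : f (h.al y (h.rp ⟨c, h.C_le_hat hc⟩ h.v0)) = 0) :
    ∃ u, ∃ hu : u ∈ IV V Z, u ∈ IV (PT.cj c V) Z ∧ h.fm ⟨u, h.one.I_le_W' hu⟩ + (h.al y y - y) ∈ h.lam := by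
  have hVV : IsCj V V := ⟨1, (cj_one V).symm⟩
  have hZ := h.one.pl.isCj_self
  have hcN := centralizer_le_normalizer _ hc
  have hcZ : PT.cj c Z = Z := cj_eq_iff.2 hcN
  have hZM : Z ≤ PT.cj c V := by
    nth_rewrite 1 [← hcZ]
    exact cj_le_cj.2 h.one.pl.ZV
  obtain ⟨e, -, he, heK, hee⟩ := dual_line dual hc f hf
  obtain ⟨w₀, rfl⟩ := h.fm_surj y
  obtain ⟨w, hwd⟩ : ∃ w, w = h.sw * w₀ * h.sw⁻¹ := ⟨_, rfl⟩
  have hwY : w ∈ ws V h.Yp := by rw [hwd]; exact h.sw_W w₀.2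
  have hwh : w ∈ h.hat := h.W_hat h.pY hwY
  have hal : h.al (h.fm w₀) = h.rp ⟨w, hwh⟩ := by
    rw [h.al_fm hN, ag]
    congr 1
    exact Subtype.ext hwd.symm
  have hact := h.K_one_act heK (by rw [hee ⟨_, h.W_V 0 1⟩]; exact hf1)
  have heY : PT.cj e h.Yp ≠ h.Yp := by
    intro hcon
    have h1 : e * h.e 0 1 * e⁻¹ ∈ PT.cj e h.Yp := conj_mem_cj (h.e_memY 1)
    rw [hcon, hact] at h1
    obtain ⟨b, hb⟩ := h1
    have h2 := (h.e_inj hb).1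
    rw [zero_add] at h2
    exact zero_ne_one h2
  have hge : ∀ z ∈ Z, e * (h.sw * z * h.sw⁻¹) * e⁻¹ = z * (h.sw * z * h.sw⁻¹) := by
    intro z hz
    obtain ⟨x, rfl⟩ := (h.mem_Z z).1 hz
    rw [h.sw_act, hact, ← h.e_add, add_zero]
    congr 1 <;> rw [zero_add]
  have hQZ : PT.cj c h.Yp ≠ Z := fun e1 => h.Yp_ne (cj_inj.1 (e1.trans hcZ.symm))
  have hkap := h.one.kappa hVV ⟨c, rfl⟩ hZ h.one.pl.ZV hZM h.pY.cj h.pY.le h.Yp_ne (h.pY.cj.cj c)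
    (cj_le_cj.2 h.pY.le) hQZ hwY he heK heY (fun q hq => by
      rw [mem_cj] at hq
      obtain ⟨b, hb⟩ := hq
      have hqe : q = c * h.e 0 b * c⁻¹ := by rw [hb]; group
      have hqW : q ∈ ws V Z := by rw [hqe]; exact h.W_conj hcN (h.W_V 0 b)
      have hwq : w * q * w⁻¹ ∈ ws V Z := h.W_conj (h.hat_norm hwh) hqW
      rw [← h.fn_eq_zero hwq heK, hee ⟨_, hwq⟩, ← h.rp_fm' hwh hqW]
      have h2 : h.fm ⟨q, hqW⟩ = b • h.rp ⟨c, h.C_le_hat hc⟩ h.v0 := by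
        rw [← map_smul, ← h.fm_e 0 b, h.rp_fm' (h.C_le_hat hc) (h.W_V 0 b)]
        exact congrArg h.fm (Subtype.ext hqe)
      rw [h2, map_smul, map_smul, ← hal, hy, smul_zero])
  obtain ⟨huV, huM, -⟩ := hkap
  have hmod := h.kap_mod h.sw_XV (by rw [h.cj_sw]; exact h.Yp_ne) heK hge (by rw [h.cj_sw]; exact heY) w₀.2
  rw [← hwd] at hmod
  refine ⟨_, huV, huM, ?_⟩
  obtain ⟨u', hu', hu'e, e'⟩ := h.rp_W h.pY h.Yp_ne hwY w₀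
  rw [hal, e', ← h.fm_mul]
  have hI := mul_mem huV hu'
  refine (h.fm_mem_lam_I hI).2 ?_
  have e2 : (w₀ * w * (w₀ : G)⁻¹ * w⁻¹)⁻¹ = u' := by rw [hu'e]; group
  rwa [e2] at hmod

/-- KAPPA and ALPHA, `D_Z ≤ I` -/
theorem kap_alpha (hG : IsCharacteristicTwoType G) (hN : NTr V Z) (hD : dd V Z Z ≤ IV V Z) (dual : h.Dual) {c : G}
    (hc : c ∈ centralizer (Z : Set G)) (f : h.MF →ₗ[F] F)
    (hf : ∀ m ∈ h.Eb, f (h.rp ⟨c, h.C_le_hat hc⟩ m) = 0) (hf1 : f h.v0 = 1) (y : h.MF)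
    (hy : f (h.al y (h.rp ⟨c, h.C_le_hat hc⟩ h.v0)) = 0) (hq : h.al y y - y ∉ h.lam) (a : F) :
    h.al (a • h.rp ⟨c, h.C_le_hat hc⟩ h.v0) (h.rp ⟨c, h.C_le_hat hc⟩ h.v0) = h.rp ⟨c, h.C_le_hat hc⟩ h.v0 := by
  obtain ⟨u, hu, huM, hul⟩ := h.kapM hN dual hc f hf hf1 y hy
  have hcN := centralizer_le_normalizer _ hc
  have hcZ : PT.cj c Z = Z := cj_eq_iff.2 hcN
  have hcI : IV (PT.cj c V) Z = PT.cj c (IV V Z) := by
    have h1 := PB.Geom.IV_conj h.one.pl h.one.hf c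
    rwa [hcZ] at h1
  rw [hcI, mem_cj] at huM
  have huW := h.one.I_le_W' hu
  refine h.alphaM hG hN (h.ha_of_dual hN hD dual) hc (u := h.fm ⟨u, huW⟩) (u' := h.fm ⟨c⁻¹ * u * c, h.one.I_le_W' huM⟩)
    (fun e => hq ?_) ⟨u, hu, rfl⟩ ⟨_, huM, rfl⟩ ?_ a
  · rw [e, zero_add] at hul
    exact hul
  · rw [h.rp_fm' (h.C_le_hat hc) (h.one.I_le_W' huM)]
    congr 1
    exact Subtype.ext (by show c * (c⁻¹ * u * c) * c⁻¹ = u; group)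

include h in
theorem not_V_le {c : G} (hN : NTr V Z) (hc : c ∈ centralizer (Z : Set G))
    (hv : h.v0 ∉ (h.Eb).map (h.rp ⟨c, h.C_le_hat hc⟩)) : ¬ V ≤ ee (PT.cj c V) Z Z := fun e =>
  hv ((h.fm_Ec_iff hN hc (h.W_V 0 1)).2 (e (h.e_memV 0 1)))

/-- **(F), the group part** -/
theorem kap [Finite F] (hG : IsCharacteristicTwoType G) (hN : NTr V Z) {c : G} (hc : c ∈ centralizer (Z : Set G))
    (f : h.MF →ₗ[F] F) (hf : ∀ m ∈ h.Eb, f (h.rp ⟨c, h.C_le_hat hc⟩ m) = 0) (hf0 : f h.v0 ≠ 0) (y : h.MF)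
    (hy : f (h.al y (h.rp ⟨c, h.C_le_hat hc⟩ h.v0)) = 0) (hq : h.al y y - y ∉ h.lam) (a : F) :
    h.al (a • h.rp ⟨c, h.C_le_hat hc⟩ h.v0) (h.rp ⟨c, h.C_le_hat hc⟩ h.v0) = h.rp ⟨c, h.C_le_hat hc⟩ h.v0 := by
  by_cases hD : dd V Z Z ≤ IV V Z
  · refine h.kap_alpha hG hN hD (h.dualN hN) hc ((f h.v0)⁻¹ • f) (fun m hm => ?_) ?_ y ?_ hq a
    · rw [LinearMap.smul_apply, hf m hm, smul_zero]
    · rw [LinearMap.smul_apply, smul_eq_mul, inv_mul_cancel₀ hf0]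
    · rw [LinearMap.smul_apply, hy, smul_zero]
  · refine h.lemKM_of hN hD hc (h.not_V_le hN hc ?_) a
    rintro ⟨m, hm, hmv⟩
    exact hf0 (by rw [← hmv]; exact hf m hm)

/-- **S-pairs exist** -/
theorem exists_SPM [Finite F] (hN : NTr V Z) : ∃ c, ∃ hc : c ∈ centralizer (Z : Set G),
    h.v0 ∉ (h.Eb).map (h.rp ⟨c, h.C_le_hat hc⟩) ∧ h.rp ⟨c, h.C_le_hat hc⟩ h.v0 ∉ h.Eb := by
  have hVV : IsCj V V := ⟨1, (cj_one V).symm⟩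
  obtain ⟨M, Q, s⟩ := h.one.exists_SP (h.w1_le_ee hN) hVV h.one.pl.isCj_self h.one.pl.ZV h.pY.cj h.pY.le h.Yp_ne
  have hM := s.hM
  have hZM := s.hXM
  obtain ⟨c, hc, rfl⟩ := h.line_eq hM hZM
  have hcN := centralizer_le_normalizer _ hc
  refine ⟨c, hc, fun hv => ?_, fun hmE => ?_⟩
  · obtain ⟨y, hy, hyE⟩ := s.s2
    obtain ⟨b, rfl⟩ := hy
    apply hyE
    rw [← h.fm_Ec_iff hN hc (h.W_V 0 b), h.fm_e]
    exact Submodule.smul_mem _ _ hv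
  · obtain ⟨q, hq, hqE⟩ := s.s1
    apply hqE
    have hqM := s.hQM hq
    rw [mem_cj] at hqM
    obtain ⟨x, y, hxy⟩ := (h.mem_V _).1 hqM
    obtain rfl : q = c * h.e x y * c⁻¹ := by rw [hxy]; group
    rw [← h.fm_Eb_iff hN (w := ⟨c * h.e x y * c⁻¹, h.W_conj hcN (h.W_V x y)⟩)]
    have hcv : h.fm ⟨c * h.e x y * c⁻¹, h.W_conj hcN (h.W_V x y)⟩ = y • h.rp ⟨c, h.C_le_hat hc⟩ h.v0 := by
      rw [← map_smul, ← h.fm_e x y, h.rp_fm' (h.C_le_hat hc) (h.W_V x y)]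
    rw [hcv]
    exact Submodule.smul_mem _ _ hmE

end Cfsg.Agent.Omega.NO3S.OneQ.Co
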