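import Cfsg.Agent.Omega.NO3S.OneQ.InstLoc
import Cfsg.Agent.Omega.NO3S.OneQ.Sg.Kap
import Cfsg.Agent.Omega.NO3S.OneQ.Sg.TI

/-!
# NO-3S, `OneSz` (`q ≥ 4`, `n = 1`), case (N), `k ≥ 2`: K, S-pairs and `big` at every line vector (bb OMEGA #20317)

The literals of `Sg.SgB.ti_main`; arbitrary `D_x` (`I0` arbitrary).

* `Loc.al0_stab`, `Loc.at_al_one'` : `AL l m = 1` by any representative of `l`;
* `Loc.at_K`, `Loc.at_sp`, `Loc.at_big` : transport from `v0`;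
* `Co.K_v0`, `Co.sp_v0`, `Co.big_v0` : the facts at `v0`.
-/

set_option autoImplicit false
set_option linter.unusedSectionVars false

namespace Cfsg.Agent.Omega.NO3S.OneQ.TIq.Loc

variable {F M H : Type*} [Field F] [AddCommGroup M] [Module F M] [Group H] [DistribMulAction H M]
  [SMulCommClass H F M] {v0 : M} {A0 : Subgroup H} {I0 : Submodule F M} {al0 : M → H}
  (D : Loc F v0 A0 I0 al0)
include D

/-- `Ē` is invariant under the stabiliser of the point -/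
theorem al0_stab {z : H} {c : F} (hz : z • v0 = c • v0) {e : M} (he : al0 e = 1) : al0 (z • e) = 1 := by
  have hc : c ≠ 0 := by
    rintro rfl
    rw [zero_smul] at hz
    exact D.ne0 ((smul_eq_zero_iff_eq z).1 hz)
  rw [D.al_ker] at he ⊢
  intro a ha
  have h1 : z⁻¹ • v0 = c⁻¹ • v0 := by
    have h2 : v0 = c • z⁻¹ • v0 := by
      calc v0 = z⁻¹ • z • v0 := (inv_smul_smul _ _).symm
        _ = c • z⁻¹ • v0 := by rw [hz, lin]
    calc z⁻¹ • v0 = c⁻¹ • c • z⁻¹ • v0 := by rw [smul_smul, inv_mul_cancel₀ hc, one_smul]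
      _ = c⁻¹ • v0 := by rw [← h2]
  have h2 := D.sA h1 ha
  rw [inv_inv] at h2
  obtain ⟨d, hd⟩ := he _ h2
  refine ⟨d * c, ?_⟩
  have h3 : a • z • e = z • ((z⁻¹ * a * z) • e) := by
    rw [smul_smul, smul_smul]
    congr 1
    group
  rw [h3, hd, smul_add, lin, hz, smul_smul]

theorem al0_sm {c : F} {e : M} (he : al0 e = 1) : al0 (c • e) = 1 := by
  rw [D.al_ker] at he ⊢
  intro a ha
  obtain ⟨d, hd⟩ := he a ha
  exact ⟨c * d, by rw [lin, hd, smul_add, smul_smul]⟩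

theorem al0_sm_iff {c : F} (hc : c ≠ 0) {e : M} : al0 (c • e) = 1 ↔ al0 e = 1 := by
  refine ⟨fun h1 => ?_, D.al0_sm⟩
  have h2 := D.al0_sm (c := c⁻¹) h1
  rwa [smul_smul, inv_mul_cancel₀ hc, one_smul] at h2

/-- `AL l m = 1` by any representative of `l` -/
theorem at_al_one' {l m : M} {x : H} {c : F} (hc : c ≠ 0) (hx : l = c • x • v0) :
    AL F v0 al0 l m = 1 ↔ al0 (x⁻¹ • m) = 1 := by
  rw [D.at_al_one]
  obtain ⟨d, hd, hg⟩ := rr_spec F H (⟨x, c, hc, hx⟩ : l ∈ LL F H v0)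
  obtain ⟨g, hgd⟩ : ∃ g, g = rr F H v0 l := ⟨_, rfl⟩
  rw [← hgd] at hg ⊢
  have e1 := hx.symm.trans hg
  constructor
  · intro h1
    have h2 := D.al0_stab (D.stab' hd hc e1.symm) h1
    rwa [smul_smul, mul_inv_cancel_right] at h2
  · intro h1
    have h2 := D.al0_stab (D.stab' hc hd e1) h1
    rwa [smul_smul, mul_inv_cancel_right] at h2

/-- **K** at every line vector -/
theorem at_K (hK : ∀ {x : H} {y : M} (f : M →ₗ[F] F), (∀ e, al0 e = 1 → f (x • e) = 0) → f v0 ≠ 0 →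
      f (al0 y • x • v0) = 0 → (∀ c : F, al0 y • y + y ≠ c • v0) → ∀ a : F, al0 (a • x • v0) • x • v0 = x • v0)
    {l m x : M} (f : M →ₗ[F] F) (hl : l ∈ LL F H v0) (hm : m ∈ LL F H v0)
    (hf : ∀ e, AL F v0 al0 m e = 1 → f e = 0) (hfl : f l ≠ 0) (hfx : f (AL F v0 al0 l x • m + m) = 0)
    (hx : ∀ c : F, AL F v0 al0 l x • x + x ≠ c • l) : ∃ c : F, AL F v0 al0 l m • m + m = c • l := by
  obtain ⟨d, hd, hld⟩ := rr_spec F H hl
  obtain ⟨x0, c, hc, h1, h2⟩ := D.exists_rep (l := l) hm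
  obtain ⟨d', hd', hg'⟩ := D.rr_v0 hl
  obtain ⟨f', hf'⟩ : ∃ f' : M →ₗ[F] F, f' = f.comp (DistribSMul.toLinearMap F M (rr F H v0 l)) := ⟨_, rfl⟩
  have hfe : ∀ v, f' v = f (rr F H v0 l • v) := fun v => by rw [hf']; rfl
  have hfm : f m = 0 := hf m ((D.at_al_one' hc h2).2 (by
    rw [h2, lin, inv_smul_smul]
    refine D.al0_sm ((D.al_ker v0).2 fun a ha => ⟨0, ?_⟩)
    rw [zero_smul, add_zero]
    exact D.fix ha D.self))
  have h3 := hK (x := x0) (y := (rr F H v0 l)⁻¹ • x) f' (fun e he => by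
      rw [hfe, smul_smul]
      refine hf _ ((D.at_al_one' hc h2).2 ?_)
      rw [inv_smul_smul]
      exact he) (by
      rw [hfe, hg', map_smul, smul_eq_mul]
      exact mul_ne_zero hd' hfl) (by
      have h4 : f (AL F v0 al0 l x • m) = 0 := by
        rw [map_add, hfm, add_zero] at hfx
        exact hfx
      rw [D.act_AL, h1, lin, lin, map_smul, smul_eq_mul] at h4
      rw [hfe]
      exact (mul_eq_zero.1 h4).resolve_left hc) (fun b hb => by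
      apply hx (b * d')
      rw [D.act_AL', hb, lin, hg', smul_smul]) c
  refine ⟨0, ?_⟩
  have h4 : AL F v0 al0 l m • m = m := by
    rw [D.act_AL, h1, lin, h3, lin, ← mul_smul, ← h2]
  rw [h4, D.two, zero_smul]

/-- **S-pairs** at every line vector -/
theorem at_sp (hsp : ∃ x : H, al0 (x • v0) ≠ 1 ∧ al0 (x⁻¹ • v0) ≠ 1) {l : M} (hl : l ∈ LL F H v0) :
    ∃ m ∈ LL F H v0, AL F v0 al0 l m ≠ 1 ∧ AL F v0 al0 m l ≠ 1 := by
  obtain ⟨x, hx1, hx2⟩ := hsp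
  obtain ⟨y, c, hc, hlc⟩ := id hl
  have hm : (y * x) • v0 = (1 : F) • (y * x) • v0 := (one_smul F _).symm
  refine ⟨(y * x) • v0, ⟨y * x, 1, one_ne_zero, hm⟩, ?_, ?_⟩
  · rw [Ne, D.at_al_one' hc hlc, ← mul_smul, inv_mul_cancel_left]
    exact hx1
  · rw [Ne, D.at_al_one' one_ne_zero hm, hlc, lin, D.al0_sm_iff hc, ← mul_smul]
    have e : (y * x)⁻¹ * y = x⁻¹ := by group
    rw [e]
    exact hx2

/-- `k ≥ 2` at every line vector -/
theorem at_big (hb : ∃ x y : M, ∀ f g : F, al0 (f • x + g • y) = 1 → f = 0 ∧ g = 0) {l : M} (hl : l ∈ LL F H v0) :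
    ∃ x y : M, Sg.T.Pre.Ind F (AL F v0 al0) l x y := by
  obtain ⟨x, y, hxy⟩ := hb
  obtain ⟨z, c, hc, hlc⟩ := id hl
  refine ⟨z • x, z • y, fun f g h1 => hxy f g ?_⟩
  rw [D.at_al_one' hc hlc, smul_add, lin, lin, inv_smul_smul, inv_smul_smul] at h1
  exact h1

end Cfsg.Agent.Omega.NO3S.OneQ.TIq.Loc

namespace Cfsg.Agent.Omega.NO3S.OneQ.Co

open Subgroup Cfsg Cfsg.Agent.Omega.NO3S.PT Cfsg.Agent.Omega.NoFF.Basic
open scoped Pointwise

universe u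

variable {G : Type u} [Group G] [Finite G] {F : Type*} [Field F] [CharP F 2] {S : Sylow 2 G} {B P V Z : Subgroup G}
  (h : Co F S B P V Z)

/-- **K** at `v0` -/
theorem K_v0 [Finite F] (hG : IsCharacteristicTwoType G) (hN : NTr V Z) {x : h.HH} {y : h.MF} (f : h.MF →ₗ[F] F)
    (hf : ∀ e, h.al0 e = 1 → f (x • e) = 0) (hf0 : f h.v0 ≠ 0) (hy : f (h.al0 y • x • h.v0) = 0)
    (hq : ∀ c : F, h.al0 y • y + y ≠ c • h.v0) (a : F) : h.al0 (a • x • h.v0) • x • h.v0 = x • h.v0 := by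
  obtain ⟨c, hc, rfl⟩ := h.exists_rH x
  have h1 := h.kap hG hN hc f (fun m hm => hf m ((h.al0_one hN).2 hm)) hf0 y hy (fun hq' => by
    obtain ⟨d, hd⟩ := Submodule.mem_span_singleton.1 hq'
    apply hq d
    rw [h.al0_smul, ← h.sub_eq]
    exact hd.symm) a
  exact h1

/-- **S-pairs** at `v0` -/
theorem sp_v0 [Finite F] (hN : NTr V Z) : ∃ x : h.HH, h.al0 (x • h.v0) ≠ 1 ∧ h.al0 (x⁻¹ • h.v0) ≠ 1 := by
  obtain ⟨c, hc, h1, h2⟩ := h.exists_SPM hN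
  refine ⟨h.rH c hc, ?_, ?_⟩
  · rw [Ne, h.al0_one hN]
    exact h2
  · rw [Ne, h.al0_one hN]
    intro h3
    apply h1
    refine ⟨_, h3, ?_⟩
    have h4 : h.rH c hc • (h.rH c hc)⁻¹ • h.v0 = h.v0 := smul_inv_smul _ _
    exact h4

/-- `k ≥ 2` at `v0`, from the form of `Co.jay` -/
theorem big_v0 (hN : NTr V Z) (hk : ∀ m : h.MF, ∃ x : h.MF, ∀ c : F, x + c • m ∉ h.Eb) :
    ∃ x y : h.MF, ∀ f g : F, h.al0 (f • x + g • y) = 1 → f = 0 ∧ g = 0 := by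
  obtain ⟨m, hm⟩ := hk 0
  have hm0 : m ∉ h.Eb := by
    have h1 := hm 0
    rwa [smul_zero, add_zero] at h1
  obtain ⟨x, hx⟩ := hk m
  refine ⟨m, x, fun f g h1 => ?_⟩
  rw [h.al0_one hN] at h1
  have hg : g = 0 := by
    by_contra hg
    apply hx (g⁻¹ * f)
    have h2 := h.Eb.smul_mem g⁻¹ h1
    rw [smul_add, smul_smul, smul_smul, inv_mul_cancel₀ hg, one_smul, add_comm] at h2
    exact h2
  subst hg
  rw [zero_smul, add_zero] at h1
  refine ⟨?_, rfl⟩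
  by_contra hf
  apply hm0
  have h2 := h.Eb.smul_mem f⁻¹ h1
  rwa [smul_smul, inv_mul_cancel₀ hf, one_smul] at h2

end Cfsg.Agent.Omega.NO3S.OneQ.Co
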