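import Cfsg.Agent.Omega.NO3S.OneQ.Sg.Sigma

/-!
# NO-3S, `OneSz` (`q ≥ 4`, `n = 1`), case (N), `k ≥ 2`: hyperbolic pairs and `GL(A_l)` (bb OMEGA #20317 (E))

* `Pre.hyp_inf`, `hyp_comm`, `hyp_free`, `hyp_surj` : a hyperbolic pair `l`, `w`: `A_l ∩ A_w = 1`, `[B, B'] = 1`,
  `C_{B'}(a) = 1` for `a ∈ A_l - B`, `b ↦ [b, a]` is a bijection `B' → B`;
* `Pre.hyp_transv` : `B'` induces all transvections of `A_l` with axis `B`;
* `SgB` : `SgJ` and: every `a ≠ 1` in `A_l` inverts some `o ≠ 1` of odd order;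
* **`SgB.axis`** : every functional `f ≠ 0` on `A_l` is `φ_w` for a hyperbolic `w`; **`SgB.transv`**.
-/

set_option autoImplicit false
set_option linter.unusedSimpArgs false
set_option linter.unusedSectionVars false

namespace Cfsg.Agent.Omega.NO3S.OneQ.Sg

open Module TIq

namespace Pre

variable {F M H : Type*} [Field F] [AddCommGroup M] [Module F M] [Group H] [DistribMulAction H M] {L : Set M}
    {A : M → Subgroup H} {I : M → Submodule F M} {al : M → M → H} (G : Pre F L A I al)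
include G

theorem al_congr {l x y : M} (hl : l ∈ L) : al l x = al l y ↔ al l (x + y) = 1 := by
  rw [G.al_add hl]
  constructor
  · intro h
    rw [h]
    exact G.sq hl (G.al_mem hl y)
  · intro h
    have := inv_eq_of_mul_eq_one_left h
    rw [← this, G.inv hl (G.al_mem hl y)]

theorem al_smul_congr {l x y : M} (hl : l ∈ L) (c : F) (h : al l x = al l y) : al l (c • x) = al l (c • y) := by
  rw [G.al_congr hl] at h ⊢
  rw [← smul_add]
  exact G.al_sm_one hl c h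

/-- conjugation of `al l m = 1` -/
theorem al_one_conj (h : H) {l m : M} (hl : l ∈ L) (hm : al l m = 1) : al (h • l) (h • m) = 1 := by
  rw [G.al_ker (G.smul h hl)]
  intro b hb
  have h1 : h⁻¹ * b * h ∈ A l := by
    have := G.A_conj h⁻¹ (G.smul h hl) hb
    rwa [inv_smul_smul, inv_inv] at this
  obtain ⟨c, hc⟩ := (G.al_ker hl m).1 hm _ h1
  refine ⟨c, ?_⟩
  have h2 : b • (h • m) = h • ((h⁻¹ * b * h) • m) := by
    rw [smul_smul, smul_smul]
    congr 1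
    group
  rw [h2, hc, smul_add, G.lin]

theorem hyp_conj (h : H) {l m : M} (hl : l ∈ L) (hm : m ∈ L) (hh : Hyp A al l m) : Hyp A al (h • l) (h • m) where
  al1 := G.al_one_conj h hl hh.al1
  al2 := G.al_one_conj h hm hh.al2
  mv1 := by
    obtain ⟨a, ha, h1⟩ := hh.mv1
    refine ⟨_, G.A_conj h hl ha, fun e => h1 ?_⟩
    rw [smul_smul, inv_mul_cancel_right, mul_smul] at e
    exact smul_left_cancel h e
  mv2 := by
    obtain ⟨a, ha, h1⟩ := hh.mv2
    refine ⟨_, G.A_conj h hm ha, fun e => h1 ?_⟩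
    rw [smul_smul, inv_mul_cancel_right, mul_smul] at e
    exact smul_left_cancel h e

theorem hyp_smul {l w : M} {c : F} (hc : c ≠ 0) (hl : l ∈ L) (hw : w ∈ L) (hh : Hyp A al l w) :
    Hyp A al l (c • w) where
  al1 := G.al_sm_one hl c hh.al1
  al2 := by
    rw [G.al_ker (G.fsm hc hw)]
    intro a ha
    rw [G.A_sm hc hw] at ha
    obtain ⟨t, ht⟩ := (G.al_ker hw l).1 hh.al2 a ha
    exact ⟨t * c⁻¹, by rw [ht, smul_smul, mul_assoc, inv_mul_cancel₀ hc, mul_one]⟩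
  mv1 := by
    obtain ⟨a, ha, h1⟩ := hh.mv1
    refine ⟨a, ha, fun e => h1 ?_⟩
    rw [G.lin] at e
    have := congrArg (fun x => c⁻¹ • x) e
    simpa [smul_smul, inv_mul_cancel₀ hc] using this
  mv2 := by
    obtain ⟨a, ha, h1⟩ := hh.mv2
    exact ⟨a, by rwa [G.A_sm hc hw], h1⟩

/-- `λ_l ≰ Ī_w` -/
theorem hyp_I {l w : M} (hw : w ∈ L) (h : Hyp A al l w) {c : F} (hc : c ≠ 0) : c • l ∉ I w := by
  intro h1
  obtain ⟨b, hb, hbl⟩ := h.mv2
  apply hbl
  refine G.fix hw hb ?_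
  have := (I w).smul_mem c⁻¹ h1
  rwa [smul_smul, inv_mul_cancel₀ hc, one_smul] at this

/-- `A_l ∩ A_w = 1` -/
theorem hyp_inf {l w : M} (hl : l ∈ L) (hw : w ∈ L) (h : Hyp A al l w) {c : H} (hc : c ∈ A l) (hc' : c ∈ A w) :
    c = 1 := by
  by_contra h1
  obtain ⟨e, -, he⟩ := G.phi hl hc h1
  refine G.hyp_I (l := l) hw h (c := (1 : F)) one_ne_zero ?_
  have := G.comm hw hc' e
  rwa [he, add_comm e l, add_assoc, G.two, add_zero, ← one_smul F l] at this

/-- `[B, B'] = 1` -/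
theorem hyp_comm {l w : M} (hl : l ∈ L) (hw : w ∈ L) (h : Hyp A al l w) {b b' : H} (hb : b ∈ A l) (hbw : b • w = w)
    (hb' : b' ∈ A w) (hbl : b' • l = l) : b * b' = b' * b := by
  have h1 : b * b' * b⁻¹ ∈ A w := G.A_conj_fix hw hb' hbw
  have h2 : b' * b⁻¹ * b'⁻¹ ∈ A l := G.A_conj_fix hl (inv_mem hb) hbl
  have h3 : b * b' * b⁻¹ * b'⁻¹ = 1 := by
    refine G.hyp_inf hl hw h ?_ (mul_mem h1 (inv_mem hb'))
    have e : b * b' * b⁻¹ * b'⁻¹ = b * (b' * b⁻¹ * b'⁻¹) := by group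
    rw [e]
    exact mul_mem hb h2
  rwa [mul_inv_eq_one, mul_inv_eq_iff_eq_mul] at h3

/-- the displacement of `w` -/
theorem hyp_disp {l w : M} (hl : l ∈ L) (h1 : al l w = 1) {a : H} (ha : a ∈ A l) :
    ∃ c : F, a • w = w + c • l := (G.al_ker hl w).1 h1 a ha

/-- `C_{B'}(a) = 1` for `a ∈ A_l - B` -/
theorem hyp_free {l w : M} (hl : l ∈ L) (hw : w ∈ L) (h : Hyp A al l w) {a b' : H} (ha : a ∈ A l) (haw : a • w ≠ w)
    (hb' : b' ∈ A w) (hc : a * b' = b' * a) : b' = 1 := by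
  by_contra h1
  have h2 : b' ∈ A (a • w) := by
    have := G.A_conj a hw hb'
    rwa [hc, mul_assoc, mul_inv_cancel, mul_one] at this
  obtain ⟨e, -, he⟩ := G.phi (G.smul a hw) h2 h1
  have h3 : a • w ∈ I w := by
    have := G.comm hw hb' e
    rwa [he, add_comm e (a • w), add_assoc, G.two, add_zero] at this
  obtain ⟨c, hcw⟩ := G.hyp_disp hl h.al1 ha
  have hc0 : c ≠ 0 := by
    rintro rfl
    exact haw (by rw [hcw, zero_smul, add_zero])
  apply G.hyp_I (l := l) hw h hc0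
  rw [hcw] at h3
  have := (I w).add_mem (G.self hw) h3
  rwa [G.two_left] at this

theorem hyp_br {l w : M} (hl : l ∈ L) (hw : w ∈ L) (h1 : al l w = 1) {a b : H} (ha : a ∈ A l)
    (hb : b ∈ A w) (hbl : b • l = l) : b * a * b⁻¹ * a⁻¹ ∈ A l ∧ (b * a * b⁻¹ * a⁻¹) • w = w := by
  refine ⟨mul_mem (G.A_conj_fix hl ha hbl) (inv_mem ha), ?_⟩
  obtain ⟨t, ht⟩ := G.hyp_disp hl h1 (inv_mem ha)
  have hbw := G.A_fix hw hb
  have hbw' := G.A_fix hw (inv_mem hb)
  have hbl' : b⁻¹ • l = l := by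
    conv_lhs => rw [← hbl]
    rw [inv_smul_smul]
  rw [mul_smul, ht, mul_smul, smul_add, G.lin, hbw', hbl', ← ht, mul_smul, smul_inv_smul, hbw]

theorem hyp_br_inj {l w : M} (hl : l ∈ L) (hw : w ∈ L) (h : Hyp A al l w) {a b b₂ : H} (ha : a ∈ A l)
    (haw : a • w ≠ w) (hb : b ∈ A w) (hb₂ : b₂ ∈ A w) (he : b * a * b⁻¹ * a⁻¹ = b₂ * a * b₂⁻¹ * a⁻¹) : b = b₂ := by
  have h1 := mul_right_cancel he
  have h2 : a * (b₂⁻¹ * b) = (b₂⁻¹ * b) * a := by
    calc a * (b₂⁻¹ * b) = b₂⁻¹ * (b₂ * a * b₂⁻¹) * b := by group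
      _ = b₂⁻¹ * (b * a * b⁻¹) * b := by rw [h1]
      _ = (b₂⁻¹ * b) * a := by group
  have h3 := G.hyp_free hl hw h ha haw (mul_mem (inv_mem hb₂) hb) h2
  exact (inv_mul_eq_one.1 h3).symm

/-- `b ↦ [b, a]` is a bijection `B' → B` -/
theorem hyp_surj [Finite H] {l w : M} (hl : l ∈ L) (hw : w ∈ L) (h : Hyp A al l w) {a : H} (ha : a ∈ A l)
    (haw : a • w ≠ w) {c : H} (hc : c ∈ A l) (hcw : c • w = w) :
    ∃ b ∈ A w, b • l = l ∧ b * a * b⁻¹ * a⁻¹ = c := by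
  obtain ⟨a', ha', hal'⟩ := h.mv2
  let B : Type _ := {b : H // b ∈ A l ∧ b • w = w}
  let B' : Type _ := {b : H // b ∈ A w ∧ b • l = l}
  let f : B' → B := fun b => ⟨b.1 * a * b.1⁻¹ * a⁻¹, G.hyp_br hl hw h.al1 ha b.2.1 b.2.2⟩
  let g : B → B' := fun b => ⟨b.1 * a' * b.1⁻¹ * a'⁻¹, G.hyp_br hw hl h.al2 ha' b.2.1 b.2.2⟩
  have hf : Function.Injective f := fun x y hxy =>
    Subtype.ext (G.hyp_br_inj hl hw h ha haw x.2.1 y.2.1 (congrArg Subtype.val hxy))
  have hg : Function.Injective g := fun x y hxy =>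
    Subtype.ext (G.hyp_br_inj hw hl h.symm ha' hal' x.2.1 y.2.1 (congrArg Subtype.val hxy))
  have hs : Function.Surjective (f ∘ g) := Finite.injective_iff_surjective.1 (hf.comp hg)
  obtain ⟨x, hx⟩ := hs ⟨c, hc, hcw⟩
  exact ⟨(g x).1, (g x).2.1, (g x).2.2, congrArg Subtype.val hx⟩

/-- **`B'` induces all transvections with axis `B`** -/
theorem hyp_transv [Finite H] {l w : M} (hl : l ∈ L) (hw : w ∈ L) (h : Hyp A al l w) {f : M →ₗ[F] F}
    (hf : ∀ x, al l x • w = w + f x • l) {d : M} (hd : f d = 0) :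
    ∃ b ∈ A w, b • l = l ∧ ∀ x, al l (b • x) = al l (x + f x • d) := by
  obtain ⟨a₀, ha₀, haw₀⟩ := h.mv1
  obtain ⟨y₀, rfl⟩ := G.al_surj hl ha₀
  have hy₀ : f y₀ ≠ 0 := by
    intro h0
    exact haw₀ (by rw [hf, h0, zero_smul, add_zero])
  obtain ⟨y, hy⟩ : ∃ y, y = (f y₀)⁻¹ • y₀ := ⟨_, rfl⟩
  have hfy : f y = 1 := by rw [hy, map_smul, smul_eq_mul, inv_mul_cancel₀ hy₀]
  have hay : al l y • w ≠ w := by
    rw [hf, hfy, one_smul]
    intro e
    exact G.ne_zero hl (add_eq_left.1 e)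
  have hdw : al l d • w = w := by rw [hf, hd, zero_smul, add_zero]
  obtain ⟨b, hb, hbl, hbe⟩ := G.hyp_surj hl hw h (G.al_mem hl y) hay (G.al_mem hl d) hdw
  refine ⟨b, hb, hbl, ?_⟩
  have h1 : al l (b • y) = al l (d + y) := by
    rw [G.al_conj hl hbl, G.al_add hl, ← hbe]
    group
  intro x
  obtain ⟨z, hz⟩ : ∃ z, z = x + f x • y := ⟨_, rfl⟩
  have hfz : f z = 0 := by
    rw [hz, map_add, map_smul, hfy, smul_eq_mul, mul_one]
    exact G.two_F hl _
  have hzw : al l z • w = w := by rw [hf, hfz, zero_smul, add_zero]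
  have h2 : al l (b • z) = al l z := by
    rw [G.al_conj hl hbl, ← G.hyp_comm hl hw h (G.al_mem hl z) hzw hb hbl, mul_inv_cancel_right]
  have h3 : x = z + f x • y := by
    rw [hz, add_assoc, G.two, add_zero]
  have h4 : b • x = b • z + f x • (b • y) := by
    conv_lhs => rw [h3]
    rw [smul_add, G.lin]
  rw [h4, G.al_add hl, h2, G.al_smul_congr hl (f x) h1, ← G.al_add hl]
  congr 1
  rw [smul_add]
  nth_rewrite 3 [h3]
  abel

end Pre

/-- `SgJ` and Baer-Suzuki -/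
structure SgB (F : Type*) {M H : Type*} [Field F] [AddCommGroup M] [Module F M] [Group H] [DistribMulAction H M]
    (L : Set M) (A : M → Subgroup H) (I : M → Submodule F M) (al : M → M → H) : Prop extends SgJ F L A I al where
  bs : ∀ {l : M} {a : H}, l ∈ L → a ∈ A l → a ≠ 1 → ∃ o : H, o ≠ 1 ∧ Odd (orderOf o) ∧ a * o * a⁻¹ = o⁻¹

namespace SgB

variable {F M H : Type*} [Field F] [AddCommGroup M] [Module F M] [Group H] [DistribMulAction H M] {L : Set M}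
    {A : M → Subgroup H} {I : M → Submodule F M} {al : M → M → H} (G : SgB F L A I al)

include G in
/-- every `a ≠ 1` moves a hyperbolic `w` -/
theorem exists_hyp {l : M} {a : H} (hl : l ∈ L) (ha : a ∈ A l) (ha1 : a ≠ 1) :
    ∃ w ∈ L, Hyp A al l w ∧ a • w ≠ w := by
  obtain ⟨o, ho1, ho, hao⟩ := G.bs hl ha ha1
  have h1 := G.toSgJ.sigma hl ha ho1 ho hao
  exact ⟨_, G.smul o hl, h1.1, h1.2⟩

/-- the functionals `φ_w`, `w` hyperbolic -/
def AxS [Finite H] (G : SgB F L A I al) {l : M} (hl : l ∈ L) : Submodule F (M →ₗ[F] F) where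
  carrier := {f | f = 0 ∨ ∃ w ∈ L, Hyp A al l w ∧ ∀ x, al l x • w = w + f x • l}
  zero_mem' := Or.inl rfl
  add_mem' := by
    rintro f₁ f₂ (rfl | ⟨w₁, hw₁, h₁, hf₁⟩) h2
    · rw [zero_add]; exact h2
    obtain (rfl | ⟨w₂, hw₂, h₂, hf₂⟩) := h2
    · rw [add_zero]; exact Or.inr ⟨w₁, hw₁, h₁, hf₁⟩
    by_cases hdep : ∀ d, f₁ d = 0 → f₂ d = 0
    · -- proportional
      obtain ⟨a₀, ha₀, haw₀⟩ := h₁.mv1
      obtain ⟨y, rfl⟩ := G.al_surj hl ha₀
      have hy : f₁ y ≠ 0 := fun h0 => haw₀ (by rw [hf₁, h0, zero_smul, add_zero])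
      have h3 : ∀ x, f₂ x = (f₂ y * (f₁ y)⁻¹) * f₁ x := by
        intro x
        have h4 := hdep (x - (f₁ x * (f₁ y)⁻¹) • y) (by
          rw [map_sub, map_smul, smul_eq_mul, mul_assoc, inv_mul_cancel₀ hy, mul_one, sub_self])
        rw [map_sub, map_smul, smul_eq_mul, sub_eq_zero] at h4
        rw [h4]; ring
      set t := f₂ y * (f₁ y)⁻¹ with ht
      by_cases ht1 : 1 + t = 0
      · left
        ext x
        rw [LinearMap.add_apply, h3 x, LinearMap.zero_apply]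
        have : f₁ x + t * f₁ x = (1 + t) * f₁ x := by ring
        rw [this, ht1, zero_mul]
      · refine Or.inr ⟨(1 + t) • w₁, G.fsm ht1 hw₁, G.hyp_smul ht1 hl hw₁ h₁, fun x => ?_⟩
        rw [G.lin, hf₁, smul_add, LinearMap.add_apply, h3 x, smul_smul]
        congr 2
        ring
    · push Not at hdep
      obtain ⟨d₀, hd₀, hd₀'⟩ := hdep
      obtain ⟨d, hd1, hd2⟩ : ∃ d, f₁ d = 0 ∧ f₂ d = 1 :=
        ⟨(f₂ d₀)⁻¹ • d₀, by rw [map_smul, hd₀, smul_zero], by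
          rw [map_smul, smul_eq_mul, inv_mul_cancel₀ hd₀']⟩
      obtain ⟨b, hb, hbl, hbx⟩ := G.hyp_transv hl hw₁ h₁ hf₁ hd1
      have hbb := G.sq hw₁ hb
      right
      refine ⟨b • w₂, G.smul b hw₂, ?_, fun x => ?_⟩
      · have := G.hyp_conj b hl hw₂ h₂
        rwa [hbl] at this
      · have h3 : al l x • (b • w₂) = b • (al l (b • x) • w₂) := by
          rw [G.al_conj hl hbl, smul_smul, smul_smul]
          congr 1
          rw [inv_eq_of_mul_eq_one_left hbb, ← mul_assoc, ← mul_assoc, hbb, one_mul]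
        rw [h3, hbx, hf₂, smul_add, G.lin, hbl, LinearMap.add_apply, map_add, map_smul, hd2, smul_eq_mul, mul_one,
          add_comm (f₂ x)]
  smul_mem' := by
    rintro c f (rfl | ⟨w, hw, h, hf⟩)
    · left; rw [smul_zero]
    · by_cases hc : c = 0
      · left; rw [hc, zero_smul]
      · refine Or.inr ⟨c • w, G.fsm hc hw, G.hyp_smul hc hl hw h, fun x => ?_⟩
        rw [G.lin, hf, smul_add, LinearMap.smul_apply, smul_eq_mul, smul_smul]

include G

/-- **(E)** every functional `≠ 0` on `A_l` is `φ_w` for a hyperbolic `w` -/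
theorem axis [Finite H] [FiniteDimensional F M] {l : M} (hl : l ∈ L) {f : M →ₗ[F] F} (hf : ∀ e, al l e = 1 → f e = 0)
    (hf0 : f ≠ 0) : ∃ w ∈ L, Hyp A al l w ∧ ∀ x, al l x • w = w + f x • l := by
  have h1 : ∀ x ∈ (G.AxS hl).dualCoannihilator, al l x = 1 := by
    intro x hx
    by_contra hx1
    obtain ⟨w, hw, h, hxw⟩ := G.exists_hyp hl (G.al_mem hl x) hx1
    have h2 : G.toPre.Phi hl ⟨w, h.al1⟩ ∈ G.AxS hl :=
      Or.inr ⟨w, hw, h, fun y => G.toPre.Phi_spec' hl ⟨w, h.al1⟩ y⟩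
    rw [Submodule.mem_dualCoannihilator] at hx
    have h3 := hx _ h2
    apply hxw
    have h4 := G.toPre.Phi_spec' hl ⟨w, h.al1⟩ x
    rw [h3, zero_smul, add_zero] at h4
    exact h4
  have h2 : f ∈ G.AxS hl := by
    rw [← Subspace.dualCoannihilator_dualAnnihilator_eq (W := G.AxS hl), Submodule.mem_dualAnnihilator]
    exact fun x hx => hf x (h1 x hx)
  exact h2.resolve_left hf0

/-- **(E)** the transvections of `A_l` -/
theorem transv [Finite H] [FiniteDimensional F M] {l : M} (hl : l ∈ L) {f : M →ₗ[F] F} (hf : ∀ e, al l e = 1 → f e = 0)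
    {d : M} (hd : f d = 0) : ∃ b : H, b • l = l ∧ ∀ x, al l (b • x) = al l (x + f x • d) := by
  by_cases hf0 : f = 0
  · exact ⟨1, one_smul _ _, fun x => by rw [one_smul, hf0, LinearMap.zero_apply, zero_smul, add_zero]⟩
  obtain ⟨w, hw, h, hfw⟩ := G.axis hl hf hf0
  obtain ⟨b, -, hbl, hb⟩ := G.toPre.hyp_transv hl hw h hfw hd
  exact ⟨b, hbl, hb⟩

end SgB

end Cfsg.Agent.Omega.NO3S.OneQ.Sg
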