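import Cfsg.Agent.Omega.NO3S.OneQ.Sg.DxEnd
import Cfsg.Agent.Omega.NO3S.OneQ.Sg.JayM
import Cfsg.Agent.Omega.NO3S.OneQ.Sg.KapM
import Cfsg.Agent.Omega.NO3S.OneQ.InstAny

/-!
# NO-3S, `OneSz` (`q ≥ 4`, `n = 1`), case (N), `k ≥ 2`: `D_x ≤ I` from TI

* `Loc.at_lemK`, `Loc.at_n6`, `Loc.at_S2_pair` : LEMMA K, partial pairs and (S2) at every pair of line vectors;
* `Co.lemK_v0`, `Co.n6_v0` : the facts at `v0` (helper382);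
* **`Co.dx_le`** : TI implies `D_Z ≤ I`.
-/

set_option autoImplicit false
set_option linter.unusedSectionVars false

namespace Cfsg.Agent.Omega.NO3S.OneQ.TIq.Loc

variable {F M H : Type*} [Field F] [AddCommGroup M] [Module F M] [Group H] [DistribMulAction H M]
  [SMulCommClass H F M] {v0 : M} {A0 : Subgroup H} {I0 : Submodule F M} {al0 : M → H}
  (D : Loc F v0 A0 I0 al0)
include D

/-- the common coordinates of two line vectors -/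
theorem pair_rep {l m : M} (hl : l ∈ LL F H v0) (hm : m ∈ LL F H v0) :
    ∃ (x : H) (c d : F), c ≠ 0 ∧ d ≠ 0 ∧ (rr F H v0 l)⁻¹ • m = d • x • v0 ∧ (rr F H v0 m)⁻¹ • l = c • x⁻¹ • v0 ∧
      x = (rr F H v0 l)⁻¹ * rr F H v0 m ∧ m = d • rr F H v0 m • v0 := by
  obtain ⟨c, hc, hlc⟩ := rr_spec F H hl
  obtain ⟨d, hd, hmd⟩ := rr_spec F H hm
  refine ⟨(rr F H v0 l)⁻¹ * rr F H v0 m, c, d, hc, hd, ?_, ?_, rfl, hmd⟩
  · conv_lhs => rw [hmd]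
    rw [lin, mul_smul]
  · conv_lhs => rw [hlc]
    rw [lin, mul_inv_rev, inv_inv, mul_smul]

/-- **LEMMA K** at every pair -/
theorem at_lemK (hK : ∀ {x : H}, al0 (x⁻¹ • v0) ≠ 1 → ∀ a : F, al0 (a • x • v0) • x • v0 = x • v0) {l m : M}
    (hl : l ∈ LL F H v0) (hm : m ∈ LL F H v0) (h2 : AL F v0 al0 m l ≠ 1) : AL F v0 al0 l m • m = m := by
  obtain ⟨x, c, d, hc, hd, e1, e2, hx, hmd⟩ := D.pair_rep hl hm
  rw [Ne, D.at_al_one, e2, D.al0_sm_iff hc] at h2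
  rw [D.act_AL, e1, lin, hK h2 d, ← e1, smul_inv_smul]

/-- **the pairs are partial** -/
theorem at_n6 (hn : ∀ {x a : H}, al0 (x⁻¹ • v0) ≠ 1 → a ∈ A0 → al0 (x⁻¹ • (a • x • v0 + x • v0)) = 1) {l m : M} {a : H}
    (hl : l ∈ LL F H v0) (hm : m ∈ LL F H v0) (h2 : AL F v0 al0 m l ≠ 1) (ha : a ∈ AA F v0 A0 l) :
    AL F v0 al0 m (a • m + m) = 1 := by
  obtain ⟨x, c, d, hc, hd, e1, e2, hx, hmd⟩ := D.pair_rep hl hm
  rw [Ne, D.at_al_one, e2, D.al0_sm_iff hc] at h2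
  rw [D.mem_AA_rr hl] at ha
  rw [D.at_al_one]
  obtain ⟨g, hg⟩ : ∃ g, g = rr F H v0 l := ⟨_, rfl⟩
  obtain ⟨k, hk⟩ : ∃ k, k = rr F H v0 m := ⟨_, rfl⟩
  rw [← hg] at hx ha e1
  rw [← hk] at hx hmd e2 ⊢
  have hxi : x⁻¹ = k⁻¹ * g := by rw [hx]; group
  have e3 : k⁻¹ • (a • m + m) = d • x⁻¹ • ((g⁻¹ * a * g) • x • v0 + x • v0) := by
    have e4 : a • k • v0 = g • (g⁻¹ * a * g) • x • v0 := by
      rw [hx]
      simp only [smul_smul]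
      congr 1
      group
    have e5 : k • v0 = g • x • v0 := by
      rw [hx, smul_smul, mul_inv_cancel_left]
    rw [hmd, lin, e4, e5, ← smul_add, ← smul_add, lin, smul_smul k⁻¹ g, ← hxi]
  rw [e3, D.al0_sm_iff hd]
  exact hn h2 ha

/-- **(S2)** at every pair -/
theorem at_S2_pair (hS : ∀ {x : H} {y y' : M}, al0 (x • v0) ≠ 1 → al0 (x⁻¹ • v0) ≠ 1 → al0 y • x • v0 = x • v0 →
      al0 y' • x • v0 = x • v0 → ∃ f g : F, ¬ (f = 0 ∧ g = 0) ∧ al0 (f • y + g • y') = 1) {l m y y' : M}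
    (hl : l ∈ LL F H v0) (hm : m ∈ LL F H v0) (h1 : AL F v0 al0 l m ≠ 1) (h2 : AL F v0 al0 m l ≠ 1)
    (hy : AL F v0 al0 l y • m = m) (hy' : AL F v0 al0 l y' • m = m) :
    ∃ f g : F, ¬ (f = 0 ∧ g = 0) ∧ AL F v0 al0 l (f • y + g • y') = 1 := by
  obtain ⟨x, c, d, hc, hd, e1, e2, hx, hmd⟩ := D.pair_rep hl hm
  rw [Ne, D.at_al_one, e2, D.al0_sm_iff hc] at h2
  rw [Ne, D.at_al_one, e1, D.al0_sm_iff hd] at h1
  have key : ∀ y, AL F v0 al0 l y • m = m → al0 ((rr F H v0 l)⁻¹ • y) • x • v0 = x • v0 := by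
    intro y hy
    rw [D.act_AL, e1, ← eq_inv_smul_iff, e1, lin] at hy
    have h3 := congrArg (fun w => d⁻¹ • w) hy
    simpa only [smul_smul, inv_mul_cancel₀ hd, one_smul] using h3
  obtain ⟨f, g, hfg, h3⟩ := hS h1 h2 (key y hy) (key y' hy')
  refine ⟨f, g, hfg, ?_⟩
  rw [D.at_al_one, smul_add, lin, lin]
  exact h3

end Cfsg.Agent.Omega.NO3S.OneQ.TIq.Loc

namespace Cfsg.Agent.Omega.NO3S.OneQ.Co

open Subgroup Cfsg.Agent.Omega.NO3S.PT Cfsg.Agent.Omega.NoFF.Basic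
open scoped Pointwise

universe u

variable {G : Type u} [Group G] [Finite G] {F : Type*} [Field F] [CharP F 2] [Finite F] {S : Sylow 2 G}
  {B P V Z : Subgroup G} (h : Co F S B P V Z)
include h

/-- LEMMA K at `v0` -/
theorem lemK_v0 (hN : NTr V Z) (hD : ¬ dd V Z Z ≤ IV V Z) {x : h.HH} (h2 : h.al0 (x⁻¹ • h.v0) ≠ 1) (a : F) :
    h.al0 (a • x • h.v0) • x • h.v0 = x • h.v0 := by
  obtain ⟨c, hc, rfl⟩ := h.exists_rH x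
  rw [← h.rH_inv hc, Ne, h.al0_one hN] at h2
  refine h.lemKM_of hN hD hc (h.not_V_le hN hc ?_) a
  intro h3
  exact h2 ((h.rc_inv_mem hc h.v0).2 h3)

/-- the pairs are partial at `v0` -/
theorem n6_v0 (hN : NTr V Z) (hD : ¬ dd V Z Z ≤ IV V Z) {x a : h.HH} (h2 : h.al0 (x⁻¹ • h.v0) ≠ 1) (ha : a ∈ h.A0) :
    h.al0 (x⁻¹ • (a • x • h.v0 + x • h.v0)) = 1 := by
  obtain ⟨c, hc, rfl⟩ := h.exists_rH x
  obtain ⟨w, hw, rfl⟩ := h.mem_A0.1 ha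
  rw [← h.rH_inv hc] at h2 ⊢
  rw [Ne, h.al0_one hN] at h2
  rw [h.al0_one hN]
  have hcN := centralizer_le_normalizer _ hc
  have hcZ : PT.cj c Z = Z := cj_eq_iff.2 hcN
  have hZM : Z ≤ PT.cj c V := by
    nth_rewrite 1 [← hcZ]
    exact cj_le_cj.2 h.one.pl.ZV
  have hVM : ¬ V ≤ ee (PT.cj c V) Z Z := h.not_V_le hN hc fun h3 => h2 ((h.rc_inv_mem hc h.v0).2 h3)
  have hpart := h.partial_of hN hD ⟨c, rfl⟩ hZM hVM h.pY h.Yp_ne w hw _ (conj_mem_cj (g := c) (h.e_memV 0 1))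
  have hvW : c * h.e 0 1 * c⁻¹ ∈ ws V Z := h.W_conj hcN (h.W_V 0 1)
  obtain ⟨hwx, hcomm⟩ := h.rp_comm hw hvW
  change h.rp ⟨c⁻¹, h.C_le_hat (inv_mem hc)⟩ (h.rp ⟨w, h.W_hat h.pY hw⟩ (h.rp ⟨c, h.C_le_hat hc⟩ h.v0) +
    h.rp ⟨c, h.C_le_hat hc⟩ h.v0) ∈ h.Eb
  rw [h.rc_inv_mem hc, h.rc_v0 hc, hcomm]
  exact (h.fm_Ec_iff hN hc hwx).2 hpart

/-- **TI implies `D_Z ≤ I`** -/
theorem dx_le (hN : NTr V Z) (hq : ∃ ζ : F, ζ ≠ 0 ∧ ζ ≠ 1)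
    (ti : ∀ {l m : h.MF} {a : h.HH}, l ∈ TIq.LL F h.HH h.v0 → m ∈ TIq.LL F h.HH h.v0 → a ∈ TIq.AA F h.v0 h.A0 l →
      a ∈ TIq.AA F h.v0 h.A0 m → a ≠ 1 → ∃ c : F, m = c • l) : dd V Z Z ≤ IV V Z := by
  by_contra hD
  have D := (h.locW hN hq).toLoc
  have G := h.sgPre hN hq
  obtain ⟨m, hm, h1, h2⟩ := D.at_sp (h.sp_v0 hN) (TIq.Loc.self_mem (F := F) (H := h.HH) (v0 := h.v0))
  have hl : h.v0 ∈ TIq.LL F h.HH h.v0 := TIq.Loc.self_mem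
  refine G.dx_end ti hl hm h1 h2 (D.at_lemK (h.lemK_v0 hN hD) hl hm h2) (D.at_lemK (h.lemK_v0 hN hD) hm hl h1)
    (fun a ha => D.at_n6 (h.n6_v0 hN hD) hl hm h2 ha) (fun a ha => D.at_n6 (h.n6_v0 hN hD) hm hl h1 ha)
    (fun y hy => D.at_S2_pair (fun a b c d => h.S20 hN a b c d) hl hm h1 h2 hy (D.at_lemK (h.lemK_v0 hN hD) hl hm h2))
    (fun y hy => D.at_S2_pair (fun a b c d => h.S20 hN a b c d) hm hl h2 h1 hy (D.at_lemK (h.lemK_v0 hN hD) hm hl h1))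

end Cfsg.Agent.Omega.NO3S.OneQ.Co
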