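import Cfsg.Agent.Omega.NO3S.OneQ.Sg.Asm
import Cfsg.Agent.Omega.NO3S.OneQ.Sg.DxM
import Cfsg.Agent.Omega.NO3S.OneQ.CaseN1

/-!
# NO-3S, `OneSz` (`q ≥ 4`, `n = 1`), case (N): the end

* **`Co.big_N`** : `k ≥ 2`: `D_Z ≤ I` and TI;
* **`Co.szMod_N`** : case (N): `W_Z / Z` is natural for `Sz(q)`.
-/

set_option autoImplicit false
set_option linter.unusedSectionVars false

namespace Cfsg.Agent.Omega.NO3S.OneQ.Co

open Subgroup Cfsg Cfsg.Agent.Omega.NO3S.PT Cfsg.Agent.Omega.NoFF.Basic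
open Cfsg.Agent.WeakTI.FlatBorel (CritAll BenderAll)
open scoped Pointwise

universe u

/-- **case (N), `k ≥ 2`** -/
theorem big_N {G : Type u} [Group G] [Finite G] {F : Type*} [Field F] [Finite F] [CharP F 2] {S : Sylow 2 G}
    {B P V Z : Subgroup G} (h : Co F S B P V Z) (hG : IsCharacteristicTwoType G) (hF : 3 ≤ Nat.card F)
    (hN : NTr V Z) (hk : ¬ ∀ x y : h.MF, x ∉ h.Eb → ∃ c : F, y + c • x ∈ h.Eb) : dd V Z Z ≤ IV V Z ∧ TIw V Z :=
  have hq := h.exists_ne_zero_one hF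
  ⟨h.dx_le hN hq (h.ti_LL hN hq (h.big_of hk) hG), h.tiw_big hN hq (h.big_of hk) hG⟩

/-- **case (N)** -/
theorem szMod_N {G : Type u} [Group G] [Finite G] {F : Type} [Field F] [CharP F 2] {S : Sylow 2 G}
    {B P V Z : Subgroup G} (h : Co F S B P V Z) (hcrit : CritAll.{u}) (hbend : BenderAll.{u})
    (hG : IsCharacteristicTwoType G) (hN : NTr V Z) (hF : 4 ≤ Nat.card F) :
    ∃ (θ : F →+* F) (e m : ℕ) (T : Cfsg.Agent.LieRecognition.SzMatrix.Good F θ e), 1 ≤ m ∧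
      Nat.card F = 2 ^ (2 * m + 1) ∧
      Nonempty (Cfsg.Agent.Omega.TwoFFour.SzMod T (normalizer (Z : Set G)) (ws V Z) Z) := by
  have := h.finF
  by_cases hk : ∀ x y : h.MF, x ∉ h.Eb → ∃ c : F, y + c • x ∈ h.Eb
  · exact h.szMod_one hcrit hbend hG hN hk hF
  · obtain ⟨h1, h2⟩ := h.big_N hG (by omega) hN hk
    exact h.szMod hcrit hbend hG hN h1 h2 hF

end Cfsg.Agent.Omega.NO3S.OneQ.Co
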