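import Cfsg.Agent.Omega.NO3S.OneQ.Sg.Ax

/-!
# NO-3S, `OneSz` (`q ≥ 4`, `n = 1`), case (N), `k ≥ 2`: the end of `D_x ≰ I` (pure)

* **`Pre.dx_end`** : TI, an S-pair `l, m` with `[A_l, m] ≤ Ebar_m`, `[A_m, l] ≤ Ebar_l` (the pairs are partial), LEMMA K
  (`α_l(m)` fixes `m`) and (S2) (`C_{A_l}(m)` has dimension 1): impossible.

`b = α_l(m)`, `b₂ = α_m(l)`: `[a, b₂] ∈ C_{A_l}(m)` for all `a ∈ A_l`, some `a₁ ∈ A_l` has `[a₁, b₂] = b`, some
`a₂ ∈ A_m` has `[a₂, b] = b₂`; so `b b₂ ∈ A_{a₁ m} ∩ A_{a₂ l}`, hence `a₂ l ∈ F a₁ m ≤ Ebar_m` and `l ∈ Ebar_m`.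
-/

set_option autoImplicit false
set_option linter.unusedSectionVars false

namespace Cfsg.Agent.Omega.NO3S.OneQ.Sg

open TIq (NP)

variable {F M H : Type*} [Field F] [AddCommGroup M] [Module F M] [Group H] [DistribMulAction H M] {L : Set M}
    {A : M → Subgroup H} {I : M → Submodule F M} {al : M → M → H}

namespace Pre

variable (G : Pre F L A I al)
include G

/-- the half `[a₁, α_m(l)] = α_l(m)` -/
theorem dx_half (ti : ∀ {l m : M} {a : H}, l ∈ L → m ∈ L → a ∈ A l → a ∈ A m → a ≠ 1 → ∃ c : F, m = c • l)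
    {l m : M} (hl : l ∈ L) (hm : m ∈ L) (h1 : al l m ≠ 1) (k2 : al m l • l = l)
    (h2 : al m l ≠ 1) (n1 : ∀ a ∈ A l, al m (a • m + m) = 1)
    (s1 : ∀ y, al l y • m = m → ∃ f g : F, ¬ (f = 0 ∧ g = 0) ∧ al l (f • y + g • m) = 1) :
    ∃ a ∈ A l, a * al m l * a⁻¹ = al l m * al m l := by
  have hb2 := G.al_mem hm l
  have hb2m : al m l • m = m := G.fix hm hb2 (G.self hm)
  -- `[α_l(x), b₂] = α_l(b₂ x + x)`
  have e1 : ∀ x, al l x * al m l * (al l x)⁻¹ = al l (al m l • x + x) * al m l := by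
    intro x
    rw [G.al_add hl, G.al_conj hl k2, G.inv hl (G.al_mem hl x)]
    have h3 := G.A_comm hl (G.al_mem hl x) (G.al_conj hl k2 x ▸ G.al_mem hl (al m l • x) :
      al m l * al l x * (al m l)⁻¹ ∈ A l)
    rw [← h3]
    group
  -- it fixes `m`
  have e2 : ∀ x, al l (al m l • x + x) • m = m := by
    intro x
    have hx := G.al_mem hl x
    obtain ⟨t, ht⟩ := (G.al_ker hm _).1 (n1 _ hx) _ hb2
    have h3 : al m l • al l x • m = al l x • m + t • m := by
      have h4 : al l x • m = m + (al l x • m + m) := by rw [add_comm (al l x • m), G.two_left]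
      calc al m l • al l x • m = al m l • (m + (al l x • m + m)) := by rw [← h4]
        _ = m + (al l x • m + m + t • m) := by rw [smul_add, hb2m, ht]
        _ = (m + (al l x • m + m)) + t • m := by rw [add_assoc m]
        _ = al l x • m + t • m := by rw [← h4]
    have h5 : al l (al m l • x + x) = al l x * al m l * (al l x)⁻¹ * (al m l)⁻¹ := by
      rw [e1, mul_inv_cancel_right]
    have h6 : al l (al m l • x + x) • m = m + t • al l x • m := by
      have h7 : (al m l)⁻¹ • m = m := by rw [inv_smul_eq_iff, hb2m]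
      rw [h5, mul_smul, mul_smul, mul_smul, h7, G.inv hl hx, h3, smul_add, G.lin, ← mul_smul, G.sq hl hx, one_smul]
    have h8 := G.comm hl (G.al_mem hl (al m l • x + x)) m
    rw [h6] at h8
    have h9 : m + t • al l x • m + m = t • al l x • m := by
      rw [add_comm m, add_assoc, G.two, add_zero]
    rw [h9] at h8
    by_cases ht0 : t = 0
    · rw [h6, ht0, zero_smul, add_zero]
    · exfalso
      have h10 : al l x • m ∈ I l := by
        have := (I l).smul_mem t⁻¹ h8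
        rwa [smul_smul, inv_mul_cancel₀ ht0, one_smul] at this
      have h11 := G.fix hl hx h10
      rw [← mul_smul, G.sq hl hx, one_smul] at h11
      rw [← h11] at h10
      exact h1 (G.al_I_one hl h10)
  -- it is not always `1`
  obtain ⟨x, hx⟩ : ∃ x, al l (al m l • x + x) ≠ 1 := by
    by_contra hcon
    push Not at hcon
    refine h1 ((G.al_ker hl m).2 fun a ha => ?_)
    obtain ⟨x, rfl⟩ := G.al_surj hl ha
    have h3 := e1 x
    rw [hcon x, one_mul] at h3
    have h4 : al m l ∈ A (al l x • m) := by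
      have := G.A_conj (al l x) hm hb2
      rwa [h3] at this
    obtain ⟨c, hc⟩ := ti hm (G.smul (al l x) hm) hb2 h4 h2
    rw [G.fix_of_inv hm (G.sq hl ha) hc]
    exact ⟨0, by rw [zero_smul, add_zero]⟩
  obtain ⟨f, g, hfg, hz⟩ := s1 _ (e2 x)
  have hf : f ≠ 0 := by
    intro hf
    have hg : g ≠ 0 := fun hg => hfg ⟨hf, hg⟩
    rw [hf, zero_smul, zero_add] at hz
    have h3 := G.al_sm_one hl g⁻¹ hz
    rw [smul_smul, inv_mul_cancel₀ hg, one_smul] at h3
    exact h1 h3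
  have hg : g ≠ 0 := by
    intro hg
    rw [hg, zero_smul, add_zero] at hz
    have h3 := G.al_sm_one hl f⁻¹ hz
    rw [smul_smul, inv_mul_cancel₀ hf, one_smul] at h3
    exact hx h3
  refine ⟨al l ((g⁻¹ * f) • x), G.al_mem hl _, ?_⟩
  rw [e1]
  congr 1
  rw [G.al_congr hl, G.lin, ← smul_add]
  have h3 := G.al_sm_one hl g⁻¹ hz
  rwa [smul_add, smul_smul, smul_smul, inv_mul_cancel₀ hg, one_smul] at h3

/-- **the end of `D_x ≰ I`** -/
theorem dx_end (ti : ∀ {l m : M} {a : H}, l ∈ L → m ∈ L → a ∈ A l → a ∈ A m → a ≠ 1 → ∃ c : F, m = c • l)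
    {l m : M} (hl : l ∈ L) (hm : m ∈ L) (h1 : al l m ≠ 1) (h2 : al m l ≠ 1) (k1 : al l m • m = m) (k2 : al m l • l = l)
    (n1 : ∀ a ∈ A l, al m (a • m + m) = 1) (n2 : ∀ a ∈ A m, al l (a • l + l) = 1)
    (s1 : ∀ y, al l y • m = m → ∃ f g : F, ¬ (f = 0 ∧ g = 0) ∧ al l (f • y + g • m) = 1)
    (s2 : ∀ y, al m y • l = l → ∃ f g : F, ¬ (f = 0 ∧ g = 0) ∧ al m (f • y + g • l) = 1) : False := by
  obtain ⟨a, ha, ha'⟩ := G.dx_half ti hl hm h1 k2 h2 n1 s1
  obtain ⟨b, hb, hb'⟩ := G.dx_half ti hm hl h2 k1 h1 n2 s2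
  have hb2m : al m l • m = m := G.fix hm (G.al_mem hm l) (G.self hm)
  have hcomm : al l m * al m l = al m l * al l m := by
    have h3 := G.al_conj hl k2 m
    rw [hb2m, eq_mul_inv_iff_mul_eq] at h3
    exact h3
  have h3 : al l m * al m l ∈ A (a • m) := by
    rw [← ha']
    exact G.A_conj a hm (G.al_mem hm l)
  have h4 : al l m * al m l ∈ A (b • l) := by
    rw [hcomm, ← hb']
    exact G.A_conj b hl (G.al_mem hl m)
  have h5 : al l m * al m l ≠ 1 := by
    rw [← ha']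
    intro h6
    apply h2
    have h7 : al m l = a⁻¹ * (a * al m l * a⁻¹) * a := by group
    rw [h7, h6]; group
  obtain ⟨c, hc⟩ := ti (G.smul a hm) (G.smul b hl) h3 h4 h5
  -- `b l ∈ Ebar_m`
  have h6 : al m (a • m) = 1 := by
    have h7 : a • m = (a • m + m) + m := by rw [add_assoc, G.two, add_zero]
    rw [h7, G.al_add hm, n1 a ha, G.al_I_one hm (G.self hm), one_mul]
  have h7 : al m (b • l) = 1 := by
    rw [hc]
    exact G.al_sm_one hm c h6
  apply h2
  have h8 : l = b • l + (b • l + l) := by rw [G.two_left]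
  rw [h8, G.al_add hm, h7, G.al_I_one hm (G.comm hm hb l), one_mul]

end Pre

end Cfsg.Agent.Omega.NO3S.OneQ.Sg
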