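import Cfsg.Agent.Omega.NO3S.OneQ.Sg.Cop
import Cfsg.Agent.Omega.NO3S.OneQ.PlaneOf

/-!
# NO-3S, `OneQ`: LEMMA PLANE on `MF` (bb OMEGA #20317 (H), `k = 2`)

* `Co.ker_two` : `K_Z` is the stability group of `W_Z ≥ rd ≥ Z`;
* `Co.rp_eq_mem` : `a ∈ W_T`, `b ∈ W_Y`, `rp a = rp b` implies `b⁻¹ a ∈ K_Z`;
* **`Co.no_fold`** : One.no_fold on `MF`.
-/

set_option autoImplicit false
set_option linter.unusedSectionVars false

namespace Cfsg.Agent.Omega.NO3S.OneQ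

open Subgroup Cfsg Cfsg.Agent.Omega.NO3S.PT Cfsg.Agent.Omega.NoFF.Basic
open scoped Pointwise

universe u

variable {G : Type u} [Group G]

namespace Co

variable [Finite G] {F : Type*} [Field F] [CharP F 2] {S : Sylow 2 G} {B P V Z : Subgroup G} (h : Co F S B P V Z)

include h

/-- `K_Z` is the stability group of `W_Z ≥ rd ≥ Z` -/
theorem ker_two {g : G} (hg : g ∈ centralizer (Z : Set G)) (h1 : ∀ w ∈ ws V Z, g * w * g⁻¹ * w⁻¹ ∈ rd V Z)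
    (h2 : ∀ w ∈ rd V Z, g * w * g⁻¹ * w⁻¹ ∈ Z) : g ∈ kx V Z := by
  have hZN : ∀ {a : G}, a ∈ centralizer (Z : Set G) → a ∈ normalizer (Z : Set G) := fun ha =>
    centralizer_le_normalizer _ ha
  have hrd : ∀ {a x : G}, a ∈ centralizer (Z : Set G) → x ∈ rd V Z → a * x * a⁻¹ ∈ rd V Z := fun ha hx =>
    (mem_normalizer_iff.1 (norm_rd V Z (hZN ha)) _).1 hx
  have hW : ∀ {a x : G}, a ∈ centralizer (Z : Set G) → x ∈ ws V Z → a * x * a⁻¹ ∈ ws V Z := fun ha hx =>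
    h.W_conj (hZN ha) hx
  have hZc : ∀ {a x : G}, a ∈ centralizer (Z : Set G) → x ∈ Z → a * x * a⁻¹ = x := fun ha hx => by
    rw [← mem_centralizer_iff.1 ha _ hx, mul_inv_cancel_right]
  let N : Subgroup (centralizer (Z : Set G)) :=
    { carrier := {g | (∀ w ∈ ws V Z, (g : G) * w * (g : G)⁻¹ * w⁻¹ ∈ rd V Z) ∧
        ∀ w ∈ rd V Z, (g : G) * w * (g : G)⁻¹ * w⁻¹ ∈ Z}
      one_mem' := by
        refine ⟨fun w _ => ?_, fun w _ => ?_⟩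
        · have : ((1 : centralizer (Z : Set G)) : G) * w * ((1 : centralizer (Z : Set G)) : G)⁻¹ * w⁻¹ = 1 := by
            rw [Subgroup.coe_one]; group
          rw [this]; exact one_mem _
        · have : ((1 : centralizer (Z : Set G)) : G) * w * ((1 : centralizer (Z : Set G)) : G)⁻¹ * w⁻¹ = 1 := by
            rw [Subgroup.coe_one]; group
          rw [this]; exact one_mem _
      mul_mem' := by
        rintro a b ⟨ha, ha'⟩ ⟨hb, hb'⟩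
        have e : ∀ w : G, ((a * b : centralizer (Z : Set G)) : G) * w * ((a * b : centralizer (Z : Set G)) : G)⁻¹ * w⁻¹ =
            ((a : G) * ((b : G) * w * (b : G)⁻¹ * w⁻¹) * (a : G)⁻¹) * ((a : G) * w * (a : G)⁻¹ * w⁻¹) := by
          intro w
          rw [Subgroup.coe_mul]; group
        refine ⟨fun w hw => ?_, fun w hw => ?_⟩
        · rw [e]
          exact mul_mem (hrd a.2 (hb w hw)) (ha w hw)
        · rw [e, hZc a.2 (hb' w hw)]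
          exact mul_mem (hb' w hw) (ha' w hw)
      inv_mem' := by
        rintro a ⟨ha, ha'⟩
        have e : ∀ w : G, ((a⁻¹ : centralizer (Z : Set G)) : G) * w * ((a⁻¹ : centralizer (Z : Set G)) : G)⁻¹ * w⁻¹ =
            (a : G)⁻¹ * ((a : G) * w * (a : G)⁻¹ * w⁻¹)⁻¹ * (a : G)⁻¹⁻¹ := by
          intro w
          rw [Subgroup.coe_inv]; group
        refine ⟨fun w hw => ?_, fun w hw => ?_⟩
        · rw [e]
          exact hrd (inv_mem a.2) (inv_mem (ha w hw))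
        · rw [e, hZc (inv_mem a.2) (inv_mem (ha' w hw))]
          exact inv_mem (ha' w hw) }
  have hNn : N.Normal := by
    refine ⟨fun a ha c => ?_⟩
    obtain ⟨ha, ha'⟩ := ha
    have e : ∀ w : G, ((c * a * c⁻¹ : centralizer (Z : Set G)) : G) * w *
        ((c * a * c⁻¹ : centralizer (Z : Set G)) : G)⁻¹ * w⁻¹ =
        (c : G) * ((a : G) * ((c : G)⁻¹ * w * (c : G)⁻¹⁻¹) * (a : G)⁻¹ * ((c : G)⁻¹ * w * (c : G)⁻¹⁻¹)⁻¹) * (c : G)⁻¹ := by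
      intro w
      rw [Subgroup.coe_mul, Subgroup.coe_mul, Subgroup.coe_inv]; group
    refine ⟨fun w hw => ?_, fun w hw => ?_⟩
    · rw [e]
      exact hrd c.2 (ha _ (hW (inv_mem c.2) hw))
    · rw [e, hZc c.2 (ha' _ (hrd (inv_mem c.2) hw))]
      exact ha' _ (hrd (inv_mem c.2) hw)
  have hgN : (⟨g, hg⟩ : centralizer (Z : Set G)) ∈ N := ⟨h1, h2⟩
  let Γ : Subgroup (centralizer (Z : Set G)) :=
    (centralizer ((ws V Z : Subgroup G) : Set G)).subgroupOf (centralizer (Z : Set G))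
  have hΓn : Γ.Normal := by
    refine ⟨fun a ha c => ?_⟩
    rw [mem_subgroupOf] at ha ⊢
    rw [mem_centralizer_iff] at ha ⊢
    intro w hw
    have h3 := ha _ (hW (inv_mem c.2) hw)
    rw [Subgroup.coe_mul, Subgroup.coe_mul, Subgroup.coe_inv]
    calc w * ((c : G) * a * (c : G)⁻¹) = (c : G) * (((c : G)⁻¹ * w * (c : G)⁻¹⁻¹) * a) * (c : G)⁻¹ := by group
      _ = (c : G) * (a * ((c : G)⁻¹ * w * (c : G)⁻¹⁻¹)) * (c : G)⁻¹ := by rw [h3]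
      _ = (c : G) * a * (c : G)⁻¹ * w := by group
  have hcom : ∀ {a b : G}, a ∈ ws V Z → b ∈ ws V Z → a * b = b * a := fun ha hb => h.one.comm_W h.one.self.cj ha hb
  have hsq : ∀ {a : G}, a ∈ ws V Z → a * a = 1 := fun ha => h.one.W_sq h.one.self.cj ha
  have h4 : ∀ a ∈ N, a * a * (a * a) ∈ Γ := by
    rintro a ⟨ha, ha'⟩
    rw [mem_subgroupOf, mem_centralizer_iff]
    intro w hw
    obtain ⟨r, hr⟩ : ∃ r, r = (a : G) * w * (a : G)⁻¹ * w⁻¹ := ⟨_, rfl⟩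
    have hrr : r ∈ rd V Z := hr ▸ ha w hw
    obtain ⟨z, hz⟩ : ∃ z, z = (a : G) * r * (a : G)⁻¹ * r⁻¹ := ⟨_, rfl⟩
    have hzz : z ∈ Z := hz ▸ ha' r hrr
    have hrW := rd_le hrr
    have hzW : z ∈ ws V Z := rd_le (h.Z_le_rd hzz)
    have e1 : (a : G) * w * (a : G)⁻¹ = r * w := by rw [hr]; group
    have e2 : (a : G) * r * (a : G)⁻¹ = z * r := by rw [hz]; group
    have e3 : (a : G) * z * (a : G)⁻¹ = z := hZc a.2 hzz
    have e4 : (a : G) * ((a : G) * w * (a : G)⁻¹) * (a : G)⁻¹ = z * w := by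
      rw [e1]
      calc (a : G) * (r * w) * (a : G)⁻¹ = ((a : G) * r * (a : G)⁻¹) * ((a : G) * w * (a : G)⁻¹) := by group
        _ = z * (r * r) * w := by rw [e1, e2]; group
        _ = z * w := by rw [hsq hrW, mul_one]
    have e5 : (a : G) * ((a : G) * ((a : G) * ((a : G) * w * (a : G)⁻¹) * (a : G)⁻¹) * (a : G)⁻¹) * (a : G)⁻¹ = w := by
      rw [e4]
      calc (a : G) * ((a : G) * (z * w) * (a : G)⁻¹) * (a : G)⁻¹ =
          ((a : G) * ((a : G) * z * (a : G)⁻¹) * (a : G)⁻¹) * ((a : G) * ((a : G) * w * (a : G)⁻¹) * (a : G)⁻¹) := by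
            group
        _ = z * z * w := by rw [e3, e3, e4]; group
        _ = w := by rw [hsq hzW, one_mul]
    have e6 : ((a * a * (a * a) : centralizer (Z : Set G)) : G) * w * ((a * a * (a * a) : centralizer (Z : Set G)) : G)⁻¹ = w := by
      rw [Subgroup.coe_mul, Subgroup.coe_mul]
      refine Eq.trans ?_ e5
      group
    rw [mul_inv_eq_iff_eq_mul] at e6
    exact e6.symm
  have h5 : IsPGroup 2 (N.map (QuotientGroup.mk' Γ)) := by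
    rintro ⟨x, hx⟩
    obtain ⟨a, ha, rfl⟩ := mem_map.1 hx
    refine ⟨2, Subtype.ext ?_⟩
    have h6 : QuotientGroup.mk' Γ (a * a * (a * a)) = 1 := (QuotientGroup.eq_one_iff _).2 (h4 a ha)
    rw [map_mul, map_mul] at h6
    rw [SubmonoidClass.mk_pow, Subgroup.coe_one, ← h6]
    show (QuotientGroup.mk' Γ a) ^ (2 ^ 2) = _
    rw [show (2 : ℕ) ^ 2 = 2 + 2 by norm_num, pow_add, pow_two]
  have h6 : QuotientGroup.mk' Γ ⟨g, hg⟩ ∈ pCore 2 (centralizer (Z : Set G) ⧸ Γ) :=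
    Lib.Cores.le_pCore (hNn.map _ (QuotientGroup.mk'_surjective Γ)) h5 (mem_map_of_mem _ hgN)
  refine mem_kx.2 ⟨fun x hx => (mem_centralizer_iff.1 hg x hx).symm, ?_⟩
  let A : Subgroup G :=
    { carrier := {w | w ∈ ws V Z ∧ g * w * g⁻¹ * w⁻¹ ∈ Z}
      one_mem' := ⟨one_mem _, by
        have : g * 1 * g⁻¹ * (1 : G)⁻¹ = 1 := by group
        rw [this]; exact one_mem _⟩
      mul_mem' := by
        rintro u w ⟨hu, hu'⟩ ⟨hw, hw'⟩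
        refine ⟨mul_mem hu hw, ?_⟩
        have e1 : g * (u * w) * g⁻¹ * (u * w)⁻¹ = (g * u * g⁻¹ * u⁻¹) * (u * (g * w * g⁻¹ * w⁻¹) * u⁻¹) := by group
        rw [e1, hcom hu (rd_le (h.Z_le_rd hw')), mul_inv_cancel_right]
        exact mul_mem hu' hw'
      inv_mem' := by
        rintro u ⟨hu, hu'⟩
        refine ⟨inv_mem hu, ?_⟩
        have e1 : g * u⁻¹ * g⁻¹ * u⁻¹⁻¹ = u⁻¹ * ((g * u * g⁻¹ * u⁻¹)⁻¹ * u) := by group
        rw [e1, hcom (rd_le (h.Z_le_rd (inv_mem hu'))) hu, inv_mul_cancel_left]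
        exact inv_mem hu' }
  have hA : ws V Z ≤ A := by
    refine ws_le fun M hM hZM v hv => ⟨h.one.line_le_ws hM hZM hv, ?_⟩
    obtain ⟨S', C', Q', h'⟩ := h.one.flag hM h.one.self.cj hZM
    exact h'.act_of_pCore Γ (fun γ hγ => centralizer_le (h.one.line_le_ws hM hZM) hγ) h6 hv
  exact fun w hw => (hA hw).2

/-- `[W_Y, rd] ≤ Z` -/
theorem rd_comm' {Y : Subgroup G} (hY : Pnt V Z Y) (hYZ : Y ≠ Z) {c a d : G} (hc : c ∈ centralizer (Z : Set G))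
    (ha : a ∈ ws V Y) (hd : d ∈ rd V Z) : c * a * c⁻¹ * d * (c * a * c⁻¹)⁻¹ * d⁻¹ ∈ Z := by
  have h1 : c⁻¹ * d * c⁻¹⁻¹ ∈ rd V Z :=
    (mem_normalizer_iff.1 (norm_rd V Z (centralizer_le_normalizer _ (inv_mem hc))) _).1 hd
  have h2 := inv_mem (h.rd_comm hY hYZ h1 ha)
  have h3 : c * (c⁻¹ * d * c⁻¹⁻¹ * a * (c⁻¹ * d * c⁻¹⁻¹)⁻¹ * a⁻¹)⁻¹ * c⁻¹ ∈ Z := by
    rw [← mem_centralizer_iff.1 hc _ h2, mul_inv_cancel_right]
    exact h2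
  have e : c * (c⁻¹ * d * c⁻¹⁻¹ * a * (c⁻¹ * d * c⁻¹⁻¹)⁻¹ * a⁻¹)⁻¹ * c⁻¹ = c * a * c⁻¹ * d * (c * a * c⁻¹)⁻¹ * d⁻¹ := by group
  rwa [e] at h3

/-- the kernel of `rp`: `a ∈ W_Y`, `b ∈ W_{Y'}` with `rp (c a c⁻¹) = rp b` -/
theorem rp_eq_mem {Y Y' : Subgroup G} (hY : Pnt V Z Y) (hYZ : Y ≠ Z) (hY' : Pnt V Z Y') (hYZ' : Y' ≠ Z) {c a b : G}
    (hc : c ∈ centralizer (Z : Set G)) (ha : a ∈ ws V Y) (hb : b ∈ ws V Y')
    (e : h.rp ⟨c, h.C_le_hat hc⟩ * h.rp ⟨a, h.W_hat hY ha⟩ * h.rp ⟨c⁻¹, h.C_le_hat (inv_mem hc)⟩ =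
      h.rp ⟨b, h.W_hat hY' hb⟩) : b⁻¹ * (c * a * c⁻¹) ∈ kx V Z := by
  have haC := h.one.W_le_C hY ha
  have hbC := h.one.W_le_C hY' hb
  have hgC : c * a * c⁻¹ ∈ centralizer (Z : Set G) := mul_mem (mul_mem hc haC) (inv_mem hc)
  have e' : h.rp ⟨c * a * c⁻¹, h.C_le_hat hgC⟩ = h.rp ⟨b, h.C_le_hat hbC⟩ := by
    rw [← map_mul, ← map_mul] at e
    exact e
  refine h.ker_two (mul_mem (inv_mem hbC) hgC) (fun w hw => ?_) (fun w hw => ?_)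
  · have e1 : h.rp ⟨c * a * c⁻¹, h.C_le_hat hgC⟩ (h.fm ⟨w, hw⟩) = _ := h.rp_fm' (h.C_le_hat hgC) hw
    have e2 : h.rp ⟨b, h.C_le_hat hbC⟩ (h.fm ⟨w, hw⟩) = _ := h.rp_fm' (h.C_le_hat hbC) hw
    rw [e', e2, h.fm_eq] at e1
    have h3 := inv_mem e1
    have h4 := (mem_normalizer_iff.1 (norm_rd V Z (centralizer_le_normalizer _ (inv_mem hbC))) _).1 h3
    have e3 : b⁻¹ * (b * w * b⁻¹ * (c * a * c⁻¹ * w * (c * a * c⁻¹)⁻¹)⁻¹)⁻¹ * b⁻¹⁻¹ =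
        b⁻¹ * (c * a * c⁻¹) * w * (b⁻¹ * (c * a * c⁻¹))⁻¹ * w⁻¹ := by group
    rwa [e3] at h4
  · have h1 := h.rd_comm' hY hYZ hc ha hw
    have h2 := h.rd_comm' hY' hYZ' (one_mem _) (inv_mem hb) hw
    have e1 : (1 : G) * b⁻¹ * (1 : G)⁻¹ * w * ((1 : G) * b⁻¹ * (1 : G)⁻¹)⁻¹ * w⁻¹ = b⁻¹ * w * b * w⁻¹ := by group
    rw [e1] at h2
    have h3 : b⁻¹ * (c * a * c⁻¹ * w * (c * a * c⁻¹)⁻¹ * w⁻¹) * b = c * a * c⁻¹ * w * (c * a * c⁻¹)⁻¹ * w⁻¹ := by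
      have := mem_centralizer_iff.1 (inv_mem hbC) _ h1
      calc b⁻¹ * (c * a * c⁻¹ * w * (c * a * c⁻¹)⁻¹ * w⁻¹) * b =
          (c * a * c⁻¹ * w * (c * a * c⁻¹)⁻¹ * w⁻¹) * b⁻¹ * b := by rw [this]
        _ = _ := inv_mul_cancel_right _ _
    have e2 : b⁻¹ * (c * a * c⁻¹) * w * (b⁻¹ * (c * a * c⁻¹))⁻¹ * w⁻¹ =
        b⁻¹ * (c * a * c⁻¹ * w * (c * a * c⁻¹)⁻¹ * w⁻¹) * b * (b⁻¹ * w * b * w⁻¹) := by group
    rw [e2, h3]
    exact mul_mem h1 h2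

/-- **LEMMA PLANE on `MF`** : the field `fold` of `Sg.SgB.ti_main` at `l = v₀`, `m = c v₀` -/
theorem no_fold_MF (hN : NN V Z) {c : G} (hc : c ∈ centralizer (Z : Set G)) (hcV : PT.cj c V ≠ V)
    (hcI : PT.cj c V ≤ IV V Z)
    (hA : ∀ a (ha : a ∈ ws V h.Yp), ∃ b, ∃ hb : b ∈ ws V h.Yp,
      h.rp ⟨c, h.C_le_hat hc⟩ * h.rp ⟨a, h.W_hat h.pY ha⟩ * h.rp ⟨c⁻¹, h.C_le_hat (inv_mem hc)⟩ =
        h.rp ⟨b, h.W_hat h.pY hb⟩)
    (hE : ∀ m : h.MF, ∃ u ∈ h.Eb, ∃ v ∈ h.Eb, m = u + h.rp ⟨c, h.C_le_hat hc⟩ v) : False := by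
  have hT : NTr V Z := NTr.of_nn h.one hN
  have hcZ : PT.cj c Z = Z := cj_eq_iff.2 (centralizer_le_normalizer _ hc)
  have hZL : Z ≤ PT.cj c V := by rw [← hcZ]; exact cj_le_cj.2 h.one.pl.ZV
  refine h.one.no_fold hN (L := PT.cj c V) (Y := h.Yp) (T := PT.cj c h.Yp) ⟨c, rfl⟩ hZL hcV hcI h.pY h.Yp_ne
    (h.pY.cj.cj c) (cj_le_cj.2 h.pY.le) (fun e => h.Yp_ne (cj_inj.1 (e.trans hcZ.symm))) ?_ ?_
  · intro t ht
    rw [ws_cj, mem_cj] at ht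
    obtain ⟨b, hb, e⟩ := hA _ ht
    have h1 := h.rp_eq_mem h.pY h.Yp_ne h.pY h.Yp_ne hc ht hb e
    have e1 : t = b * (b⁻¹ * (c * (c⁻¹ * t * c) * c⁻¹)) := by group
    rw [e1]
    exact mul_mem (mem_sup_left hb) (mem_sup_right h1)
  · intro w hw
    obtain ⟨u, hu, v, hv, e⟩ := hE (h.fm ⟨w, hw⟩)
    obtain ⟨w₁, rfl⟩ := h.fm_surj u
    obtain ⟨w₂, rfl⟩ := h.fm_surj v
    have k1 := (h.fm_Eb_iff hT).1 hu
    have k2 := (h.fm_Eb_iff hT).1 hv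
    have e1 : h.rp ⟨c, h.C_le_hat hc⟩ (h.fm w₂) = _ := h.rp_fm' (h.C_le_hat hc) w₂.2
    rw [e1, ← h.fm_mul] at e
    have k3 : c * (w₂ : G) * c⁻¹ ∈ ee (PT.cj c V) Z Z := by
      have := conj_mem_cj (g := c) k2
      rwa [cj_conj_ee, hcZ] at this
    have k4 : w * ((w₁ : G) * (c * (w₂ : G) * c⁻¹))⁻¹ ∈ rd V Z :=
      (h.fm_eq hw (mul_mem w₁.2 (h.W_conj (h.hat_norm (h.C_le_hat hc)) w₂.2))).1 e
    have k5 := h.rd_le_ee hT k4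
    have e2 : w = w * ((w₁ : G) * (c * (w₂ : G) * c⁻¹))⁻¹ * w₁ * (c * (w₂ : G) * c⁻¹) := by group
    rw [e2]
    exact mul_mem (mem_sup_left (mul_mem k5 k1)) (mem_sup_right k3)

end Co

end Cfsg.Agent.Omega.NO3S.OneQ
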