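import Cfsg.Agent.Omega.NO3S.OneQ.StarA
import Cfsg.Agent.Omega.NO3S.OneQ.Dual
import Cfsg.Agent.Omega.NO3S.OneQ.Alf

/-!
# NO-3S, `OneSz` (`q ≥ 4`, `n = 1`), case (N), `k ≥ 2`: J at the group level (bb OMEGA #20317 (C), #20578 (3))

`V`, `M` lines on `Z`, `Y ≠ Z` a point of `V`, `Q ≠ Z` a point of `M`.

* `One.jay_core` : `e ∈ E_Q(M)` moves `Y`, `w ∈ W_Y`, `e_y ∈ E_Y(V)`, `[w, e] e_y` centralises `Q`; then
  `j := [[w, e] e_y, e] ∈ I_M` acts on `W_Y` as `e_y^e`;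
* **`Co.jay`** : for an S-pair, `w ∈ W_Y`, `v ∈ Q`, `[w, v] ∉ E_Z(M)`, `dim MF / Ē ≥ 2` there is `j ∈ I_M ∩ E_Z(V)`
  with `[j, w] = 1` and `[j, W_Y] ≠ 1`.
-/

set_option autoImplicit false
set_option linter.unusedSectionVars false

namespace Cfsg.Agent.Omega.NO3S.OneQ

open Subgroup Cfsg.Agent.Omega.NO3S.PT Cfsg.Agent.Omega.NoFF.Basic
open scoped Pointwise

variable {G : Type*} [Group G]

namespace One

variable [Finite G] {S : Sylow 2 G} {B P V Z : Subgroup G} (h : One S B P V Z)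
include h

/-- two elements outside `E_X(L)` are moved by one `e ∈ E_Y(L)` -/
theorem exists_mov2 (hN : w1 V Z Z ≤ ee V Z Z) {L X Y : Subgroup G} (hL : IsCj V L) (hX : IsCj Z X) (hXL : X ≤ L)
    (hY : IsCj Z Y) (hYL : Y ≤ L) (hne : Y ≠ X) {v u : G} (hv : v ∈ ws V X) (hvE : v ∉ ee L Z X) (hu : u ∈ ws V X)
    (huE : u ∉ ee L Z X) :
    ∃ e ∈ ee L Z Y, e ∈ ws V Y ∧ e ∈ kx V X ∧ e * v ≠ v * e ∧ e * u ≠ u * e := by
  obtain ⟨e1, he1, hw1, hk1, hv1⟩ := h.exists_mov hN hL hX hXL hY hYL hne hv hvE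
  obtain ⟨e2, he2, hw2, hk2, hu2⟩ := h.exists_mov hN hL hX hXL hY hYL hne hu huE
  by_cases hu1 : e1 * u = u * e1
  · by_cases hv2 : e2 * v = v * e2
    · refine ⟨e1 * e2, mul_mem he1 he2, mul_mem hw1 hw2, mul_mem hk1 hk2, fun hcon => hv1 ?_, fun hcon => hu2 ?_⟩
      · have h1 : e1 = (e1 * e2) * e2⁻¹ := by group
        have h2 : e2⁻¹ * v = v * e2⁻¹ := by
          rw [inv_mul_eq_iff_eq_mul, ← mul_assoc, hv2, mul_inv_cancel_right]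
        rw [h1, mul_assoc, h2, ← mul_assoc, hcon, mul_assoc]
      · have h1 : e2 = e1⁻¹ * (e1 * e2) := by group
        have h2 : e1⁻¹ * u = u * e1⁻¹ := by
          rw [inv_mul_eq_iff_eq_mul, ← mul_assoc, hu1, mul_inv_cancel_right]
        rw [h1, mul_assoc, hcon, ← mul_assoc, h2, mul_assoc]
    · exact ⟨e2, he2, hw2, hk2, hv2, hu2⟩
  · exact ⟨e1, he1, hw1, hk1, hv1, hu1⟩

/-- `j := [[w, e] e_y, e]` -/
theorem jay_core {M Y Q : Subgroup G} (hM : IsCj V M) (hZM : Z ≤ M) (hY : Pnt V Z Y) (hYZ : Y ≠ Z) (hQ : IsCj Z Q)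
    (hQM : Q ≤ M) (hQZ : Q ≠ Z) {w e ey g : G} (hw : w ∈ ws V Y) (he : e ∈ ws V Q) (heZ : e ∈ kx V Z)
    (heY : PT.cj e Y ≠ Y) (hey : ey ∈ ee V Z Y) (hg : g ∈ ee V Z Y) (hgQ : PT.cj g Q ≠ Q) (hgZ : g ∈ kx V Z)
    (hc : ∀ q ∈ Q, (w * e * w⁻¹ * e⁻¹ * ey) * q = q * (w * e * w⁻¹ * e⁻¹ * ey)) :
    ∃ j ∈ IV M Z, j ∈ ws V Z ∧ ∀ u ∈ ws V Y, j * u * j⁻¹ * u⁻¹ = (e * ey * e⁻¹) * u * (e * ey * e⁻¹)⁻¹ * u⁻¹ := by
  have hZ := h.self
  have hwi : w⁻¹ = w := h.W_inv hY.cj hw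
  have hei : e⁻¹ = e := h.W_inv hQ he
  have heyW : ey ∈ ws V Y := hey.1
  have heyi : ey⁻¹ = ey := h.W_inv hY.cj heyW
  have hee : e * e = 1 := h.W_sq hQ he
  have hww : w * w = 1 := h.W_sq hY.cj hw
  have heN : e ∈ normalizer (V : Set G) := h.K_norm hZ heZ
  have heYP : Pnt V Z (PT.cj e Y) := ⟨hY.cj.cj e, by
    have := cj_le_cj (g := e) |>.2 hY.le
    rwa [cj_eq_iff.2 heN] at this⟩
  set g1 := w * e * w⁻¹ * e⁻¹ * ey with hg1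
  set E := e * ey * e⁻¹ with hE
  have hEE : E ∈ ee V Z (PT.cj e Y) := by
    rw [← cj_ee heN]
    exact conj_mem_cj hey
  -- `κ² = [w, w^e]`
  set κ := w * e * w⁻¹ * e⁻¹ with hκ
  have hk2 : κ * κ = w * (e * w * e⁻¹) * w⁻¹ * (e * w * e⁻¹)⁻¹ := by
    rw [hκ]
    calc w * e * w⁻¹ * e⁻¹ * (w * e * w⁻¹ * e⁻¹) = w * e * w⁻¹ * e⁻¹ * w * e * w⁻¹ * e⁻¹ := by group
      _ = w * e * w * e⁻¹ * w⁻¹ * e * w⁻¹ * e⁻¹ := by rw [hwi]
      _ = _ := by group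
  have hk2I : κ * κ ∈ IV V Z := by
    rw [hk2]
    exact h.comm_mem hY heYP (Ne.symm heY) hw (by rw [ws_cj]; exact conj_mem_cj hw)
  have hk2W : κ * κ ∈ ws V Y := h.I_le_W hY hk2I
  -- `κ^e = κ⁻¹`
  have hke : e * κ * e⁻¹ = κ⁻¹ := by
    rw [hκ]
    calc e * (w * e * w⁻¹ * e⁻¹) * e⁻¹ = e * w * e * w⁻¹ * (e * e)⁻¹ := by group
      _ = e * w * e⁻¹ * w⁻¹ := by rw [hee, inv_one, mul_one, hei]
      _ = _ := by group
  set j := g1⁻¹ * e * g1 * e⁻¹ with hj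
  have hjeq : j = ey * (κ * κ)⁻¹ * E := by
    have h1 : j = ey⁻¹ * κ⁻¹ * (e * κ * e⁻¹) * (e * ey * e⁻¹) := by
      rw [hj, hg1]; group
    rw [h1, hke, heyi, ← hE]
    group
  -- `j ∈ W_Q`
  have hg1N : g1⁻¹ ∈ normalizer ((ws V Q : Subgroup G) : Set G) := by
    refine inv_mem (normalizer_le_ws V Q (centralizer_le_normalizer _ ?_))
    exact mem_centralizer_iff.2 fun q hq => (hc q hq).symm
  have hjQ : j ∈ ws V Q := by
    have h1 := (mem_normalizer_iff.1 hg1N e).1 he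
    rw [inv_inv] at h1
    exact (ws V Q).mul_mem h1 ((ws V Q).inv_mem he)
  -- `j` commutes with `g`
  have hgj : g * j = j * g := by
    have h1 : g * ey = ey * g := h.comm_W hY.cj hg.1 heyW
    have h2 : g * (κ * κ)⁻¹ = (κ * κ)⁻¹ * g := h.comm_W hY.cj hg.1 (inv_mem hk2W)
    have h3 : g * E = E * g := h.ee_comm hY heYP (Ne.symm heY) hg hEE
    rw [hjeq]
    calc g * (ey * (κ * κ)⁻¹ * E) = (g * ey) * (κ * κ)⁻¹ * E := by group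
      _ = ey * (g * (κ * κ)⁻¹) * E := by rw [h1]; group
      _ = ey * (κ * κ)⁻¹ * (g * E) := by rw [h2]; group
      _ = ey * (κ * κ)⁻¹ * E * g := by rw [h3]; group
  have hjI : j ∈ IV M Z := h.mem_I_of_comm hM hZ.cj hZM hQ hQM hgZ hgQ hjQ hgj
  have hjZ : j ∈ ws V Z := by
    rw [← h.IV_line hM hZ.cj hZM hQ hQM (Ne.symm hQZ)] at hjI
    exact hjI.1
  refine ⟨j, hjI, hjZ, fun u hu => ?_⟩
  have hrW : ey * (κ * κ)⁻¹ ∈ ws V Y := mul_mem heyW (inv_mem hk2W)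
  have hEu : E * u * E⁻¹ * u⁻¹ ∈ ws V Y := by
    have h1 : E * u * E⁻¹ * u⁻¹ ∈ Y := h.ee_act hY (Ne.symm heY) hEE hu
    exact h.V_le_W hY (hY.le h1)
  have h1 : (ey * (κ * κ)⁻¹) * (E * u * E⁻¹ * u⁻¹) = (E * u * E⁻¹ * u⁻¹) * (ey * (κ * κ)⁻¹) :=
    h.comm_W hY.cj hrW hEu
  have h2 : (ey * (κ * κ)⁻¹) * u = u * (ey * (κ * κ)⁻¹) := h.comm_W hY.cj hrW hu
  rw [hjeq]
  set r := ey * (κ * κ)⁻¹ with hr
  calc r * E * u * (r * E)⁻¹ * u⁻¹ = r * (E * u * E⁻¹ * u⁻¹) * u * r⁻¹ * u⁻¹ := by group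
    _ = (E * u * E⁻¹ * u⁻¹) * (r * u) * r⁻¹ * u⁻¹ := by rw [h1]; group
    _ = E * u * E⁻¹ * u⁻¹ := by rw [h2]; group

end One

/-- functionals which kill `E` -/
theorem exists_functional {F M : Type*} [Field F] [AddCommGroup M] [Module F M] {E : Submodule F M} {v w : M}
    (hv : v ∉ E) (hk : ∃ x : M, ∀ c : F, x + c • v ∉ E) (s : F) :
    (∃ f : M →ₗ[F] F, (∀ x ∈ E, f x = 0) ∧ f v = 0 ∧ f w = 0 ∧ ∃ x, f x ≠ 0) ∨
      ∃ f : M →ₗ[F] F, (∀ x ∈ E, f x = 0) ∧ f v = s ∧ f w = 0 := by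
  by_cases hw : w ∈ E ⊔ Submodule.span F {v}
  · left
    obtain ⟨x, hx⟩ := hk
    have hx' : x ∉ E ⊔ Submodule.span F {v} := by
      intro h1
      obtain ⟨e, he, y, hy, rfl⟩ := Submodule.mem_sup.1 h1
      obtain ⟨c, rfl⟩ := Submodule.mem_span_singleton.1 hy
      apply hx (-c)
      rw [neg_smul, add_neg_cancel_right]
      exact he
    obtain ⟨f, hf, hf'⟩ := Submodule.exists_le_ker_of_notMem hx'
    exact ⟨f, fun y hy => LinearMap.mem_ker.1 (hf' (Submodule.mem_sup_left hy)),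
      LinearMap.mem_ker.1 (hf' (Submodule.mem_sup_right (Submodule.mem_span_singleton_self v))),
      LinearMap.mem_ker.1 (hf' hw), x, hf⟩
  · right
    have hv' : v ∉ E ⊔ Submodule.span F {w} := by
      intro h1
      obtain ⟨e, he, y, hy, hev⟩ := Submodule.mem_sup.1 h1
      obtain ⟨c, rfl⟩ := Submodule.mem_span_singleton.1 hy
      by_cases hc : c = 0
      · rw [hc, zero_smul, add_zero] at hev
        exact hv (hev ▸ he)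
      · apply hw
        have h2 : w = -(c⁻¹ • e) + c⁻¹ • v := by
          rw [← hev, smul_add, smul_smul, inv_mul_cancel₀ hc, one_smul, neg_add_cancel_left]
        rw [h2]
        exact Submodule.add_mem_sup (E.neg_mem (E.smul_mem _ he))
          (Submodule.smul_mem _ _ (Submodule.mem_span_singleton_self v))
    obtain ⟨f, hf, hf'⟩ := Submodule.exists_le_ker_of_notMem hv'
    refine ⟨(s * (f v)⁻¹) • f, fun y hy => ?_, ?_, ?_⟩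
    · rw [LinearMap.smul_apply, LinearMap.mem_ker.1 (hf' (Submodule.mem_sup_left hy)), smul_zero]
    · rw [LinearMap.smul_apply, smul_eq_mul, mul_assoc, inv_mul_cancel₀ hf, mul_one]
    · rw [LinearMap.smul_apply,
        LinearMap.mem_ker.1 (hf' (Submodule.mem_sup_right (Submodule.mem_span_singleton_self w))), smul_zero]

namespace Co

variable [Finite G] {F : Type*} [Field F] [CharP F 2] {S : Sylow 2 G} {B P V Z : Subgroup G} (h : Co F S B P V Z)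
include h

/-- `C_{W_Z}(E_Y) = E_Z` in case (N) -/
theorem w1_le_ee_ntr [Finite F] (hT : NTr V Z) : w1 V Z Z ≤ ee V Z Z := by
  intro w hw
  by_contra hwE
  have hwW := (mem_w1.1 hw).1
  have h1 : h.fm ⟨w, hwW⟩ ∉ h.Eb := fun h2 => hwE ((h.fm_Eb_iff hT).1 h2)
  obtain ⟨f, hf, hf'⟩ := Submodule.exists_le_ker_of_notMem h1
  obtain ⟨e, he, hfe⟩ := h.dual_N h.pY h.Yp_ne (hT _ h.pY h.Yp_ne) f
    fun x hx => LinearMap.mem_ker.1 (hf' (h.fm_Eb (w := ⟨x, ee_le hx⟩) hx))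
  apply hf
  rw [hfe, h.fn_eq_zero hwW (h.ee_le_kx h.Yp_ne he)]
  exact mem_centralizer_iff.1 ((mem_w1.1 hw).2 _ h.pY h.Yp_ne) e he

/-- **J**, group level -/
theorem jay [Finite F] (hT : NTr V Z) {M Y Q : Subgroup G} (s : SP V Z V M Z Y Q) {w v : G} (hw : w ∈ ws V Y)
    (hv : v ∈ Q) (hvm : w * v * w⁻¹ * v⁻¹ ∉ ee M Z Z) (hk : ∀ m : h.MF, ∃ x : h.MF, ∀ c : F, x + c • m ∉ h.Eb) :
    ∃ j ∈ IV M Z, j ∈ ee V Z Z ∧ w * j = j * w ∧ ∃ b ∈ ws V Y, b * j ≠ j * b := by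
  have hN := h.w1_le_ee_ntr hT
  have hZ := h.one.self
  have hY : Pnt V Z Y := ⟨s.hY, s.hYL⟩
  have hYZ : Y ≠ Z := s.hYX
  have hvW : v ∈ ws V Z := h.one.line_le_ws s.hM s.hXM (s.hQM hv)
  have hwC : w ∈ centralizer (Z : Set G) := h.one.W_le_C hY hw
  have hwN : w ∈ normalizer ((ws V Z : Subgroup G) : Set G) := normalizer_le_ws V Z (centralizer_le_normalizer _ hwC)
  have hwi : w⁻¹ = w := h.one.W_inv hY.cj hw
  have hcW : w * v * w⁻¹ * v⁻¹ ∈ ws V Z := (ws V Z).mul_mem ((mem_normalizer_iff.1 hwN v).1 hvW) ((ws V Z).inv_mem hvW)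
  obtain ⟨y, hy, hyE⟩ := s.s2
  have hyW : y ∈ ws V Z := h.one.line_le_ws s.hL s.hXL (s.hYL hy)
  obtain ⟨e, heE, heW, heZ, hec, hey⟩ := h.one.exists_mov2 hN s.hM s.hX s.hXM s.hQ s.hQM s.hQX hcW hvm hyW hyE
  have heY : PT.cj e Y ≠ Y := h.one.cj_ne s.hL s.hX s.hXL s.hY s.hYL s.hYX heZ hy hey
  have hei : e⁻¹ = e := h.one.W_inv s.hQ heW
  have heN : e ∈ normalizer (V : Set G) := h.one.K_norm hZ heZ
  -- an element of `E_Y` moving `Q`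
  obtain ⟨q, hq, hqE⟩ := s.s1
  obtain ⟨g, hg, -, hgZ, hgq⟩ := h.one.exists_mov hN s.hL s.hX s.hXL s.hY s.hYL s.hYX
    (h.one.line_le_ws s.hM s.hXM (s.hQM hq)) hqE
  have hgQ : PT.cj g Q ≠ Q := h.one.cj_ne s.hM s.hX s.hXM s.hQ s.hQM s.hQX hgZ hq hgq
  have hv1 : v ≠ 1 := by
    rintro rfl
    apply hvm
    simp
  have hvE : h.fm ⟨v, hvW⟩ ∉ h.Eb := by
    intro h1
    have h2 := (h.fm_Eb_iff hT).1 h1
    exact hqE (h.one.le_ee_of hN s.hL s.hM s.hX s.hXL s.hXM s.hY s.hYL s.hYX s.hQ s.hQM s.hQX hv hv1 h2 (s.hQM hq))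
  -- `k` maps `Y^e` to `Z`
  have hYe : PT.cj e⁻¹ Y ≤ V := by
    have := cj_le_cj (g := e⁻¹) |>.2 hY.le
    rwa [cj_eq_iff.2 (inv_mem heN)] at this
  have hYe' : PT.cj e⁻¹ Y ≠ Y := by rw [hei]; exact heY
  obtain ⟨k, hk1, hk2⟩ := h.one.move hY (⟨hY.cj.cj e⁻¹, hYe⟩ : Pnt V Z (PT.cj e⁻¹ Y)) hZ hYe' (Ne.symm hYZ)
  have hkW : ∀ u ∈ ws V Y, k * (e⁻¹ * u * e) * k⁻¹ ∈ ws V Z := by
    intro u hu
    rw [← hk2, ws_cj, ws_cj]
    have h1 := conj_mem_cj (g := k) (conj_mem_cj (g := e⁻¹) hu)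
    rwa [inv_inv] at h1
  -- the action of `e_y^e` on `W_Y`
  have key : ∀ ey ∈ ee V Z Y, ∀ u (hu : u ∈ ws V Y),
      ((e * ey * e⁻¹) * u = u * (e * ey * e⁻¹) ↔ h.fn (k * (e⁻¹ * u * e) * k⁻¹) ey = 0) := by
    intro ey hey u hu
    have heyZ : ey ∈ kx V Z := h.ee_le_kx hYZ hey
    rw [h.fn_eq_zero (hkW u hu) heyZ]
    have hy0 : k * ey * k⁻¹ * ey⁻¹ ∈ Y := (mem_kx.1 hk1).2 ey hey.1
    have hcomm : ∀ x ∈ ws V Z, (k * ey * k⁻¹ * ey⁻¹) * x = x * (k * ey * k⁻¹ * ey⁻¹) := fun x hx =>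
      (h.one.cent_V (h.one.W_le_cent hZ hx) (hY.le hy0)).symm
    set u'' := k * (e⁻¹ * u * e) * k⁻¹ with hu''
    have h1 := hcomm u'' (hkW u hu)
    have h2 : ey = (k * ey * k⁻¹ * ey⁻¹)⁻¹ * (k * ey * k⁻¹) := by group
    have hu3 : u = e * (k⁻¹ * u'' * k) * e⁻¹ := by rw [hu'']; group
    constructor
    · intro h3
      have h4 : (k * ey * k⁻¹) * u'' = u'' * (k * ey * k⁻¹) := by
        calc (k * ey * k⁻¹) * u'' = k * e⁻¹ * ((e * ey * e⁻¹) * u) * e * k⁻¹ := by rw [hu'']; group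
          _ = k * e⁻¹ * (u * (e * ey * e⁻¹)) * e * k⁻¹ := by rw [h3]
          _ = u'' * (k * ey * k⁻¹) := by rw [hu'']; group
      have h5 : (k * ey * k⁻¹ * ey⁻¹)⁻¹ * u'' = u'' * (k * ey * k⁻¹ * ey⁻¹)⁻¹ := by
        rw [inv_mul_eq_iff_eq_mul, ← mul_assoc, h1, mul_inv_cancel_right]
      rw [h2, mul_assoc, h4, ← mul_assoc, h5, mul_assoc]
    · intro h3
      have h4 : (k * ey * k⁻¹) * u'' = u'' * (k * ey * k⁻¹) := by
        have h5 : k * ey * k⁻¹ = (k * ey * k⁻¹ * ey⁻¹) * ey := by group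
        rw [h5, mul_assoc, h3, ← mul_assoc, h1, mul_assoc]
      rw [hu3]
      calc e * ey * e⁻¹ * (e * (k⁻¹ * u'' * k) * e⁻¹) = e * k⁻¹ * ((k * ey * k⁻¹) * u'') * k * e⁻¹ := by group
        _ = e * k⁻¹ * (u'' * (k * ey * k⁻¹)) * k * e⁻¹ := by rw [h4]
        _ = _ := by group
  -- the end
  have fin : ∀ w' ∈ ws V Y, ∀ ey ∈ ee V Z Y, h.fn v (w' * e * w'⁻¹ * e⁻¹) = h.fn v ey →
      h.fn (k * (e⁻¹ * w * e) * k⁻¹) ey = 0 → (∃ x ∈ ws V Z, h.fn x ey ≠ 0) →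
      ∃ j ∈ IV M Z, j ∈ ee V Z Z ∧ w * j = j * w ∧ ∃ b ∈ ws V Y, b * j ≠ j * b := by
    intro w' hw' ey hey hfe hfw hfx
    have heyZ : ey ∈ kx V Z := h.ee_le_kx hYZ hey
    have hw'N : w' ∈ normalizer ((kx V Z : Subgroup G) : Set G) :=
      normalizer_le_kx V Z (centralizer_le_normalizer _ (h.one.W_le_C hY hw'))
    have hκ : w' * e * w'⁻¹ * e⁻¹ ∈ kx V Z :=
      (kx V Z).mul_mem ((mem_normalizer_iff.1 hw'N e).1 heZ) ((kx V Z).inv_mem heZ)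
    have hg1 : w' * e * w'⁻¹ * e⁻¹ * ey ∈ kx V Z := mul_mem hκ heyZ
    have hg1v : (w' * e * w'⁻¹ * e⁻¹ * ey) * v = v * (w' * e * w'⁻¹ * e⁻¹ * ey) := by
      rw [← h.fn_eq_zero hvW hg1, h.fn_mul' hvW hκ heyZ, hfe, CharTwo.add_self_eq_zero]
    have hg1M := h.one.lin_fix s.hM s.hX s.hXM s.hQ s.hQM (Ne.symm s.hQX) (kx_le_cent hg1) hv hv1 hg1v
    obtain ⟨j, hjI, hjZ, hj⟩ := h.one.jay_core s.hM s.hXM hY hYZ s.hQ s.hQM s.hQX hw' heW heZ heY hey hg hgQ hgZ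
      fun q hq => (mem_centralizer_iff.1 hg1M q (s.hQM hq)).symm
    have heYP : Pnt V Z (PT.cj e Y) := ⟨hY.cj.cj e, by
      have := cj_le_cj (g := e) |>.2 hY.le
      rwa [cj_eq_iff.2 heN] at this⟩
    have hEE : e * ey * e⁻¹ ∈ ee V Z (PT.cj e Y) := by
      rw [← cj_ee heN]
      exact conj_mem_cj hey
    refine ⟨j, hjI, ?_, ?_, ?_⟩
    · refine h.one.mem_ee_of hZ hY hYZ hjZ fun u hu => ?_
      rw [hj u hu]
      exact h.one.ee_act hY (Ne.symm heY) hEE hu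
    · have h1 := (key ey hey w hw).2 hfw
      have h2 := hj w hw
      have h3 : e * ey * e⁻¹ * w * (e * ey * e⁻¹)⁻¹ * w⁻¹ = 1 := by rw [h1]; group
      rw [h3, mul_inv_eq_one, mul_inv_eq_iff_eq_mul] at h2
      exact h2.symm
    · obtain ⟨x, hx, hxe⟩ := hfx
      have hb : e * (k⁻¹ * x * k) * e⁻¹ ∈ ws V Y := by
        have h1 : k⁻¹ * x * k ∈ ws V (PT.cj e⁻¹ Y) := by
          rw [← hk2, ws_cj, mem_cj] at hx
          exact hx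
        rw [ws_cj, mem_cj, inv_inv] at h1
        exact h1
      refine ⟨_, hb, fun hcon => hxe ?_⟩
      have h1 : k * (e⁻¹ * (e * (k⁻¹ * x * k) * e⁻¹) * e) * k⁻¹ = x := by group
      have h2 := (key ey hey _ hb).1 (by
        have h3 := hj _ hb
        have h4 : j * (e * (k⁻¹ * x * k) * e⁻¹) * j⁻¹ * (e * (k⁻¹ * x * k) * e⁻¹)⁻¹ = 1 := by
          rw [← hcon]; group
        rw [h4] at h3
        have h5 := h3.symm
        rwa [mul_inv_eq_one, mul_inv_eq_iff_eq_mul] at h5)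
      rwa [h1] at h2
  -- the functional
  rcases exists_functional (w := h.fm ⟨_, hkW w hw⟩) hvE (hk (h.fm ⟨v, hvW⟩)) (h.fn v (w * e * w⁻¹ * e⁻¹)) with
    ⟨f, hf, hfv, hfw, x, hfx⟩ | ⟨f, hf, hfv, hfw⟩
  · obtain ⟨ey, hey, hfe⟩ := h.dual_N hY hYZ (hT Y hY hYZ) f fun x hx => hf _ (h.fm_Eb (w := ⟨x, ee_le hx⟩) hx)
    refine fin 1 (one_mem _) ey hey ?_ ?_ ?_
    · have h1 : (1 : G) * e * (1 : G)⁻¹ * e⁻¹ = 1 := by group
      rw [h1, h.fn_one' hvW, ← hfe ⟨v, hvW⟩, hfv]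
    · rw [← hfe ⟨_, hkW w hw⟩, hfw]
    · obtain ⟨x', rfl⟩ := h.fm_surj x
      exact ⟨x', x'.2, by rw [← hfe x']; exact hfx⟩
  · obtain ⟨ey, hey, hfe⟩ := h.dual_N hY hYZ (hT Y hY hYZ) f fun x hx => hf _ (h.fm_Eb (w := ⟨x, ee_le hx⟩) hx)
    refine fin w hw ey hey ?_ ?_ ⟨v, hvW, ?_⟩
    · rw [← hfe ⟨v, hvW⟩, hfv]
    · rw [← hfe ⟨_, hkW w hw⟩, hfw]
    · rw [← hfe ⟨v, hvW⟩, hfv]
      -- `f_κ(v) = f_e([w, v])`
      have hwK : w ∈ normalizer ((kx V Z : Subgroup G) : Set G) :=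
        normalizer_le_kx V Z (centralizer_le_normalizer _ hwC)
      have h1 : w * e * w⁻¹ ∈ kx V Z := (mem_normalizer_iff.1 hwK e).1 heZ
      have h2 : h.fn v (w * e * w⁻¹) = h.fn (w * v * w⁻¹ * v⁻¹) e + h.fn v e := by
        have h3 := h.fn_conj (inv_mem hwC) hvW heZ
        rw [inv_inv] at h3
        rw [← h3, ← h.fn_mul hcW hvW heZ]
        congr 1
        rw [hwi]; group
      rw [h.fn_mul' hvW h1 (inv_mem heZ), h2, hei, add_assoc, CharTwo.add_self_eq_zero, add_zero]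
      intro h4
      exact hec ((h.fn_eq_zero hcW heZ).1 h4)

end Co

end Cfsg.Agent.Omega.NO3S.OneQ
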