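import Cfsg.Agent.Omega.NO3S.OneQ.Sg.KapM

/-!
# NO-3S, `OneSz` (`q ≥ 4`, `n = 1`), case (N), `k ≥ 2`: (S2) at every line vector (bb OMEGA #20317)

`Loc.at_S2_of` : transport from `v0` (`Co.S20`), arbitrary `I0`.
-/

set_option autoImplicit false
set_option linter.unusedSectionVars false

namespace Cfsg.Agent.Omega.NO3S.OneQ.TIq.Loc

variable {F M H : Type*} [Field F] [AddCommGroup M] [Module F M] [Group H] [DistribMulAction H M]
  [SMulCommClass H F M] {v0 : M} {A0 : Subgroup H} {I0 : Submodule F M} {al0 : M → H}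
  (D : Loc F v0 A0 I0 al0)
include D

/-- **(S2)** at every line vector -/
theorem at_S2_of (hS : ∀ {x : H} {y y' : M}, al0 (x • v0) ≠ 1 → al0 (x⁻¹ • v0) ≠ 1 → al0 y • x • v0 = x • v0 →
      al0 y' • x • v0 = x • v0 → ∃ f g : F, ¬ (f = 0 ∧ g = 0) ∧ al0 (f • y + g • y') = 1)
    {l m y y' : M} (hl : l ∈ LL F H v0) (hm : m ∈ LL F H v0) (h1 : AL F v0 al0 l m ≠ 1)
    (h2 : AL F v0 al0 m l ≠ 1) (hy : AL F v0 al0 l y • m = m) (hy' : AL F v0 al0 l y' • m = m) :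
    ∃ f g : F, ¬ (f = 0 ∧ g = 0) ∧ AL F v0 al0 l (f • y + g • y') = 1 := by
  obtain ⟨d, hd, hld⟩ := rr_spec F H hl
  obtain ⟨x, c, hc, hgm, hmc⟩ := D.exists_rep (l := l) hm
  rw [Ne, D.at_al_one' hd hld, hgm, D.al0_sm_iff hc] at h1
  have hxl : (rr F H v0 l * x)⁻¹ • l = d • x⁻¹ • v0 := by
    have e0 : (rr F H v0 l * x)⁻¹ • l = (rr F H v0 l * x)⁻¹ • d • rr F H v0 l • v0 := congrArg _ hld
    rw [e0, lin, ← mul_smul]
    have e : (rr F H v0 l * x)⁻¹ * rr F H v0 l = x⁻¹ := by group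
    rw [e]
  rw [Ne, D.at_al_one' hc hmc, hxl, D.al0_sm_iff hd] at h2
  have key : ∀ z : M, AL F v0 al0 l z • m = m → al0 ((rr F H v0 l)⁻¹ • z) • x • v0 = x • v0 := by
    intro z hz
    rw [D.act_AL, hgm, lin, lin] at hz
    have e1 : m = c • rr F H v0 l • x • v0 := by rw [← mul_smul]; exact hmc
    have e2 : c • rr F H v0 l • al0 ((rr F H v0 l)⁻¹ • z) • x • v0 = c • rr F H v0 l • x • v0 := hz.trans e1
    have e3 : rr F H v0 l • al0 ((rr F H v0 l)⁻¹ • z) • x • v0 = rr F H v0 l • x • v0 := by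
      have e4 : c • (rr F H v0 l • al0 ((rr F H v0 l)⁻¹ • z) • x • v0 - rr F H v0 l • x • v0) = 0 := by
        rw [smul_sub, e2, sub_self]
      exact sub_eq_zero.1 ((smul_eq_zero.1 e4).resolve_left hc)
    exact smul_left_cancel _ e3
  obtain ⟨f, g, hfg, h3⟩ := hS h1 h2 (key y hy) (key y' hy')
  refine ⟨f, g, hfg, ?_⟩
  rw [D.at_al_one, smul_add, lin, lin]
  exact h3

end Cfsg.Agent.Omega.NO3S.OneQ.TIq.Loc
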