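import Cfsg.Agent.Omega.NO3S.OneQ.Sg.Pre

/-!
# NO-3S, `OneSz` (`q ≥ 4`, `n = 1`), case (N), `k ≥ 2`: SIGMA (bb OMEGA #20317 (D), #20578)

* `SgJ` : `Pre` and J: for `m ∉ Ebar_l`, `l ∉ Ebar_m`, `a ∈ A_l`, `[m, a] ∉ Ebar_m` some `j ∈ I_m ∩ Ebar_l` is fixed
  by `a` and not by `A_l`;
* `Hyp` : `l`, `m` is a hyperbolic pair: `[λ_m, A_l] = λ_l`, `[λ_l, A_m] = λ_m`;
* **`SgJ.sigma`** : if `a ∈ A_l` inverts `o ≠ 1` of odd order, then `l`, `o l` is hyperbolic and `a` moves `o l`.
-/

set_option autoImplicit false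
set_option linter.unusedSimpArgs false
set_option linter.unusedSectionVars false

namespace Cfsg.Agent.Omega.NO3S.OneQ.Sg

open Module TIq

/-- an element of odd order is a power of its square -/
theorem odd_sq {H : Type*} [Group H] {o : H} (ho : Odd (orderOf o)) : ∃ k : ℕ, o = (o * o) ^ k := by
  obtain ⟨j, hj⟩ := ho
  refine ⟨j + 1, ?_⟩
  rw [← pow_two, ← pow_mul]
  have e : 2 * (j + 1) = orderOf o + 1 := by omega
  rw [e, pow_succ, pow_orderOf_eq_one, one_mul]

theorem odd_fix {H X : Type*} [Group H] [MulAction H X] {o : H} (ho : Odd (orderOf o)) {m : X}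
    (hm : (o * o) • m = m) : o • m = m := by
  obtain ⟨k, hk⟩ := odd_sq ho
  have h1 : ∀ k : ℕ, (o * o) ^ k • m = m := by
    intro k
    induction k with
    | zero => rw [pow_zero, one_smul]
    | succ n ih => rw [pow_succ, mul_smul, hm, ih]
  rw [hk]; exact h1 k

theorem odd_four {H : Type*} [Group H] {o : H} (ho : Odd (orderOf o)) (h4 : (o * o) * (o * o) = 1) : o = 1 := by
  have h5 : o ^ 4 = 1 := by
    calc o ^ 4 = (o * o) * (o * o) := by
          rw [show (4 : ℕ) = 2 * 2 from rfl, pow_mul, pow_two, pow_two]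
      _ = 1 := h4
  have h6 : orderOf o ∣ 4 := orderOf_dvd_of_pow_eq_one h5
  have h7 : Nat.Coprime (orderOf o) 4 := by
    have h8 : Nat.Coprime (orderOf o) 2 := Nat.Coprime.symm (Nat.coprime_two_left.mpr ho)
    exact Nat.Coprime.pow_right 2 h8
  have h8 : orderOf o = 1 := Nat.Coprime.eq_one_of_dvd h7 h6
  exact orderOf_eq_one_iff.mp h8

/-- a hyperbolic pair -/
structure Hyp {M H : Type*} [AddCommGroup M] [Group H] [DistribMulAction H M] (A : M → Subgroup H) (al : M → M → H)
    (l m : M) : Prop where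
  al1 : al l m = 1
  al2 : al m l = 1
  mv1 : ∃ a ∈ A l, a • m ≠ m
  mv2 : ∃ a ∈ A m, a • l ≠ l

theorem Hyp.symm {M H : Type*} [AddCommGroup M] [Group H] [DistribMulAction H M] {A : M → Subgroup H} {al : M → M → H}
    {l m : M} (h : Hyp A al l m) : Hyp A al m l := ⟨h.al2, h.al1, h.mv2, h.mv1⟩

/-- `Pre` and J -/
structure SgJ (F : Type*) {M H : Type*} [Field F] [AddCommGroup M] [Module F M] [Group H] [DistribMulAction H M]
    (L : Set M) (A : M → Subgroup H) (I : M → Submodule F M) (al : M → M → H) : Prop extends Pre F L A I al where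
  J : ∀ {l m : M} {a : H}, l ∈ L → m ∈ L → al l m ≠ 1 → al m l ≠ 1 → a ∈ A l → al m (a • m + m) ≠ 1 →
    ∃ j ∈ I m, al l j = 1 ∧ a • j = j ∧ ∃ b ∈ A l, b • j ≠ j

namespace Pre

variable {F M H : Type*} [Field F] [AddCommGroup M] [Module F M] [Group H] [DistribMulAction H M] {L : Set M}
    {A : M → Subgroup H} {I : M → Submodule F M} {al : M → M → H} (G : Pre F L A I al)
include G

section odd

variable {l : M} {a o : H} (hl : l ∈ L) (ha : a ∈ A l) (ho1 : o ≠ 1) (ho : Odd (orderOf o)) (hao : a * o * a⁻¹ = o⁻¹)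
include hl ha

include hao in
theorem odd_aa : o * a * o⁻¹ * a⁻¹ = o * o := by
  have h1 : a * o⁻¹ * a⁻¹ = o := by
    have : (a * o * a⁻¹)⁻¹ = a * o⁻¹ * a⁻¹ := by group
    rw [← this, hao, inv_inv]
  calc o * a * o⁻¹ * a⁻¹ = o * (a * o⁻¹ * a⁻¹) := by group
    _ = o * o := by rw [h1]

include ho1 ho hao in
/-- the point of `o l` is not the point of `l` -/
theorem odd_np : NP F l (o • l) := by
  intro c hc
  have hc0 : c ≠ 0 := by
    rintro rfl
    rw [zero_smul] at hc
    exact G.ne_zero (G.smul o hl) hc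
  have h1 := G.A_conj o hl ha
  rw [hc, G.A_sm hc0 hl] at h1
  have h2 := mul_mem h1 (inv_mem ha)
  rw [G.odd_aa hl ha hao] at h2
  exact ho1 (odd_four ho (G.sq hl h2))

include ho1 ho hao in
theorem odd_ne : o • l ≠ l := fun e => G.odd_np hl ha ho1 ho hao 1 (by rw [e, one_smul])

include hao in
/-- `o a` interchanges `l` and `o l` -/
theorem odd_swap : (o * a) • l = o • l ∧ (o * a) • (o • l) = l ∧ (o * a) * (o * a) = 1 ∧
    (o * a) * a * (o * a)⁻¹ = o * a * o⁻¹ := by
  have hal := G.A_fix hl ha
  have hai := G.inv hl ha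
  have h1 : o * a * o = a := by
    rw [hai] at hao
    calc o * a * o = o * (a * o * a) * a⁻¹ := by group
      _ = o * o⁻¹ * a⁻¹ := by rw [hao]
      _ = a := by rw [mul_inv_cancel, one_mul, hai]
  refine ⟨by rw [mul_smul, hal], by rw [smul_smul, h1, hal], ?_, by group⟩
  rw [← mul_assoc, h1, G.sq hl ha]

include ho1 ho hao in
theorem odd_move : a • (o • l) ≠ o • l := by
  intro h1
  have hal := G.A_fix hl ha
  have hai := G.inv hl ha
  have h2 := G.odd_aa hl ha hao
  have h3 : (o * a * o⁻¹) • (o • l) = o • l := by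
    rw [smul_smul, inv_mul_cancel_right, mul_smul, hal]
  have h4 : (o * o) • (o • l) = o • l := by
    rw [← h2, mul_smul, hai, h1, h3]
  have h5 := odd_fix ho h4
  exact G.odd_ne hl ha ho1 ho hao (by simpa using congrArg (fun x => o⁻¹ • x) h5)

end odd

end Pre

namespace SgJ

variable {F M H : Type*} [Field F] [AddCommGroup M] [Module F M] [Group H] [DistribMulAction H M] {L : Set M}
    {A : M → Subgroup H} {I : M → Submodule F M} {al : M → M → H} (G : SgJ F L A I al)
include G

/-- **SIGMA** -/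
theorem sigma {l : M} {a o : H} (hl : l ∈ L) (ha : a ∈ A l) (ho1 : o ≠ 1) (ho : Odd (orderOf o))
    (hao : a * o * a⁻¹ = o⁻¹) : Hyp A al l (o • l) ∧ a • (o • l) ≠ o • l := by
  have P := G.toPre
  have hmv := P.odd_move hl ha ho1 ho hao
  refine ⟨?_, hmv⟩
  obtain ⟨ht1, ht2, ht3, ht4⟩ := P.odd_swap hl ha hao
  have hal := P.A_fix hl ha
  have hai := P.inv hl ha
  obtain ⟨m, hm0⟩ : ∃ m, m = o • l := ⟨_, rfl⟩
  obtain ⟨t, ht0⟩ : ∃ t, t = o * a := ⟨_, rfl⟩
  obtain ⟨a', ha0⟩ : ∃ a', a' = o * a * o⁻¹ := ⟨_, rfl⟩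
  rw [← hm0, ← ht0] at ht1 ht2
  rw [← hm0] at hmv ⊢
  rw [← ht0] at ht3
  rw [← ha0, ← ht0] at ht4
  have hm : m ∈ L := hm0 ▸ P.smul o hl
  have hti : t⁻¹ = t := inv_eq_of_mul_eq_one_left ht3
  have ha' : a' ∈ A m := by rw [ha0, hm0]; exact P.A_conj o hl ha
  have ha'm : a' • m = m := P.A_fix hm ha'
  have haa : a' * a = o * o := by
    have := P.odd_aa hl ha hao
    rw [← ha0, hai] at this
    exact this
  have ht5 : ∀ x : M, t • (a • x) = a' • (t • x) := by
    intro x
    rw [← ht4, smul_smul, smul_smul]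
    congr 1
    rw [inv_mul_cancel_right]
  have ht6 : ∀ x : M, t • (a' • x) = a • (t • x) := by
    intro x
    have h1 := ht5 (t • x)
    rw [smul_smul t t, ht3, one_smul] at h1
    rw [← h1, smul_smul t t, ht3, one_smul]
  have ht7 : ∀ x : M, t • (t • x) = x := by
    intro x
    rw [smul_smul, ht3, one_smul]
  -- `t` maps `Ebar_m` to `Ebar_l`
  have htE : ∀ x, al m x = 1 → al l (t • x) = 1 := by
    intro x hx
    rw [P.al_ker hl]
    intro b hb
    have h1 : t * b * t⁻¹ ∈ A m := by
      have := P.A_conj t hl hb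
      rwa [ht1] at this
    obtain ⟨c, hc⟩ := (P.al_ker hm x).1 hx _ h1
    refine ⟨c, ?_⟩
    have h2 : b • (t • x) = t • ((t * b * t⁻¹) • x) := by
      rw [smul_smul, smul_smul]
      congr 1
      rw [hti, ← mul_assoc, ← mul_assoc, ht3, one_mul]
    rw [h2, hc, smul_add, P.lin, ht2]
  have hswap : t • (a • m + m) = a' • l + l := by rw [smul_add, ht5, ht2]
  by_cases hE : al m l = 1
  · -- `λ_l ≤ Ebar_m`
    refine ⟨?_, hE, ⟨a, ha, hmv⟩, ⟨a', ha', ?_⟩⟩
    · have := htE l hE
      rwa [ht1] at this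
    · intro h1
      apply hmv
      have h2 := congrArg (fun x => t • x) h1
      simp only [ht6, ht1] at h2
      exact h2
  · exfalso
    have hE' : al l m ≠ 1 := by
      intro h1
      apply hE
      -- use the symmetry
      rw [P.al_ker hm]
      intro b hb
      have h2 : t * b * t⁻¹ ∈ A l := by
        have := P.A_conj t hm hb
        rwa [ht2] at this
      obtain ⟨c, hc⟩ := (P.al_ker hl m).1 h1 _ h2
      refine ⟨c, ?_⟩
      have h3 : b • l = t • ((t * b * t⁻¹) • m) := by
        rw [smul_smul, ← ht2, smul_smul]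
        congr 1
        rw [hti, ← mul_assoc, ← mul_assoc, ht3, one_mul]
      rw [h3, hc, smul_add, P.lin, ht2, ht1]
    by_cases hw : al m (a • m + m) = 1
    · -- `[m, a] ∈ Ebar_m`
      obtain ⟨w, hw0⟩ : ∃ w, w = a • m + m := ⟨_, rfl⟩
      rw [← hw0] at hw
      have haw : a • w = w := P.fix hl ha (hw0 ▸ P.comm hl ha m)
      obtain ⟨c, hc⟩ := (P.al_ker hm w).1 hw a' ha'
      have ham : a • m = m + w := by rw [hw0, add_comm (a • m), P.two_left]
      by_cases hc0 : c = 0
      · -- `a'` fixes `w`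
        rw [hc0, zero_smul, add_zero] at hc
        have h1 : (o * o) • m = m + w := by rw [← haa, mul_smul, ham, smul_add, ha'm, hc]
        have h2 : (o * o) • w = w := by rw [← haa, mul_smul, haw, hc]
        have h3 : (o * o) • ((o * o) • m) = m := by
          rw [h1, smul_add, h1, h2, add_assoc, P.two, add_zero]
        -- `o⁴ m = m`
        have ho2 : Odd (orderOf (o * o)) := by
          rw [← pow_two]
          have h4 : Nat.Coprime (orderOf o) 2 := (Nat.coprime_two_left.mpr ho).symm
          rw [Nat.Coprime.orderOf_pow h4]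
          exact ho
        have h4 : (o * o) • m = m := odd_fix ho2 (by rw [mul_smul]; exact h3)
        have h5 := odd_fix ho h4
        apply P.odd_ne hl ha ho1 ho hao
        rw [hm0] at h5
        simpa using congrArg (fun x => o⁻¹ • x) h5
      · -- `U = F l + F w'`
        obtain ⟨w', hw'0⟩ : ∃ w', w' = a' • l + l := ⟨_, rfl⟩
        have htw : t • w = w' := by rw [hw0, hw'0, hswap]
        have htw' : t • w' = w := by rw [← htw, ht7]
        have haw' : a • w' = w' + c • l := by
          have h1 := congrArg (fun x => t • x) hc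
          simp only [ht6, smul_add, P.lin, ht2, htw] at h1
          exact h1
        have ha'w' : a' • w' = w' := P.fix hm ha' (hw'0 ▸ P.comm hm ha' l)
        have ha'l : a' • l = l + w' := by rw [hw'0, add_comm (a' • l), P.two_left]
        -- the invariant subspace
        have hinv : ∀ x y : F, (o * o) • (x • l + y • w') = (x + y * c) • l + (x + y * c + y) • w' := by
          intro x y
          rw [← haa, mul_smul, smul_add, P.lin a x, hal, P.lin a y, haw', smul_add, smul_add, P.lin, smul_add, P.lin,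
            P.lin, P.lin, ha'w', ha'l]
          rw [smul_smul]
          module
        obtain ⟨k, hk⟩ := odd_sq ho
        have hinvk : ∀ k : ℕ, ∀ x y : F, ∃ x' y' : F, (o * o) ^ k • (x • l + y • w') = x' • l + y' • w' := by
          intro k
          induction k with
          | zero => exact fun x y => ⟨x, y, by rw [pow_zero, one_smul]⟩
          | succ n ih =>
            intro x y
            rw [pow_succ, mul_smul, hinv]
            exact ih _ _
        obtain ⟨x, y, hxy⟩ := hinvk k 1 0
        have hmxy : m = x • l + y • w' := by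
          rw [← hxy, ← hk, one_smul, zero_smul, add_zero]
          exact hm0
        -- `a'` fixes `m`
        have h1 : x • w' = 0 := by
          have h2 := ha'm
          rw [hmxy, smul_add, P.lin, P.lin, ha'w', ha'l, smul_add] at h2
          have h3 : x • l + x • w' + y • w' = (x • l + y • w') + x • w' := by abel
          rw [h3] at h2
          exact add_eq_left.1 h2
        have hw'ne : w' ≠ 0 := by
          intro h2
          rw [h2, smul_zero, add_zero] at hmxy
          exact P.odd_np hl ha ho1 ho hao x (by rw [← hm0]; exact hmxy)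
        have hx : x = 0 := (smul_eq_zero.1 h1).resolve_right hw'ne
        rw [hx, zero_smul, zero_add] at hmxy
        -- `w' ∈ Ebar_l`
        have hw'E : al l w' = 1 := by rw [← htw]; exact htE w hw
        apply hE'
        rw [hmxy]
        exact P.al_sm_one hl y hw'E
    · -- J
      obtain ⟨j, hj, hjE, haj, b, hb, hbj⟩ := G.J hl hm hE' hE ha hw
      have h1 : a' • j = j := P.fix hm ha' hj
      have h2 : (o * o) • j = j := by rw [← haa, mul_smul, haj, h1]
      have h3 := odd_fix ho h2
      have h4 : j ∈ I l := by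
        have h5 := P.I_conj o⁻¹ hm hj
        have h6 : o⁻¹ • m = l := by rw [hm0, inv_smul_smul]
        have h7 : o⁻¹ • j = j := by
          conv_lhs => rw [← h3]
          rw [inv_smul_smul]
        rwa [h6, h7] at h5
      exact hbj (P.fix hl hb h4)

end SgJ

end Cfsg.Agent.Omega.NO3S.OneQ.Sg
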