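import Cfsg.Agent.Omega.NO3S.OneQ.Sg.TI
import Cfsg.Agent.Omega.NO3S.OneQ.Sg.Ax

/-!
# NO-3S, `OneSz` (`q ≥ 4`, `n = 1`), case (N), `k ≥ 2`: TI over `SgB` (bb OMEGA #20317 (H))

* **`SgB.ti`** : `SgB` + (G) (`T.Cop`) + (F) (`alt`, `ind`) + LEMMA PLANE (`fold`) ⟹ TI.
-/

set_option autoImplicit false
set_option linter.unusedSectionVars false

namespace Cfsg.Agent.Omega.NO3S.OneQ.Sg

open TIq (NP)

variable {F M H : Type*} [Field F] [AddCommGroup M] [Module F M] [Group H] [DistribMulAction H M] {L : Set M}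
    {A : M → Subgroup H} {I : M → Submodule F M} {al : M → M → H}

theorem Pre.toT (G : Pre F L A I al) : T.Pre F L A I al where
  two := G.two
  lin := G.lin
  zero := G.zero
  smul := G.smul
  fsm := G.fsm
  A_sm := G.A_sm
  I_sm := G.I_sm
  trans := G.trans
  A_conj := G.A_conj
  I_conj := G.I_conj
  sq := G.sq
  self := G.self
  comm := G.comm
  fix := G.fix
  plane := G.plane
  al_mem := G.al_mem
  al_add := G.al_add
  al_surj := G.al_surj
  al_conj := G.al_conj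
  al_ker := G.al_ker
  sy := G.sy
  bl := G.bl
  dual := G.dual

theorem Pre.hyp_toT [Finite H] (G : Pre F L A I al) {l w : M} (hl : l ∈ L) (hw : w ∈ L) (h : Hyp A al l w) :
    T.Hyp F L A l w where
  mem := hw
  back := fun a' ha' => (G.al_ker hw l).1 h.al2 a' ha'
  move := h.mv2
  tv := fun a ha haw b hb hbw => by
    obtain ⟨c', hc', hcl, hcc⟩ := G.hyp_surj hl hw h ha haw hb hbw
    refine ⟨c', hc', hcl, ?_⟩
    rw [G.A_comm hl ha hb, ← hcc, inv_mul_cancel_right]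
  cent := fun b hb hbw c' hc' hcl => G.hyp_comm hl hw h hb hbw hc' hcl
  inj := fun b hb _ hb1 a' ha' hal' hc => hb1 (G.hyp_free hw hl h.symm ha' hal' hb hc.symm)
  inj' := fun b' hb' _ hb1 a ha haw hc => hb1 (G.hyp_free hl hw h ha haw hb' hc.symm)

/-- **(H)** -/
theorem SgB.ti [Finite H] [Finite F] [FiniteDimensional F M] (G : SgB F L A I al) (C : T.Cop F L A I al)
    (alt : ∀ {l : M}, l ∈ L → ∀ x : M, ∃ c : F, al l x • x + x = c • l)
    (ind : ∀ {l : M}, l ∈ L → ∀ i j : M, T.Pre.Ind F al l i j → ∀ d : F, al l j • i + i ≠ d • l)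
    (fold : ∀ {l m : M}, l ∈ L → m ∈ L → m ∈ I l → NP F l m → (∀ a ∈ A m, a ∈ A l) →
      (∀ y, ∃ u v, al l u = 1 ∧ al m v = 1 ∧ y = u + v) → False)
    {l m : M} {a : H} (hl : l ∈ L) (hm : m ∈ L) (ha : a ∈ A l) (ham : a ∈ A m) (ha1 : a ≠ 1) :
    ∃ c : F, m = c • l :=
  G.toPre.toT.ti C alt ind
    (fun {l} hl θ hθ hθ' => by
      obtain ⟨w, hw, h, hf⟩ := G.axis hl hθ' hθ
      refine ⟨w, G.toPre.hyp_toT hl hw h, fun y => ?_⟩
      rw [hf y]
      constructor
      · intro h1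
        exact (smul_eq_zero.1 (add_eq_left.1 h1)).resolve_right (G.ne_zero hl)
      · intro h1
        rw [h1, zero_smul, add_zero])
    fold hl hm ha ham ha1

end Cfsg.Agent.Omega.NO3S.OneQ.Sg
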